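import Mathlib

/-!
Facts on the alternating group of degree six: the elements completing two involutions with product of order four.
-/

set_option autoImplicit false
set_option maxRecDepth 100000
set_option synthInstance.maxSize 4096
set_option synthInstance.maxHeartbeats 200000

namespace CfsgLib.SuzType.Ident

open Equiv

/-- A double transposition. -/
def dtr : alternatingGroup (Fin 6) := ⟨swap 0 1 * swap 2 3, by simp⟩

/-- The centralizer of `dtr`. -/
def dtrCent : List (alternatingGroup (Fin 6)) :=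
  [1, dtr, ⟨swap 0 2 * swap 1 3, by simp⟩, ⟨swap 0 3 * swap 1 2, by simp⟩, ⟨swap 0 1 * swap 4 5, by simp⟩,
    ⟨swap 2 3 * swap 4 5, by simp⟩, ⟨swap 0 2 * swap 2 1 * swap 1 3 * swap 4 5, by simp⟩,
    ⟨swap 0 3 * swap 3 1 * swap 1 2 * swap 4 5, by simp⟩]

/-- The relations of the completing element. -/
def Compl {X : Type*} [Monoid X] (z f g b : X) : Prop :=
  b * b = 1 ∧ b ≠ 1 ∧ (z * b) ^ 5 = 1 ∧ (b * f) ^ 3 = 1 ∧ (b * g) ^ 3 = 1 ∧ (b * f * g) ^ 5 = 1

instance {X : Type*} [Monoid X] [DecidableEq X] (z f g b : X) : Decidable (Compl z f g b) := by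
  unfold Compl; infer_instance

theorem dtr_cent : ∀ x : alternatingGroup (Fin 6), x * dtr = dtr * x → x ∈ dtrCent := by decide +kernel

theorem dtr_cent_card : Nat.card (Subgroup.centralizer ({dtr} : Set (alternatingGroup (Fin 6)))) = 8 := by
  haveI := Fintype.ofFinite (Subgroup.centralizer ({dtr} : Set (alternatingGroup (Fin 6))))
  rw [Nat.card_eq_fintype_card, Fintype.card_of_subtype dtrCent.toFinset fun x => by
    rw [List.mem_toFinset, Subgroup.mem_centralizer_singleton_iff]
    exact ⟨fun h => (by decide +kernel : ∀ y ∈ dtrCent, y * dtr = dtr * y) x h, dtr_cent x⟩]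
  decide +kernel

theorem dtr_conj : ∀ w : alternatingGroup (Fin 6), w * w = 1 → w ≠ 1 → ∃ p, p * w = dtr * p := by decide +kernel

theorem compl_facts : ∀ f ∈ dtrCent, ∀ g ∈ dtrCent, f * f = 1 → g * g = 1 → f * g * (f * g) = dtr →
    (∃ b, Compl dtr f g b) ∧ ((Finset.univ.filter fun b => Compl dtr f g b).card ≤ 4 ∧
      ∀ b, Compl dtr f g b → dtr * b ≠ b * dtr) ∧
    (∀ x ∈ dtrCent, x * f = f * x → x * g = g * x → x = 1 ∨ x = dtr) ∧
    ∀ x ∈ dtrCent, x ∈ [1, f, g, f * g, g * f, f * (g * f), g * (f * g), dtr] := by decide +kernel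

end CfsgLib.SuzType.Ident
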