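import Cfsg.Agent.Lib.SuzType.Ident.Maps
import Cfsg.Agent.Lib.SuzType.Local.CentF
import Cfsg.Agent.Lib.SuzType.Local.VStruct

/-!
Suzuki type: the element of order five, the element squaring it, the element of order three.
-/

set_option autoImplicit false
set_option linter.unusedSectionVars false

namespace CfsgLib.SuzType.Ident

open CfsgLib.SuzType CfsgLib.Classical Cfsg Subgroup
open scoped Pointwise

variable {G : Type*} [Group G] [Finite G] {z t : G} {Q R : Subgroup G} {π π' : G → V6} {ρ ρ' : G → qAut qm}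
  {r s ω au bu av bv : G} {m n u v : V6}

/-- The frame with the basis adapted to `au` and `av`. -/
structure Base (z t : G) (Q R : Subgroup G) (π π' : G → V6) (ρ ρ' : G → qAut qm) (r s au av : G)
    (p' m n : V6) : Prop where
  C : Config z t Q R π π' ρ ρ'
  B : Basis6 (π t) p' m n (π au) (π av)
  auQ : au ∈ Q
  avQ : av ∈ Q
  ract : Acts (π t) p' m n (π au) (π av) (ρ r) rM
  sact : Acts (π t) p' m n (π au) (π av) (ρ s) sM
  rau : r * au = au * r
  rav : r * av = av * r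
  rt : r * t = t * r
  sau : s * au = au * s
  sav : s * av = av * s
  rz : r * z = z * r
  sz : s * z = z * s
  r2 : r * r = 1
  s2 : s * s = 1

theorem exists_base (F : Frm z t Q R π π' ρ ρ' r s ω au bu av bv m n u v) :
    ∃ p', Base z t Q R π π' ρ ρ' r s au av p' m n := by
  have P := F.P
  have hQmem : ∀ {c : G} {x : V6}, Co z t Q R π ρ c x 0 → c ∈ Q ∧ Pm (π t) (π c + x) := by
    intro c x h
    obtain ⟨hx, -⟩ := P.co_perp h
    obtain ⟨q, hq, rfl⟩ := P.S.pi_surj x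
    have hqt : q * t = t * q := mem_centralizer_singleton_iff.1 ((P.mem_A hq).2 hx)
    obtain ⟨i, j, e⟩ := P.co_zero (P.co_mul (P.co_of_Q hq hqt) h) (.inl (add_self6 _)) (.inl (add_self6 _))
    have hcQ : c ∈ Q := by
      rw [show c = q⁻¹ * (q * c) by group, e]
      exact mul_mem (inv_mem hq) (P.zeta_mem i j).1
    exact ⟨hcQ, (P.co_unique (P.co_of_Q hcQ (P.co_comm_zt h).2) h).1⟩
  obtain ⟨hau, eu⟩ := hQmem F.cau
  obtain ⟨hav, ev⟩ := hQmem F.cav
  have hpu : pb (π t) (π au) = 0 := P.perp hau (P.co_comm_zt F.cau).2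
  have hpv : pb (π t) (π av) = 0 := P.perp hav (P.co_comm_zt F.cav).2
  have B4 : Basis4 (π t) m n (π au) (π av) := by
    refine ⟨F.B.m1, F.B.n1, ?_, ?_, F.B.pm, F.B.pn, hpu, hpv, F.B.mn, ?_, ?_, ?_, ?_, ?_, fun x hx => ?_⟩
    · rw [pm_quad P.p_sing eu F.B.pu]; exact F.B.u0
    · rw [pm_quad P.p_sing ev F.B.pv]; exact F.B.v0
    · rw [pm_polar eu hpv, pb_comm u, pm_polar ev F.B.pu, F.B.vu]
    · rw [pm_polar eu F.B.pm, F.B.um]
    · rw [pm_polar eu F.B.pn, F.B.un]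
    · rw [pm_polar ev F.B.pm, F.B.vm]
    · rw [pm_polar ev F.B.pn, F.B.vn]
    · have h := F.B.dec x hx
      have e1 : pb x (π av) = pb x v := by rw [pb_comm x, pb_comm x, pm_polar ev hx]
      have e2 : pb x (π au) = pb x u := by rw [pb_comm x, pb_comm x, pm_polar eu hx]
      rw [e1, e2]
      have hs : ∀ (c : ZMod 2) {w : V6}, Pm (π t) w → Pm (π t) (c • w) := fun c w hw => by
        rcases two_cases c with rfl | rfl
        · exact .inl (zero_smul _ _)
        · rwa [one_smul]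
      have := (h.add (hs (pb x v) eu)).add (hs (pb x u) ev)
      refine (congrArg (Pm (π t)) ?_).mp this
      funext i
      simp only [Pi.add_apply, Pi.smul_apply, smul_eq_mul]
      exact (by decide : ∀ a b c d e e' f g g' : ZMod 2,
        a + (b + c + d * e + f * g) + d * (e' + e) + f * (g' + g) = a + (b + c + d * e' + f * g')) _ _ _ _ _ _ _ _ _
  obtain ⟨p', B⟩ := exists_basis6 P.p_sing B4
  have fix : ∀ {c : G} {x y : V6}, Co z t Q R π ρ c x y → ∀ {a : G} {w : V6}, Co z t Q R π ρ a w 0 →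
      pb x w = 0 → pb y w = 0 → c * a = a * c := fun {c x y} hc {a w} ha h1 h2 => by
    rw [P.co_commute_iff hc ha, h1, pb_zero_right, pb_zero_right, pb_comm w y, h2]
    decide
  refine ⟨p', F.C, B, hau, hav, ?_, ?_, fix F.cr F.cau F.B.mu F.B.nu, fix F.cr F.cav F.B.mv F.B.nv,
    (P.co_comm_zt F.cr).2, fix F.cs F.cau F.B.nu ?_, fix F.cs F.cav F.B.nv ?_, F.r_co.1, F.s_co.1, F.r2, F.s2⟩
  · obtain ⟨h1, h2⟩ := P.co_rho F.cr
    exact acts_congr (acts_inT B h1 (k := 8) (by rw [lv_n]; exact h2) (by decide +kernel) (by decide +kernel)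
      (by decide +kernel)) (by decide +kernel)
  · obtain ⟨h1, h2⟩ := P.co_rho F.cs
    exact acts_congr (acts_inT B h1 (k := 12) (by
      rw [show (12 : ℕ) = 4 ^^^ 8 from rfl, lv_xor, lv_m, lv_n]; exact h2) (by decide +kernel) (by decide +kernel)
      (by decide +kernel)) (by decide +kernel)
  · rw [pb_add_left, F.B.mu, F.B.nu, add_zero]
  · rw [pb_add_left, F.B.mv, F.B.nv, add_zero]

namespace Base

variable {p' : V6} (K : Base z t Q R π π' ρ ρ' r s au av p' m n)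

include K

theorem S : Setup z Q π ρ := K.C.P.S

theorem au2 : au * au = 1 := by rw [K.S.sq _ K.auQ, K.B.u0, zb_zero]

theorem av2 : av * av = 1 := by rw [K.S.sq _ K.avQ, K.B.v0, zb_zero]

theorem au_av : au * av = z * (av * au) := by rw [K.S.comm K.auQ K.avQ, K.B.uv, zb_one]

theorem av_au : av * au = z * (au * av) := by rw [K.au_av, ← mul_assoc, K.S.z2, one_mul]

theorem conj_au : av * au * av⁻¹ = z * au := by
  rw [K.av_au]; group

theorem conj_av : au * av * au⁻¹ = z * av := by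
  rw [K.au_av]; group

theorem fau_z : au * av * (au * av) = z := by
  rw [K.S.sq _ (mul_mem K.auQ K.avQ), K.S.pi_mul _ K.auQ _ K.avQ, qm_add, K.B.u0, K.B.v0, K.B.uv,
    show (0 : ZMod 2) + 0 + 1 = 1 by decide, zb_one]

/-- Adjust a lift to act exactly on `au` and `av`. -/
theorem exists_adjust {c fu fv : G} (hc : c ∈ centralizer ({z} : Set G))
    (hu : c * au * c⁻¹ = fu ∨ c * au * c⁻¹ = z * fu) (hv : c * av * c⁻¹ = fv ∨ c * av * c⁻¹ = z * fv)
    (h : (fu = au ∧ fv = av) ∨ (fu = av ∧ fv = au)) :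
    ∃ q ∈ Q, q * c * au * (q * c)⁻¹ = fu ∧ q * c * av * (q * c)⁻¹ = fv := by
  have cz : ∀ {q : G}, q ∈ Q → ∀ x : G, q * (z * x) * q⁻¹ = z * (q * x * q⁻¹) := fun hq x => by
    rw [← mul_assoc, K.S.z_comm hq]; group
  have zz : ∀ x : G, z * (z * x) = x := fun x => by rw [← mul_assoc, K.S.z2, one_mul]
  have uu : au * au * au⁻¹ = au := by group
  have vv : av * av * av⁻¹ = av := by group
  have key : ∀ q ∈ Q, ∀ x, q * c * x * (q * c)⁻¹ = q * (c * x * c⁻¹) * q⁻¹ := fun q _ x => by group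
  have q2 : ∀ x : G, au * av * x * (au * av)⁻¹ = au * (av * x * av⁻¹) * au⁻¹ := fun x => by group
  rcases hu with hu | hu <;> rcases hv with hv | hv
  · exact ⟨1, one_mem _, by rw [one_mul, hu], by rw [one_mul, hv]⟩
  · rcases h with ⟨rfl, rfl⟩ | ⟨rfl, rfl⟩
    · exact ⟨_, K.auQ, by rw [key _ K.auQ, hu, uu], by rw [key _ K.auQ, hv, cz K.auQ, K.conj_av, zz]⟩
    · exact ⟨_, K.avQ, by rw [key _ K.avQ, hu, vv], by rw [key _ K.avQ, hv, cz K.avQ, K.conj_au, zz]⟩
  · rcases h with ⟨rfl, rfl⟩ | ⟨rfl, rfl⟩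
    · exact ⟨_, K.avQ, by rw [key _ K.avQ, hu, cz K.avQ, K.conj_au, zz], by rw [key _ K.avQ, hv, vv]⟩
    · exact ⟨_, K.auQ, by rw [key _ K.auQ, hu, cz K.auQ, K.conj_av, zz], by rw [key _ K.auQ, hv, uu]⟩
  · have m := mul_mem K.auQ K.avQ
    rcases h with ⟨rfl, rfl⟩ | ⟨rfl, rfl⟩
    · exact ⟨_, m, by rw [key _ m, hu, q2, cz K.avQ, K.conj_au, zz, uu],
        by rw [key _ m, hv, q2, cz K.avQ, vv, cz K.auQ, K.conj_av, zz]⟩
    · exact ⟨_, m, by rw [key _ m, hu, q2, cz K.avQ, vv, cz K.auQ, K.conj_av, zz],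
        by rw [key _ m, hv, q2, cz K.avQ, K.conj_au, zz, uu]⟩

theorem pi_conj {c : G} (hc : c ∈ centralizer ({z} : Set G)) {a : G} (ha : a ∈ Q) {b : G} (hb : b ∈ Q)
    (h : (ρ c).1 (π a) = π b) : c * a * c⁻¹ = b ∨ c * a * c⁻¹ = z * b :=
  K.S.pi_eq hb (K.S.conj_mem hc ha) (by rw [K.S.rho_pi c hc a ha, h])

theorem acts_pow_four {g : qAut qm} {M : List ℕ} (h : Acts (π t) p' m n (π au) (π av) g M) (hl : M.length = 6) :
    Acts (π t) p' m n (π au) (π av) (g * (g * (g * g))) (muM M (muM M (muM M M))) :=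
  acts_mul h (acts_mul h (acts_mul h h hl) (by simp [muM, hl])) (by simp [muM, hl])

end Base

/-- The element of order five and its squaring element. -/
structure Five (z t : G) (π : G → V6) (ρ : G → qAut qm) (r au av : G) (p' m n : V6) (f0 σ : G) : Prop where
  fz : f0 * z = z * f0
  h5 : orderOf f0 = 5
  fau : f0 * au = au * f0
  fav : f0 * av = av * f0
  inv : r * f0 * r⁻¹ = f0⁻¹
  act : Acts (π t) p' m n (π au) (π av) (ρ f0) f0M
  sz : σ * z = z * σ
  sau : σ * au * σ⁻¹ = av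
  sav : σ * av * σ⁻¹ = au
  ssq : σ * f0 * σ⁻¹ = f0 ^ 2

theorem Base.exists_five {p' : V6} (K : Base z t Q R π π' ρ ρ' r s au av p' m n) :
    ∃ f0 σ, Five z t π ρ r au av p' m n f0 σ := by
  classical
  have S := K.S
  have B := K.B
  have hC : ∀ {x}, x ∈ centralizer ({z} : Set G) → x * z = z * x := fun h => mem_centralizer_singleton_iff.1 h
  have hr : r ∈ centralizer ({z} : Set G) := mem_centralizer_singleton_iff.2 K.rz
  have hq : ∀ k, qc k = true → qm (lv (π t) p' m n (π au) (π av) k) = 1 := fun k hk => by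
    rw [B.qm_lv, hk]; simp
  have q3 := hq 3 (by decide); have q4 := hq 4 (by decide); have q5 := hq 5 (by decide)
  have q8 := hq 8 (by decide); have q9 := hq 9 (by decide); have q48 := hq 48 (by decide)
  have a1 : Acts (π t) p' m n (π au) (π av) ((rf _ q3 * rf _ q4) * (rf _ q8 * rf _ q9)) g5M :=
    acts_mul (acts_mul (acts_rf B q3) (acts_rf B q4) rfl) (acts_mul (acts_rf B q8) (acts_rf B q9) rfl) rfl
  have a2 : Acts (π t) p' m n (π au) (π av) ((rf _ q3 * rf _ q5) * (rf _ q8 * rf _ q48)) sgM :=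
    acts_mul (acts_mul (acts_rf B q3) (acts_rf B q5) rfl) (acts_mul (acts_rf B q8) (acts_rf B q48) rfl) rfl
  obtain ⟨η, hη, e1⟩ := (S.rho_range _).1 (mul_mem (rf_mul_mem q3 q4) (rf_mul_mem q8 q9))
  obtain ⟨ξ, hξ, e2⟩ := (S.rho_range _).1 (mul_mem (rf_mul_mem q3 q5) (rf_mul_mem q8 q48))
  rw [← e1] at a1
  rw [← e2] at a2
  -- fix `au` and `av`
  obtain ⟨q, hqQ, hu, hv⟩ := K.exists_adjust hη (fu := au) (fv := av)
    (K.pi_conj hη K.auQ K.auQ (by rw [a1.2.2.2.2.1, g5M_fix.1, lv_u]))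
    (K.pi_conj hη K.avQ K.avQ (by rw [a1.2.2.2.2.2, g5M_fix.2, lv_v])) (.inl ⟨rfl, rfl⟩)
  obtain ⟨q', hq'Q, hu', hv'⟩ := K.exists_adjust hξ (fu := av) (fv := au)
    (K.pi_conj hξ K.auQ K.avQ (by rw [a2.2.2.2.2.1, sgM_swap.1, lv_v]))
    (K.pi_conj hξ K.avQ K.auQ (by rw [a2.2.2.2.2.2, sgM_swap.2, lv_u])) (.inr ⟨rfl, rfl⟩)
  set h := q * η with hh
  set σ := q' * ξ with hσ
  have hhC : h ∈ centralizer ({z} : Set G) := mul_mem (S.le hqQ) hη
  have hσC : σ ∈ centralizer ({z} : Set G) := mul_mem (S.le hq'Q) hξ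
  have rh : Acts (π t) p' m n (π au) (π av) (ρ h) g5M := by
    rw [hh, S.rho_mul _ (S.le hqQ) _ hη, S.rho_Q hqQ, one_mul]; exact a1
  have rσ : Acts (π t) p' m n (π au) (π av) (ρ σ) sgM := by
    rw [hσ, S.rho_mul _ (S.le hq'Q) _ hξ, S.rho_Q hq'Q, one_mul]; exact a2
  have hhu : Commute h au := mul_inv_eq_iff_eq_mul.1 hu
  have hhv : Commute h av := mul_inv_eq_iff_eq_mul.1 hv
  set k := r * h⁻¹ * r * h with hk
  have hkC : k ∈ centralizer ({z} : Set G) := mul_mem (mul_mem (mul_mem hr (inv_mem hhC)) hr) hhC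
  have hku : Commute k au :=
    (((show Commute r au from K.rau).mul_left hhu.inv_left).mul_left K.rau).mul_left hhu
  have hkv : Commute k av :=
    (((show Commute r av from K.rav).mul_left hhv.inv_left).mul_left K.rav).mul_left hhv
  have ri : r⁻¹ = r := inv_eq_of_mul_eq_one_right K.r2
  have hkinv : r * k * r⁻¹ = k⁻¹ := by
    refine eq_inv_of_mul_eq_one_left ?_
    calc r * k * r⁻¹ * k = r * r * h⁻¹ * r * h * (r⁻¹ * r) * h⁻¹ * r * h := by rw [hk]; group
      _ = 1 * h⁻¹ * r * h * (r⁻¹ * r) * h⁻¹ * r * h := by rw [K.r2]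
      _ = h⁻¹ * (r * r) * h := by group
      _ = 1 := by rw [K.r2, mul_one, inv_mul_cancel]
  have hρr : ρ r * ρ r = 1 := by rw [← S.rho_mul _ hr _ hr, K.r2, S.rho_one]
  have hρk : ρ k = ρ h * ρ h := by
    have e5 : ρ h * (ρ h * (ρ h * (ρ h * ρ h))) = 1 :=
      acts_unique B (acts_congr (acts_mul rh (K.acts_pow_four rh rfl) rfl) g5M_five) acts_one
    have e4 : ρ r * ρ h * ρ r = ρ h * (ρ h * (ρ h * ρ h)) :=
      acts_unique B (acts_congr (acts_mul (acts_mul K.ract rh rfl) K.ract rfl) g5M_inv)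
        (K.acts_pow_four rh rfl)
    have e6 : ρ r * (ρ h)⁻¹ * ρ r = ρ h := by
      rw [inv_eq_of_mul_eq_one_right e5, ← e4,
        show ρ r * (ρ r * ρ h * ρ r) * ρ r = ρ r * ρ r * ρ h * (ρ r * ρ r) by group, hρr, one_mul, mul_one]
    rw [hk, S.rho_mul _ (mul_mem (mul_mem hr (inv_mem hhC)) hr) _ hhC, S.rho_mul _ (mul_mem hr (inv_mem hhC)) _ hr,
      S.rho_mul _ hr _ (inv_mem hhC), S.rho_inv hhC, e6]
  have ak : Acts (π t) p' m n (π au) (π av) (ρ k) f0M := by rw [hρk]; exact acts_mul rh rh rfl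
  have k5 : ρ k ^ 5 = 1 := by
    have := acts_unique B (acts_congr (acts_mul ak (K.acts_pow_four ak rfl) rfl) f0M_five) acts_one
    simpa [pow_succ, mul_assoc] using this
  have k20 : k ^ 20 = 1 := by
    have hkQ : k ^ 5 ∈ Q := (S.rho_ker _ (pow_mem hkC 5)).1 (by rw [rho_pow S hkC, k5])
    calc k ^ 20 = (k ^ 5 * k ^ 5) * (k ^ 5 * k ^ 5) := by rw [← pow_add, ← pow_add]
      _ = 1 := by
        rw [S.sq _ hkQ]
        rcases two_cases (qm (π (k ^ 5))) with e | e <;> rw [e]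
        · simp [zb_zero]
        · rw [zb_one, S.z2]
  set f0 := k ^ 16 with hf
  have hfC : f0 ∈ centralizer ({z} : Set G) := pow_mem hkC 16
  have rf0 : ρ f0 = ρ k := by rw [hf, rho_pow S hkC, pow_eq_pow_mod 16 k5, pow_one]
  have f5 : f0 ^ 5 = 1 := by rw [hf, ← pow_mul, show 16 * 5 = 20 * 4 from rfl, pow_mul, k20, one_pow]
  have hk1 : ρ k ≠ 1 := fun e => by
    have h := acts_one (p := π t) (p' := p') (m := m) (n := n) (u := π au) (v := π av)
    rw [← e] at h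
    have e1 := ak.1
    rw [h.1] at e1
    have e2 := ak.2.1
    rw [h.2.1] at e2
    exact f0M_ne (by
      have c1 := B.lv_inj (by decide) (by decide +kernel) e1
      have c2 := B.lv_inj (by decide) (by decide +kernel) e2
      revert c1 c2
      decide +kernel)
  have h5 : orderOf f0 = 5 := by
    haveI : Fact (Nat.Prime 5) := ⟨by norm_num⟩
    exact orderOf_eq_prime f5 fun e => hk1 (by rw [← rf0, e, S.rho_one])
  have hfu : Commute f0 au := hku.pow_left 16
  have hfv : Commute f0 av := hkv.pow_left 16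
  -- the conjugate by `σ`
  set μ := σ * f0 * σ⁻¹ with hμ
  have hμC : μ ∈ centralizer ({z} : Set G) := mul_mem (mul_mem hσC hfC) (inv_mem hσC)
  have rμ : ρ μ = ρ f0 ^ 2 := by
    have e : ρ σ * ρ f0 = (ρ f0 * ρ f0) * ρ σ := by
      rw [rf0]
      exact acts_unique B (acts_congr (acts_mul rσ ak rfl) sgM_conj) (acts_mul (acts_mul ak ak rfl) rσ rfl)
    rw [hμ, S.rho_mul _ (mul_mem hσC hfC) _ (inv_mem hσC), S.rho_mul _ hσC _ hfC, S.rho_inv hσC, e,
      mul_inv_cancel_right, pow_two]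
  have su : σ * au * σ⁻¹ = av := hu'
  have sv : σ * av * σ⁻¹ = au := hv'
  have hμu : Commute μ au := by rw [hμ, ← sv]; exact (Commute.conj_iff σ).2 hfv
  have hμv : Commute μ av := by rw [hμ, ← su]; exact (Commute.conj_iff σ).2 hfu
  -- Sylow subgroups of order five
  let U := centralizer ({z} : Set G) ⊓ centralizer ({au} : Set G) ⊓ centralizer ({av} : Set G)
  let φ : U →* qAut qm := MonoidHom.mk' (fun x => ρ (x : G)) fun a b =>
    S.rho_mul _ a.2.1.1 _ b.2.1.1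
  have memU : ∀ {x : G}, x ∈ centralizer ({z} : Set G) → Commute x au → Commute x av → x ∈ U :=
    fun h1 h2 h3 => ⟨⟨h1, mem_centralizer_singleton_iff.2 h2.eq⟩, mem_centralizer_singleton_iff.2 h3.eq⟩
  let Y : Subgroup U := (zpowers (ρ f0)).comap φ
  have hf0U := memU hfC hfu hfv
  have hμU := memU hμC hμu hμv
  let fY : Y := ⟨⟨f0, hf0U⟩, mem_zpowers (ρ f0)⟩
  let mY : Y := ⟨⟨μ, hμU⟩, show ρ μ ∈ zpowers (ρ f0) by rw [rμ]; exact pow_mem (mem_zpowers _) 2⟩
  haveI : Fact (Nat.Prime 5) := ⟨by norm_num⟩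
  let ψ : Y →* qAut qm := φ.comp Y.subtype
  have hrange : Nat.card ψ.range ∣ 5 := by
    have hle : ψ.range ≤ zpowers (ρ f0) := by rintro _ ⟨y, rfl⟩; exact y.2
    refine (card_dvd_of_le hle).trans ?_
    rw [Nat.card_zpowers]
    exact orderOf_dvd_of_pow_eq_one (by rw [rf0]; exact k5)
  have hker : IsPGroup 2 ψ.ker := by
    intro y
    have hyQ : ((y : Y) : G) ∈ Q := (S.rho_ker _ (y : Y).1.2.1.1).1 y.2
    refine ⟨2, Subtype.ext (Subtype.ext (Subtype.ext ?_))⟩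
    show ((y : Y) : G) ^ 2 ^ 2 = 1
    rw [show (2 : ℕ) ^ 2 = 2 * 2 from rfl, pow_mul, pow_two ((y : Y) : G), S.sq _ hyQ]
    rcases two_cases (qm (π ((y : Y) : G))) with e | e <;> rw [e]
    · simp [zb_zero]
    · rw [zb_one, pow_two, S.z2]
  have h25 : ¬ 5 ^ 2 ∣ Nat.card Y := by
    intro hd
    obtain ⟨j, hj⟩ := IsPGroup.iff_card.1 hker
    rw [Subgroup.card_eq_card_quotient_mul_card_subgroup ψ.ker,
      Nat.card_congr (QuotientGroup.quotientKerEquivRange ψ).toEquiv, hj] at hd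
    have := (Nat.Coprime.dvd_of_dvd_mul_right (Nat.Coprime.pow _ _ (by norm_num : Nat.Coprime 5 2)) hd).trans hrange
    norm_num at this
  have o5 : ∀ {y : Y}, orderOf ((y : U) : G) = 5 → Nat.card (zpowers y) = 5 ^ (Nat.card Y).factorization 5 := by
    intro y hy
    rw [Subgroup.orderOf_coe, Subgroup.orderOf_coe] at hy
    have h1 : 5 ^ 1 ∣ Nat.card Y := by rw [pow_one, ← hy]; exact orderOf_dvd_natCard y
    have h0 : Nat.card Y ≠ 0 := Nat.card_pos.ne'
    have hp : Nat.Prime 5 := by norm_num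
    have e1 := (hp.pow_dvd_iff_le_factorization h0).1 h1
    have e2 := mt (hp.pow_dvd_iff_le_factorization h0).2 h25
    rw [Nat.card_zpowers, hy, show (Nat.card Y).factorization 5 = 1 by omega, pow_one]
  have hm5 : orderOf μ = 5 := by
    rw [hμ, ← h5]
    exact orderOf_injective (MulAut.conj σ).toMonoidHom (MulAut.conj σ).injective f0
  let P1 : Sylow 5 Y := Sylow.ofCard (zpowers fY) (o5 h5)
  let P2 : Sylow 5 Y := Sylow.ofCard (zpowers mY) (o5 hm5)
  obtain ⟨y, hy⟩ := MulAction.exists_smul_eq Y P2 P1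
  have hmem : y * mY * y⁻¹ ∈ zpowers fY := by
    have : MulAut.conj y • (mY : Y) ∈ MulAut.conj y • (zpowers mY : Subgroup Y) :=
      Subgroup.smul_mem_pointwise_smul _ _ _ (mem_zpowers mY)
    have e : MulAut.conj y • (zpowers mY : Subgroup Y) = zpowers fY :=
      congrArg (fun P : Sylow 5 Y => (P : Subgroup Y)) hy
    rw [e] at this
    exact this
  obtain ⟨i, hi⟩ := mem_zpowers_iff.1 hmem
  set e : G := ((y : U) : G) with he
  have heC : e ∈ centralizer ({z} : Set G) := (y : U).2.1.1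
  have heq : e * μ * e⁻¹ = f0 ^ i := by
    have := congrArg (fun x : Y => ((x : U) : G)) hi
    simpa using this.symm
  have hcomm : ρ e * (ρ f0 ^ 2) = ρ f0 ^ 2 * ρ e := by
    obtain ⟨j, hj⟩ := mem_zpowers_iff.1 (show ρ e ∈ zpowers (ρ f0) from y.2)
    rw [← hj]
    exact ((Commute.refl (ρ f0)).zpow_left j).pow_right 2
  have hi2 : ρ f0 ^ i = ρ f0 ^ 2 := by
    let χ : centralizer ({z} : Set G) →* qAut qm := MonoidHom.mk' (fun x => ρ (x : G)) fun a b => S.rho_mul _ a.2 _ b.2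
    have h1 : χ (⟨f0, hfC⟩ ^ i) = ρ f0 ^ i := map_zpow χ _ i
    rw [← h1]
    show ρ ((⟨f0, hfC⟩ ^ i : centralizer ({z} : Set G)) : G) = _
    rw [SubgroupClass.coe_zpow, ← heq, S.rho_mul _ (mul_mem heC hμC) _ (inv_mem heC), S.rho_mul _ heC _ hμC, rμ,
      hcomm, S.rho_inv heC, mul_inv_cancel_right]
  have ho : orderOf (ρ f0) = 5 := orderOf_eq_prime (by rw [rf0]; exact k5) (by rw [rf0]; exact hk1)
  have hfi : f0 ^ i = f0 ^ 2 := by
    rw [← zpow_natCast f0 2, zpow_eq_zpow_iff_modEq, h5, ← ho, ← zpow_eq_zpow_iff_modEq, zpow_natCast]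
    exact hi2
  refine ⟨f0, e * σ, hC hfC, h5, hfu.eq, hfv.eq, ?_, by rw [rf0]; exact ak, ?_, ?_, ?_, ?_⟩
  · rw [hf, ← conj_pow, hkinv, inv_pow]
  · exact hC (mul_mem heC hσC)
  · rw [show e * σ * au * (e * σ)⁻¹ = e * (σ * au * σ⁻¹) * e⁻¹ by group, su, mul_inv_eq_iff_eq_mul]
    exact mem_centralizer_singleton_iff.1 (y : U).2.2
  · rw [show e * σ * av * (e * σ)⁻¹ = e * (σ * av * σ⁻¹) * e⁻¹ by group, sv, mul_inv_eq_iff_eq_mul]
    exact mem_centralizer_singleton_iff.1 (y : U).2.1.2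
  · rw [show e * σ * f0 * (e * σ)⁻¹ = e * μ * e⁻¹ by rw [hμ]; group, heq, hfi]

end CfsgLib.SuzType.Ident
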