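import Cfsg.Agent.Lib.SuzType.Ident.FiveCent
import Cfsg.Agent.Lib.SuzType.Ident.AltSixData
import Cfsg.Agent.Lib.SuzType.Ident.Elems

/-!
Suzuki type: in the centralizer of an element of order five the fourth generator, and the choice of the element
of the second kind centralizing the simple part.
-/

set_option autoImplicit false
set_option linter.style.haveILetI false
set_option linter.unusedSectionVars false

namespace CfsgLib.SuzType.Ident

open CfsgLib.SuzType CfsgLib.Classical Subgroup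

section Six

variable {X : Type*} [Group X]

theorem compl_map {Y : Type*} [Group Y] (φ : X ≃* Y) {z f g b : X} :
    Compl (φ z) (φ f) (φ g) (φ b) ↔ Compl z f g b := by
  simp only [Compl, ← map_mul, ← map_pow, MulEquiv.map_eq_one_iff, ne_eq]

theorem eq_top_of_card_dvd [Finite X] [IsSimpleGroup X] (h360 : Nat.card X = 360) (H : Subgroup X)
    (h : 120 ∣ Nat.card H) : H = ⊤ := by
  classical
  by_contra hne
  obtain ⟨k, hk⟩ := h
  have hi := card_mul_index H
  rw [h360, hk, mul_assoc] at hi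
  have h3 : H.index ≤ 3 := Nat.le_of_dvd (by norm_num) ⟨k, by
    rw [mul_comm]; exact (Nat.eq_of_mul_eq_mul_left (by norm_num : 0 < 120)
      (show 120 * (k * H.index) = 120 * 3 from hi)).symm⟩
  have hcore : H.normalCore = ⊥ := by
    refine (IsSimpleGroup.eq_bot_or_eq_top_of_normal H.normalCore inferInstance).resolve_right fun e => hne ?_
    exact top_le_iff.1 (e ▸ normalCore_le H)
  haveI := Fintype.ofFinite (X ⧸ H)
  have hinj : Function.Injective (MulAction.toPermHom X (X ⧸ H)) :=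
    (MonoidHom.ker_eq_bot_iff _).1 ((normalCore_eq_ker H).symm.trans hcore)
  have := Nat.card_le_card_of_injective _ hinj
  rw [h360, Nat.card_perm, ← Subgroup.index] at this
  have := this.trans (Nat.factorial_le h3)
  norm_num [Nat.factorial] at this

/-- The facts needed in a group isomorphic to the alternating group of degree six. -/
theorem six_facts [Finite X] (e : X ≃* alternatingGroup (Fin 6)) {z f g : X} (hz2 : z * z = 1) (hz1 : z ≠ 1)
    (hf : f * f = 1) (hg : g * g = 1) (hfg : f * g * (f * g) = z) :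
    (∃ b, Compl z f g b) ∧
    (∀ x, x * f = f * x → x * g = g * x → x = 1 ∨ x = z) ∧
    ∀ σ : X ≃* X, σ z = z → σ f = g → σ g = f →
      (∀ y, σ (σ y) = y) ∨ ∀ y, σ (σ y) = z * y * z⁻¹ := by
  classical
  obtain ⟨p, hp⟩ := dtr_conj (e z) (by rw [← map_mul, hz2, map_one]) (fun h => hz1 (e.map_eq_one_iff.1 h))
  let φ : X ≃* alternatingGroup (Fin 6) := e.trans (MulAut.conj p)
  have hφ : φ z = dtr := by
    show p * e z * p⁻¹ = dtr
    rw [hp, mul_inv_cancel_right]
  have hcz : ∀ x, x * z = z * x → φ x ∈ dtrCent := fun x h =>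
    dtr_cent _ (by rw [← hφ, ← map_mul, ← map_mul, h])
  have hgf : g * f * (g * f) = z := by
    rw [← inv_eq_of_mul_eq_one_right hz2, ← hfg, mul_inv_rev, mul_inv_rev, inv_eq_of_mul_eq_one_right hf,
      inv_eq_of_mul_eq_one_right hg]
  have hfz : f * z = z * f := by
    calc f * z = f * (g * f * (g * f)) := by rw [hgf]
      _ = f * g * (f * g) * f := by group
      _ = z * f := by rw [hfg]
  have hgz : g * z = z * g := by
    calc g * z = g * (f * g * (f * g)) := by rw [hfg]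
      _ = g * f * (g * f) * g := by group
      _ = z * g := by rw [hgf]
  obtain ⟨⟨b0, hb0⟩, ⟨h4, hnc⟩, hcen, hwords⟩ := compl_facts _ (hcz f hfz) _ (hcz g hgz)
    (by rw [← map_mul, hf, map_one]) (by rw [← map_mul, hg, map_one])
    (by rw [← hφ, ← map_mul, ← map_mul, hfg])
  obtain ⟨b, rfl⟩ := φ.surjective b0
  rw [← hφ, compl_map] at hb0
  refine ⟨⟨b, hb0⟩, fun x hxf hxg => ?_, fun σ sz sf sg => ?_⟩
  · have hxz : x * z = z * x := by
      rw [← hfg]
      exact (((show Commute x f from hxf).mul_right hxg).mul_right ((show Commute x f from hxf).mul_right hxg)).eq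
    rcases hcen (φ x) (hcz x hxz) (by rw [← map_mul, ← map_mul, hxf]) (by rw [← map_mul, ← map_mul, hxg]) with h | h
    · exact .inl (φ.map_eq_one_iff.1 h)
    · exact .inr (φ.injective (h.trans hφ.symm))
  -- the completing elements
  let B : Finset X := (Finset.univ.filter fun c => Compl dtr (φ f) (φ g) c).map φ.symm.toEquiv.toEmbedding
  have memB : ∀ {c : X}, c ∈ B ↔ Compl z f g c := fun {c} => by
    simp only [B, Finset.mem_map_equiv, Finset.mem_filter, Finset.mem_univ, true_and]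
    rw [← hφ]
    exact compl_map φ
  have hB4 : B.card ≤ 4 := by rw [Finset.card_map]; exact h4
  let c : X → X := fun y => z * y * z⁻¹
  have czz : ∀ y, c (c y) = y := fun y => by
    show z * (z * y * z⁻¹) * z⁻¹ = y
    calc z * (z * y * z⁻¹) * z⁻¹ = (z * z) * y * (z * z)⁻¹ := by group
      _ = y := by rw [hz2]; group
  have hcf : c f = f := mul_inv_eq_iff_eq_mul.2 hfz.symm
  have hcg : c g = g := mul_inv_eq_iff_eq_mul.2 hgz.symm
  have hcB : ∀ {y}, y ∈ B → c y ∈ B ∧ c y ≠ y := fun {y} hy => by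
    have hy' := memB.1 hy
    refine ⟨memB.2 ?_, fun e' => ?_⟩
    · have := (compl_map (MulAut.conj z) (z := z) (f := f) (g := g) (b := y)).2 hy'
      simpa only [MulAut.conj_apply, mul_inv_cancel_right, show z * f * z⁻¹ = f from hcf,
        show z * g * z⁻¹ = g from hcg] using this
    · refine hnc (φ y) ((hφ ▸ (compl_map φ).2 hy' : Compl dtr (φ f) (φ g) (φ y))) ?_
      rw [← hφ, ← map_mul, ← map_mul]
      exact congrArg φ (mul_inv_eq_iff_eq_mul.1 e')
  have hσc : ∀ y, σ (c y) = c (σ y) := fun y => by simp [c, sz]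
  have hσB : ∀ {y}, y ∈ B → σ y ∈ B := fun {y} hy => by
    have h := (compl_map σ).2 (memB.1 hy)
    rw [sz, sf, sg] at h
    obtain ⟨h1, h2, h3, h4', h5, h6⟩ := h
    refine memB.2 ⟨h1, h2, h3, h5, h4', ?_⟩
    -- the two words of order five are conjugate up to inversion
    have e' : σ y * f * g = (σ y * (σ y * g * f)⁻¹ * (σ y)⁻¹) := by
      rw [mul_inv_rev, mul_inv_rev, inv_eq_of_mul_eq_one_right hf, inv_eq_of_mul_eq_one_right hg,
        inv_eq_of_mul_eq_one_right h1]
      rw [mul_assoc (σ y) (f * (g * σ y)) (σ y), mul_assoc f, mul_assoc g, h1, mul_one, mul_assoc]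
    rw [e', conj_pow, inv_pow, h6, inv_one, mul_one, mul_inv_cancel]
  have hb := memB.2 hb0
  have hσ2 : σ (σ b) = b ∨ σ (σ b) = c b := by
    by_cases h1 : σ b = b ∨ σ b = c b
    · rcases h1 with h1 | h1
      · exact .inl (by rw [h1, h1])
      · exact .inl (by rw [h1, hσc, h1, czz])
    push Not at h1
    by_contra h2
    push Not at h2
    -- the pair of `σ b` would be stable, so that of `b` as well
    have hsub : ({b, c b, σ b, c (σ b)} : Finset X) ⊆ B := by
      simp only [Finset.insert_subset_iff, Finset.singleton_subset_iff]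
      exact ⟨hb, (hcB hb).1, hσB hb, (hcB (hσB hb)).1⟩
    have hcard : ({b, c b, σ b, c (σ b)} : Finset X).card = 4 := by
      refine Finset.card_eq_four.2 ⟨b, c b, σ b, c (σ b), (hcB hb).2.symm, h1.1.symm, ?_, h1.2.symm, ?_,
        (hcB (hσB hb)).2.symm, rfl⟩
      · exact fun e' => h1.2 (by have := congrArg c e'; rwa [czz, eq_comm] at this)
      · exact fun e' => h1.1 (by have := congrArg c e'; rwa [czz, czz, eq_comm] at this)
    have heq := Finset.eq_of_subset_of_card_le hsub (by rw [hcard]; exact hB4)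
    have h3 : σ (σ b) ∈ ({b, c b, σ b, c (σ b)} : Finset X) := heq ▸ hσB (hσB hb)
    simp only [Finset.mem_insert, Finset.mem_singleton] at h3
    rcases h3 with h3 | h3 | h3 | h3
    · exact h2.1 h3
    · exact h2.2 h3
    · exact h1.1 (σ.injective h3)
    · rw [← hσc] at h3
      exact h1.2 (σ.injective h3)
  -- the equalizer is everything
  haveI : IsSimpleGroup X := by
    haveI : IsSimpleGroup ↥(alternatingGroup (Fin 6)) := alternatingGroup.isSimpleGroup (by simp)
    haveI : Nontrivial X := ⟨⟨z, 1, hz1⟩⟩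
    exact IsSimpleGroup.isSimpleGroup_of_surjective (f := e.symm.toMonoidHom) e.symm.surjective
  have h360 : Nat.card X = 360 := by
    rw [Nat.card_congr e.toEquiv, Nat.card_eq_fintype_card, card_alternatingGroup, Fintype.card_fin]
    rfl
  have key : ∀ ψ : X →* X, ψ f = f → ψ g = g → σ (σ b) = ψ b → ∀ y, σ (σ y) = ψ y := by
    intro ψ pf pg pb
    let H := MonoidHom.eqLocus (σ.toMonoidHom.comp σ.toMonoidHom) ψ
    have hfH : f ∈ H := show σ (σ f) = ψ f by rw [sf, sg, pf]
    have hgH : g ∈ H := show σ (σ g) = ψ g by rw [sg, sf, pg]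
    have hbH : b ∈ H := show σ (σ b) = ψ b from pb
    have hzH : z ∈ H := hfg ▸ mul_mem (mul_mem hfH hgH) (mul_mem hfH hgH)
    have h8 : 8 ∣ Nat.card H := by
      have hle : centralizer ({z} : Set X) ≤ H := fun x hx => by
        have hw := hwords _ (hcz x (mem_centralizer_singleton_iff.1 hx))
        simp only [List.mem_cons, List.not_mem_nil, or_false, ← map_mul, φ.map_eq_one_iff, ← hφ,
          EmbeddingLike.apply_eq_iff_eq] at hw
        rcases hw with rfl | rfl | rfl | rfl | rfl | rfl | rfl | rfl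
        exacts [one_mem _, hfH, hgH, mul_mem hfH hgH, mul_mem hgH hfH, mul_mem hfH (mul_mem hgH hfH),
          mul_mem hgH (mul_mem hfH hgH), hzH]
      have h8' : Nat.card (centralizer ({z} : Set X)) = 8 := by
        have hm : (centralizer ({z} : Set X)).map φ.toMonoidHom = centralizer ({dtr} : Set _) := by
          ext y
          obtain ⟨x, rfl⟩ := φ.surjective y
          rw [mem_centralizer_singleton_iff, ← hφ, ← map_mul, ← map_mul, φ.injective.eq_iff,
            ← mem_centralizer_singleton_iff]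
          exact ⟨fun ⟨w, hw, e'⟩ => φ.injective e' ▸ hw, fun h => ⟨x, h, rfl⟩⟩
        rw [Nat.card_congr ((centralizer ({z} : Set X)).equivMapOfInjective φ.toMonoidHom φ.injective).toEquiv,
          hm, dtr_cent_card]
      exact h8' ▸ card_dvd_of_le hle
    obtain ⟨b2, b1, zb5, bf3, -, -⟩ := hb0
    have h3 : 3 ∣ Nat.card H := by
      have ho : orderOf (b * f) = 3 := by
        haveI : Fact (Nat.Prime 3) := ⟨Nat.prime_three⟩
        refine orderOf_eq_prime bf3 fun e' => (hcB hb).2 ?_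
        rw [mul_eq_one_iff_eq_inv.1 e', inv_eq_of_mul_eq_one_right hf, hcf]
      exact ho ▸ orderOf_dvd_natCard H (mul_mem hbH hfH)
    have h5 : 5 ∣ Nat.card H := by
      have ho : orderOf (z * b) = 5 := by
        haveI : Fact (Nat.Prime 5) := ⟨by norm_num⟩
        refine orderOf_eq_prime zb5 fun e' => (hcB hb).2 ?_
        rw [← inv_eq_of_mul_eq_one_right e', inv_eq_of_mul_eq_one_right hz2]
        exact mul_inv_cancel_right z z
      exact ho ▸ orderOf_dvd_natCard H (mul_mem hzH hbH)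
    have htop : H = ⊤ := eq_top_of_card_dvd h360 H (by omega)
    intro y
    exact (htop ▸ mem_top y : y ∈ H)
  rcases hσ2 with h | h
  · exact .inl (key (MonoidHom.id X) rfl rfl h)
  · exact .inr fun y => key (MulAut.conj z).toMonoidHom hcf hcg h y

end Six

variable {G : Type*} [Group G] [Finite G] {z t : G} {Q R : Subgroup G} {π π' : G → V6} {ρ ρ' : G → qAut qm}
  {r s ω au bu av bv : G} {m n u v : V6}

/-- The centralizer of an element of order five supplies the fourth generator. -/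
theorem five_core (F : Frm z t Q R π π' ρ ρ' r s ω au bu av bv m n u v) {f0 : G} (hfz : f0 * z = z * f0)
    (h5 : orderOf f0 = 5) (hfu : f0 * au = au * f0) (hfv : f0 * av = av * f0) {σ : G}
    (hr : r * f0 * r⁻¹ = f0⁻¹) (hσz : σ * z = z * σ) (hσu : σ * au * σ⁻¹ = av) (hσv : σ * av * σ⁻¹ = au)
    (hσf : σ * f0 * σ⁻¹ = f0 ^ 2) :
    ∃ (X : Subgroup G) (r' b : G), au ∈ X ∧ av ∈ X ∧ commutator X = ⊤ ∧ (∀ x ∈ X, x * f0 = f0 * x) ∧
      (r' = r ∨ r' = z * r) ∧ (∀ x ∈ X, r' * x = x * r') ∧ b ∈ X ∧ b * b = 1 ∧ (z * b) ^ 5 = 1 ∧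
      (b * au) ^ 3 = 1 ∧ (b * av) ^ 3 = 1 ∧ (b * au * av) ^ 5 = 1 ∧ b ≠ 1 := by
  classical
  obtain ⟨p', K⟩ := exists_base F
  obtain ⟨X, hX, ⟨e⟩, hXf, hdec, h8, hinv⟩ := F.five_cent hfz h5
  have mem8 : ∀ {y : G}, y * f0 = f0 * y → y * y = 1 → y ∈ X := fun {y} hy h2 => h8 y hy (by
    rw [show 8 = 2 * 4 from rfl, pow_mul, pow_two, h2, one_pow])
  have hzX := mem8 hfz.symm K.S.z2
  have huX := mem8 hfu.symm K.au2
  have hvX := mem8 hfv.symm K.av2
  haveI : IsSimpleGroup X := by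
    haveI : IsSimpleGroup ↥(alternatingGroup (Fin 6)) := alternatingGroup.isSimpleGroup (by simp)
    haveI : Nontrivial X := e.toEquiv.nontrivial
    exact IsSimpleGroup.isSimpleGroup_of_surjective (f := e.symm.toMonoidHom) e.symm.surjective
  have hperf : commutator X = ⊤ := by
    refine (IsSimpleGroup.eq_bot_or_eq_top_of_normal (commutator X) inferInstance).resolve_left fun hb => ?_
    have hc : ∀ x y : X, x * y = y * x := fun x y => by
      rw [← commutatorElement_eq_one_iff_mul_comm, ← mem_bot, ← hb]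
      exact commutator_mem_commutator (mem_top x) (mem_top y)
    letI : CommGroup X := { (inferInstance : Group X) with mul_comm := hc }
    have := IsSimpleGroup.prime_card (α := X)
    rw [hX] at this
    norm_num at this
  obtain ⟨hex, hcen, hsig⟩ := six_facts (X := X) e (z := ⟨z, hzX⟩) (f := ⟨au, huX⟩) (g := ⟨av, hvX⟩)
    (Subtype.ext K.S.z2) (fun h => K.S.z1 (congrArg Subtype.val h)) (Subtype.ext K.au2) (Subtype.ext K.av2)
    (Subtype.ext K.fau_z)
  obtain ⟨⟨b, hbX⟩, b2, b1, zb5, bu3, bv3, buv5⟩ := hex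
  have hf5 : f0 ^ 5 = 1 := h5 ▸ pow_orderOf_eq_one f0
  have hinvσ : ∀ x ∈ X, σ * x * σ⁻¹ ∈ X := hinv σ ⟨2, hσf⟩
  have hσi : σ⁻¹ * f0 * σ⁻¹⁻¹ = f0 ^ 3 := by
    have h6 : σ * f0 ^ 3 * σ⁻¹ = f0 := by
      rw [← conj_pow, hσf, ← pow_mul, show 2 * 3 = 5 + 1 from rfl, pow_succ, hf5, one_mul]
    nth_rewrite 1 [← h6]
    group
  have hinvσ' : ∀ x ∈ X, σ⁻¹ * x * σ⁻¹⁻¹ ∈ X := hinv σ⁻¹ ⟨3, hσi⟩
  let σX : X ≃* X :=
    { toFun := fun x => ⟨σ * x * σ⁻¹, hinvσ x x.2⟩
      invFun := fun x => ⟨σ⁻¹ * x * σ⁻¹⁻¹, hinvσ' x x.2⟩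
      left_inv := fun x => Subtype.ext (by simp [mul_assoc])
      right_inv := fun x => Subtype.ext (by simp [mul_assoc])
      map_mul' := fun x y => Subtype.ext (by simp [mul_assoc]) }
  have hss := hsig σX (Subtype.ext (mul_inv_eq_iff_eq_mul.2 hσz)) (Subtype.ext hσu) (Subtype.ext hσv)
  obtain ⟨c, hc, hcX, hcy⟩ : ∃ c, (c = 1 ∨ c = z) ∧ c ∈ X ∧ ∀ y ∈ X, σ * σ * y * (σ * σ)⁻¹ = c * y * c⁻¹ := by
    rcases hss with h | h
    · refine ⟨1, .inl rfl, one_mem _, fun y hy => ?_⟩
      have := congrArg Subtype.val (h ⟨y, hy⟩)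
      simpa [σX, mul_assoc] using this
    · refine ⟨z, .inr rfl, hzX, fun y hy => ?_⟩
      have := congrArg Subtype.val (h ⟨y, hy⟩)
      simpa [σX, mul_assoc] using this
  -- `r` differs from the square of `σ` by an element of the centralizer
  have hsf : σ * σ * f0 * (σ * σ)⁻¹ = f0⁻¹ := by
    calc σ * σ * f0 * (σ * σ)⁻¹ = σ * (σ * f0 * σ⁻¹) * σ⁻¹ := by group
      _ = σ * f0 ^ 2 * σ⁻¹ := by rw [hσf]
      _ = (σ * f0 * σ⁻¹) ^ 2 := by rw [conj_pow]
      _ = f0⁻¹ := by
        rw [hσf, ← pow_mul, eq_inv_iff_mul_eq_one, ← pow_succ]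
        exact hf5
  have hs1 : σ * σ * f0⁻¹ * (σ * σ)⁻¹ = f0 := by
    have h := congrArg (·⁻¹) hsf
    simpa [mul_assoc] using h
  have hr1 : r * f0⁻¹ * r⁻¹ = f0 := by
    have h := congrArg (·⁻¹) hr
    simpa [mul_assoc] using h
  obtain ⟨i, x, hxX, hrx⟩ := hdec (r * (σ * σ)⁻¹) (by
    calc r * (σ * σ)⁻¹ * f0 = r * (σ * σ)⁻¹ * (σ * σ * f0⁻¹ * (σ * σ)⁻¹) := by rw [hs1]
      _ = r * f0⁻¹ * r⁻¹ * (r * (σ * σ)⁻¹) := by group
      _ = f0 * (r * (σ * σ)⁻¹) := by rw [hr1])
  have hconj : ∀ y ∈ X, r * y * r⁻¹ = x * c * y * (x * c)⁻¹ := fun y hy => by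
    have hxy : x * (c * y * c⁻¹) * x⁻¹ ∈ X := mul_mem (mul_mem hxX (mul_mem (mul_mem hcX hy) (inv_mem hcX))) (inv_mem hxX)
    have hfi : f0 ^ i * (x * (c * y * c⁻¹) * x⁻¹) * (f0 ^ i)⁻¹ = x * (c * y * c⁻¹) * x⁻¹ :=
      mul_inv_eq_iff_eq_mul.2 ((show Commute f0 _ from (hXf _ hxy).symm).pow_left i).eq
    calc r * y * r⁻¹ = r * (σ * σ)⁻¹ * (σ * σ * y * (σ * σ)⁻¹) * (r * (σ * σ)⁻¹)⁻¹ := by group
      _ = f0 ^ i * (x * (c * y * c⁻¹) * x⁻¹) * (f0 ^ i)⁻¹ := by rw [hrx, hcy y hy]; group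
      _ = x * c * y * (x * c)⁻¹ := by rw [hfi]; group
  have hxc : ∀ y ∈ X, r * y = y * r → x * c * y = y * (x * c) := fun y hy h =>
    mul_inv_eq_iff_eq_mul.1 ((hconj y hy).symm.trans (mul_inv_eq_iff_eq_mul.2 h))
  obtain ⟨ε, hε, hεX⟩ : ∃ ε, (ε = 1 ∨ ε = z) ∧ x * c = ε := by
    rcases hcen ⟨x * c, mul_mem hxX hcX⟩ (Subtype.ext (hxc au huX K.rau)) (Subtype.ext (hxc av hvX K.rav)) with h | h
    · exact ⟨1, .inl rfl, congrArg Subtype.val h⟩
    · exact ⟨z, .inr rfl, congrArg Subtype.val h⟩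
  refine ⟨X, ε * r, b, huX, hvX, hperf, hXf, ?_, fun y hy => ?_, hbX, congrArg Subtype.val b2,
    congrArg Subtype.val zb5, congrArg Subtype.val bu3, congrArg Subtype.val bv3, congrArg Subtype.val buv5,
    fun h => b1 (Subtype.ext h)⟩
  · rcases hε with rfl | rfl
    · exact .inl (one_mul r)
    · exact .inr rfl
  · have hεε : ε * ε = 1 := by
      rcases hε with rfl | rfl
      · exact mul_one 1
      · exact K.S.z2
    have h := hconj y hy
    rw [hεX] at h
    calc ε * r * y = ε * (r * y * r⁻¹) * r := by group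
      _ = ε * ε * y * ε⁻¹ * r := by rw [h]; group
      _ = y * (ε * r) := by rw [hεε, inv_eq_of_mul_eq_one_right hεε]; group

end CfsgLib.SuzType.Ident
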