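import Cfsg.Agent.Lib.SuzType.Ident.Gens

/-!
Suzuki type: the homomorphism from the centralizer of an element of order five.
-/

set_option autoImplicit false
set_option linter.unusedSectionVars false

namespace CfsgLib.SuzType.Ident

open CfsgLib.SuzType CfsgLib.Classical Cfsg Subgroup

variable {G : Type*} [Group G] [Finite G] {z t : G} {Q R : Subgroup G} {π π' : G → V6} {ρ ρ' : G → qAut qm}
  {r s ω au bu av bv τ : G} {m n u v : V6}

/-- The element of order five with its centralizer, moved to the position where `r` centralises the simple part. -/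
theorem exists_core (F : Frm z t Q R π π' ρ ρ' r s ω au bu av bv m n u v)
    (five : ∀ {f0 : G}, f0 * z = z * f0 → orderOf f0 = 5 → f0 * au = au * f0 → f0 * av = av * f0 →
      ∀ {σ : G}, r * f0 * r⁻¹ = f0⁻¹ → σ * z = z * σ → σ * au * σ⁻¹ = av → σ * av * σ⁻¹ = au →
      σ * f0 * σ⁻¹ = f0 ^ 2 →
      ∃ (X : Subgroup G) (r' b : G), au ∈ X ∧ av ∈ X ∧ commutator X = ⊤ ∧ (∀ x ∈ X, x * f0 = f0 * x) ∧
        (r' = r ∨ r' = z * r) ∧ (∀ x ∈ X, r' * x = x * r') ∧ b ∈ X ∧ b * b = 1 ∧ (z * b) ^ 5 = 1 ∧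
        (b * au) ^ 3 = 1 ∧ (b * av) ^ 3 = 1 ∧ (b * au * av) ^ 5 = 1 ∧ b ≠ 1) :
    ∃ (f0 b : G) (X : Subgroup G), Core z au av r f0 b X ∧
      ∀ {p' : V6}, Base z t Q R π π' ρ ρ' r s au av p' m n → Acts (π t) p' m n (π au) (π av) (ρ f0) f0M := by
  obtain ⟨p', K⟩ := exists_base F
  obtain ⟨f0, σ, H⟩ := K.exists_five
  obtain ⟨X, r', b, hu, hv, hperf, hfX, hr', hrX, hbX, b2, zb5, bu3, bv3, buv5, b1⟩ :=
    five H.fz H.h5 H.fau H.fav H.inv H.sz H.sau H.sav H.ssq
  have hact : ∀ {p'' : V6}, Base z t Q R π π' ρ ρ' r s au av p'' m n →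
      Acts (π t) p'' m n (π au) (π av) (ρ f0) f0M := fun {p''} K'' => by
    have : p'' = p' := by
      obtain ⟨i, hi, rfl⟩ := K.B.lv_surj p''
      have hb : ∀ (k : ℕ) (c : Bool), pb (lv (π t) p' m n (π au) (π av) i) (lv (π t) p' m n (π au) (π av) k) =
          (if c then 1 else 0) → pc i k = c := fun k c h => by
        rw [K.B.pb_lv] at h
        revert h
        cases pc i k <;> cases c <;> simp
      have h1 := hb 1 true (by rw [lv_p, pb_comm, K''.B.pp']; simp)
      have h4 := hb 4 false (by rw [lv_m, K''.B.p'm]; simp)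
      have h8 := hb 8 false (by rw [lv_n, K''.B.p'n]; simp)
      have h16 := hb 16 false (by rw [lv_u, K''.B.p'u]; simp)
      have h32 := hb 32 false (by rw [lv_v, K''.B.p'v]; simp)
      have h0 : qc i = false := by
        have h := K''.B.p'0
        rw [K.B.qm_lv] at h
        revert h
        cases qc i <;> simp
      have key : ∀ j : Fin 64, pc j.val 1 = true → pc j.val 4 = false → pc j.val 8 = false → pc j.val 16 = false →
          pc j.val 32 = false → qc j.val = false → j.val = 2 := by decide +kernel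
      rw [show i = 2 from key ⟨i, hi⟩ h1 h4 h8 h16 h32 h0, lv_p']
    subst this
    exact H.act
  have f5 : f0 ^ 5 = 1 := by rw [← H.h5, pow_orderOf_eq_one]
  rcases hr' with rfl | rfl
  · exact ⟨f0, b, X, ⟨H.fz, f5, H.fau, H.fav, hu, hv, hperf, fun x hx => (hfX x hx).symm, hrX, hbX, b2, b1, zb5, bu3,
      bv3, buv5⟩, hact⟩
  · obtain ⟨q, hq, hqt, hqu, hqv, hqr⟩ := exists_flip F
    have hqz : q * z = z * q := F.P.S.z_comm hq
    let ψ : G →* G := (MulAut.conj q⁻¹).toMonoidHom
    have hψ : ∀ x, ψ x = q⁻¹ * x * q := fun x => by simp [ψ]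
    have fix : ∀ {x : G}, q * x = x * q → ψ x = x := fun {x} h => by
      rw [hψ, mul_assoc, ← h, inv_mul_cancel_left]
    have hz' := fix hqz
    have hu' := fix hqu
    have hv' := fix hqv
    have cm : ∀ {x y : G}, x * y = y * x → ψ x * ψ y = ψ y * ψ x := fun h => by rw [← map_mul, h, map_mul]
    have hr : ψ (z * r) = r := by rw [hψ, ← hqr]; group
    refine ⟨ψ f0, ψ b, X.map ψ, ⟨by simpa [hz'] using cm H.fz, by rw [← map_pow, f5, map_one],
      by simpa [hu'] using cm H.fau, by simpa [hv'] using cm H.fav, hu' ▸ mem_map_of_mem ψ hu,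
      hv' ▸ mem_map_of_mem ψ hv, ?_, ?_, ?_, mem_map_of_mem ψ hbX, by rw [← map_mul, b2, map_one],
      fun h => b1 ((map_eq_one_iff ψ (MulAut.conj q⁻¹).injective).1 h),
      by rw [← hz', ← map_mul, ← map_pow, zb5, map_one], by rw [← hu', ← map_mul, ← map_pow, bu3, map_one],
      by rw [← hv', ← map_mul, ← map_pow, bv3, map_one],
      by rw [← hu', ← hv', ← map_mul, ← map_mul, ← map_pow, buv5, map_one]⟩, fun {p''} K'' => ?_⟩
    · have h := congrArg (Subgroup.map (X.equivMapOfInjective ψ (MulAut.conj q⁻¹).injective).toMonoidHom) hperf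
      rw [Subgroup.map_top_of_surjective _ (MulEquiv.surjective _), map_commutator_eq,
        MonoidHom.range_eq_top_of_surjective _ (MulEquiv.surjective _), ← commutator_def] at h
      exact h
    · rintro _ ⟨x, hx, rfl⟩
      exact cm (hfX x hx).symm
    · rintro _ ⟨x, hx, rfl⟩
      rw [← hr]
      exact cm (hrX x hx)
    · have hqC := F.P.S.le hq
      have hfC : f0 ∈ centralizer ({z} : Set G) := mem_centralizer_singleton_iff.2 H.fz
      rw [hψ, F.P.S.rho_mul _ (mul_mem (inv_mem hqC) hfC) _ hqC, F.P.S.rho_mul _ (inv_mem hqC) _ hfC,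
        F.P.S.rho_Q hq, F.P.S.rho_Q (inv_mem hq), one_mul, mul_one]
      exact hact K''

end CfsgLib.SuzType.Ident
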