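import Mathlib
import Cfsg.Prelude.Def_Spor_Suz

/-!
A homomorphism out of the presented Suzuki group from seven elements and their relations.
-/

set_option autoImplicit false

set_option linter.unusedSimpArgs false

namespace CfsgLib.SuzType.Ident

open Cfsg.Spor

variable {G : Type*} [Group G]

/-- The relations of the seven elements. -/
structure Rels (a b c d e f g : G) : Prop where
  a2 : a * a = 1
  b2 : b * b = 1
  c2 : c * c = 1
  d2 : d * d = 1
  e2 : e * e = 1
  f2 : f * f = 1
  g2 : g * g = 1
  ab : (a * b) ^ 5 = 1
  bc : (b * c) ^ 3 = 1
  cd : (c * d) ^ 8 = 1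
  de : (d * e) ^ 3 = 1
  bf : (b * f) ^ 3 = 1
  fg : (f * g) ^ 4 = 1
  gb : (g * b) ^ 3 = 1
  ac : a * c = c * a
  ad : a * d = d * a
  ae : a * e = e * a
  af : a * f = f * a
  ag : a * g = g * a
  bd : b * d = d * b
  be : b * e = e * b
  ce : c * e = e * c
  cf : c * f = f * c
  cg : c * g = g * c
  df : d * f = f * d
  dg : d * g = g * d
  ef : e * f = f * e
  eg : e * g = g * e
  cda : (c * d) ^ 4 = a
  fga : (f * g) ^ 2 = a
  abcf : (a * b * c * f) ^ 5 = 1
  bfg : (b * f * g) ^ 5 = 1
  last : ((b * c * d * c * d) ^ 5 * e) ^ 3 = 1

theorem pow_swap {x y : G} {n : ℕ} (h : (x * y) ^ n = 1) : (y * x) ^ n = 1 := by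
  rw [show y * x = x⁻¹ * (x * y) * x⁻¹⁻¹ by group, conj_pow, h]
  group

theorem pow_two_of_comm {x y : G} (h : x * y = y * x) (hx : x * x = 1) (hy : y * y = 1) : (x * y) ^ 2 = 1 := by
  rw [pow_two, show x * y * (x * y) = x * (y * x) * y by group, ← h,
    show x * (x * y) * y = x * x * (y * y) by group, hx, hy, one_mul]

/-- The images of the generators. -/
def genMap (a b c d e f g : G) : Suz.Gen → G
  | .a => a | .b => b | .c => c | .d => d | .e => e | .f => f | .g => g

theorem Rels.exists_hom' {a b c d e f g : G} (R : Rels a b c d e f g) :
    ∃ θ : Cfsg.Spor.Suz →* G, ∀ x, θ (PresentedGroup.of x) = genMap a b c d e f g x := by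
  set F := genMap a b c d e f g with hF
  have hsq : ∀ x, F x * F x = 1 := fun x => by
    cases x
    exacts [R.a2, R.b2, R.c2, R.d2, R.e2, R.f2, R.g2]
  have two : ∀ x y : Suz.Gen, F x * F y = F y * F x → (F x * F y) ^ 2 = 1 := fun x y h =>
    pow_two_of_comm h (hsq x) (hsq y)
  have h : ∀ r ∈ coxRelators Suz.edges ∪ {r | r ∈ Suz.extra}, FreeGroup.lift F r = 1 := by
    rintro r (⟨x, -, y, -, rfl⟩ | hr)
    · rw [map_pow, map_mul, FreeGroup.lift_apply_of, FreeGroup.lift_apply_of]
      cases x <;> cases y <;>
        simp only [coxLabel, Suz.edges, reduceCtorEq, reduceIte, List.find?, decide_eq_true_eq, and_false, false_and,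
          or_false, false_or, and_self, or_self, decide_false, decide_true, pow_one, true_and, and_true, true_or,
          or_true]
      all_goals
        first
          | exact hsq _
          | exact R.ab | exact pow_swap R.ab | exact R.bc | exact pow_swap R.bc
          | exact R.cd | exact pow_swap R.cd | exact R.de | exact pow_swap R.de
          | exact R.bf | exact pow_swap R.bf | exact R.fg | exact pow_swap R.fg
          | exact R.gb | exact pow_swap R.gb
          | (refine two _ _ ?_
             first
              | exact R.ac
              | exact R.ac.symm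
              | exact R.ad
              | exact R.ad.symm
              | exact R.ae
              | exact R.ae.symm
              | exact R.af
              | exact R.af.symm
              | exact R.ag
              | exact R.ag.symm
              | exact R.bd
              | exact R.bd.symm
              | exact R.be
              | exact R.be.symm
              | exact R.ce
              | exact R.ce.symm
              | exact R.cf
              | exact R.cf.symm
              | exact R.cg
              | exact R.cg.symm
              | exact R.df
              | exact R.df.symm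
              | exact R.dg
              | exact R.dg.symm
              | exact R.ef
              | exact R.ef.symm
              | exact R.eg
              | exact R.eg.symm)
    · simp only [Suz.extra, List.mem_cons, List.not_mem_nil, or_false, Set.mem_ofPred_eq] at hr
      rcases hr with rfl | rfl | rfl | rfl | rfl <;>
        simp only [map_mul, map_pow, map_inv, FreeGroup.lift_apply_of, Suz.a, Suz.b, Suz.c, Suz.d, Suz.e, Suz.f,
          Suz.g]
      · rw [mul_inv_eq_one]; exact R.cda.symm
      · rw [mul_inv_eq_one]; exact R.fga.symm
      · exact R.abcf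
      · exact R.bfg
      · exact R.last
  exact ⟨PresentedGroup.toGroup h, fun x => PresentedGroup.toGroup.of h⟩

/-- The images of two generators. -/
theorem Rels.exists_hom {a b c d e f g : G} (R : Rels a b c d e f g) :
    ∃ θ : Cfsg.Spor.Suz →* G, θ (PresentedGroup.of Suz.Gen.a) = a ∧ θ (PresentedGroup.of Suz.Gen.e) = e := by
  obtain ⟨θ, h⟩ := R.exists_hom'
  exact ⟨θ, h _, h _⟩

end CfsgLib.SuzType.Ident
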