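import Cfsg.Agent.Lib.Suz.CentLower
import Cfsg.Agent.Lib.SuzType.Local.GroupOrder

/-!
Suzuki type: a homomorphism from the presented group hitting both centralisers is an isomorphism.
-/

set_option autoImplicit false
set_option linter.style.haveILetI false

namespace CfsgLib.SuzType.Ident

open CfsgLib.SuzType CfsgLib.Classical Cfsg Subgroup
open scoped Pointwise

variable {G : Type*} [Group G] [Finite G]

/-- An injective homomorphism matching the sizes of two centralisers carries one onto the other. -/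
theorem map_centralizer {H : Type*} [Group H] (θ : H →* G) (hθ : Function.Injective θ) (x : H)
    (h : Nat.card (centralizer ({θ x} : Set G)) ≤ Nat.card (centralizer ({x} : Set H))) :
    centralizer ({θ x} : Set G) ≤ θ.range := by
  have hle : (centralizer ({x} : Set H)).map θ ≤ centralizer ({θ x} : Set G) := by
    rintro _ ⟨y, hy, rfl⟩
    exact mem_centralizer_singleton_iff.2 (by rw [← map_mul, mem_centralizer_singleton_iff.1 hy, map_mul])
  have e : (centralizer ({x} : Set H)).map θ = centralizer ({θ x} : Set G) :=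
    eq_of_le_of_card_ge hle (by rw [card_map_of_injective hθ]; exact h)
  rw [← e]
  exact map_le_range θ _

theorem conj_cent_le {M : Subgroup G} {x c : G} (h : centralizer ({x} : Set G) ≤ M) (hc : c ∈ M) :
    centralizer ({c * x * c⁻¹} : Set G) ≤ M := by
  intro d hd
  have hd' := mem_centralizer_singleton_iff.1 hd
  have h1 : c⁻¹ * d * c ∈ M := h (mem_centralizer_singleton_iff.2 (by
    calc c⁻¹ * d * c * x = c⁻¹ * (d * (c * x * c⁻¹)) * c := by group
      _ = c⁻¹ * (c * x * c⁻¹ * d) * c := by rw [hd']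
      _ = x * (c⁻¹ * d * c) := by group))
  have h2 := mul_mem (mul_mem hc h1) (inv_mem hc)
  rwa [show c * (c⁻¹ * d * c) * c⁻¹ = d by group] at h2

/-- Two involutions are conjugate or some involution commutes with both. -/
theorem invol_pair {a b : G} (ha : a * a = 1) (hb : b * b = 1) :
    IsConj a b ∨ ∃ i, i * i = 1 ∧ i ≠ 1 ∧ i * a = a * i ∧ i * b = b * i := by
  set x := a * b with hx
  have hai : a⁻¹ = a := inv_eq_of_mul_eq_one_right ha
  have hbi : b⁻¹ = b := inv_eq_of_mul_eq_one_right hb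
  have hinv : a * x * a⁻¹ = x⁻¹ := by
    rw [hx, mul_inv_rev, hbi, hai, ← mul_assoc a, ha, one_mul]
  have hpow : ∀ j : ℕ, a * x ^ j * a⁻¹ = (x ^ j)⁻¹ := fun j => by rw [← conj_pow, hinv, inv_pow]
  have hne : orderOf x ≠ 0 := (orderOf_pos x).ne'
  rcases Nat.even_or_odd (orderOf x) with ⟨k, hk⟩ | ⟨k, hk⟩
  · have h1 : x ^ k * x ^ k = 1 := by rw [← pow_add, ← hk, pow_orderOf_eq_one]
    have hk0 : x ^ k ≠ 1 := pow_ne_one_of_lt_orderOf (by omega) (by omega)
    have hca : x ^ k * a = a * x ^ k := by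
      have h := hpow k
      rw [inv_eq_of_mul_eq_one_right h1, mul_inv_eq_iff_eq_mul] at h
      exact h.symm
    refine Or.inr ⟨x ^ k, h1, hk0, hca, ?_⟩
    have hcx : Commute (x ^ k) x := (Commute.refl x).pow_left k
    have e : b = a * x := by rw [hx, ← mul_assoc, ha, one_mul]
    calc x ^ k * b = x ^ k * (a * x) := by rw [← e]
      _ = a * (x * x ^ k) := by rw [← mul_assoc, hca, mul_assoc, hcx.eq]
      _ = b * x ^ k := by rw [← mul_assoc, ← e]
  · refine Or.inl (isConj_iff.2 ⟨(x ^ (k + 1))⁻¹, ?_⟩)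
    have h := hpow (k + 1)
    have e : a * x ^ (k + 1) = (x ^ (k + 1))⁻¹ * a := mul_inv_eq_iff_eq_mul.1 h
    have hb' : b = a * x := by rw [hx, ← mul_assoc, ha, one_mul]
    have hm : x ^ (k + 1) * x ^ (k + 1) = x := by
      rw [← pow_add, show k + 1 + (k + 1) = orderOf x + 1 by omega, pow_succ, pow_orderOf_eq_one,
        one_mul]
    calc (x ^ (k + 1))⁻¹ * a * (x ^ (k + 1))⁻¹⁻¹ = (x ^ (k + 1))⁻¹ * a * x ^ (k + 1) := by rw [inv_inv]
      _ = a * x ^ (k + 1) * x ^ (k + 1) := by rw [e]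
      _ = b := by rw [mul_assoc, hm, hb']

variable {z t : G} {Q R : Subgroup G} {π π' : G → V6} {ρ ρ' : G → qAut qm}
  {r s ω au bu av bv : G} {m n u v : V6}

/-- A homomorphism from the presented group sending the two generators to `z` and `r` is bijective. -/
theorem iso_of_hom (F : Frm z t Q R π π' ρ ρ' r s ω au bu av bv m n u v) (θ : Cfsg.Spor.Suz →* G)
    (ha : θ (PresentedGroup.of Cfsg.Spor.Suz.Gen.a) = z)
    (he : θ (PresentedGroup.of Cfsg.Spor.Suz.Gen.e) = r) : Cfsg.Spor.IsoSuz G := by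
  obtain ⟨τ, O⟩ := F.outer_exists
  haveI := CfsgLib.Suz.simple
  haveI := CfsgLib.Suz.card_suz.1
  have S := F.P.S
  have hinj : Function.Injective θ := by
    refine (MonoidHom.ker_eq_bot_iff θ).1 ((θ.normal_ker).eq_bot_or_eq_top.resolve_right fun h => S.z1 ?_)
    rw [← ha]
    exact MonoidHom.mem_ker.1 (h ▸ mem_top _)
  set M := θ.range with hM
  have hMcard : Nat.card M = 448345497600 := by
    rw [← Nat.card_congr (MonoidHom.ofInjective hinj).toEquiv, CfsgLib.Suz.card_suz.2]
  have hzM : z ∈ M := ⟨_, ha⟩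
  have hrM : r ∈ M := ⟨_, he⟩
  have hCz : centralizer ({z} : Set G) ≤ M := by
    rw [← ha]
    refine map_centralizer θ hinj _ ?_
    rw [ha, S.card_C]
    exact CfsgLib.Suz.cent_a_lower
  have hCr : centralizer ({r} : Set G) ≤ M := by
    rw [← he]
    refine map_centralizer θ hinj _ ?_
    rw [he, F.card_Cr O]
    exact CfsgLib.Suz.cent_e_lower
  -- every involution of `M` commutes with an `M`-conjugate of `z`
  haveI : Fact (Nat.Prime 2) := ⟨Nat.prime_two⟩
  obtain ⟨T⟩ : Nonempty (Sylow 2 (centralizer ({z} : Set G))) := inferInstance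
  let T' : Subgroup M := (T : Subgroup _).map (inclusion hCz)
  have hT' : Nat.card T' = 2 ^ (Nat.card M).factorization 2 := by
    rw [card_map_of_injective (inclusion_injective hCz), T.card_eq_multiplicity, S.card_C, hMcard]
    have e1 : (3317760 : ℕ).factorization 2 = (448345497600 : ℕ).factorization 2 := by
      have a1 := (Nat.prime_two.pow_dvd_iff_le_factorization (show (3317760 : ℕ) ≠ 0 by norm_num)).1
        (show 2 ^ 13 ∣ 3317760 by norm_num)
      have a2 := mt (Nat.prime_two.pow_dvd_iff_le_factorization (show (3317760 : ℕ) ≠ 0 by norm_num)).2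
        (show ¬ 2 ^ 14 ∣ 3317760 by norm_num)
      have b1 := (Nat.prime_two.pow_dvd_iff_le_factorization (show (448345497600 : ℕ) ≠ 0 by norm_num)).1
        (show 2 ^ 13 ∣ 448345497600 by norm_num)
      have b2 := mt (Nat.prime_two.pow_dvd_iff_le_factorization (show (448345497600 : ℕ) ≠ 0 by norm_num)).2
        (show ¬ 2 ^ 14 ∣ 448345497600 by norm_num)
      omega
    rw [e1]
  let P : Sylow 2 M := Sylow.ofCard T' hT'
  have hfix : ∀ i ∈ M, i * i = 1 → ∃ c ∈ M, i * (c * z * c⁻¹) = c * z * c⁻¹ * i := by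
    intro i hi hi2
    have hp : IsPGroup 2 (zpowers (⟨i, hi⟩ : M)) :=
      IsPGroup.of_card_dvd_pow (n := 1) (by
        rw [Nat.card_zpowers, pow_one]
        exact orderOf_dvd_of_pow_eq_one (Subtype.ext (by simpa [pow_two] using hi2)))
    obtain ⟨P1, hP1⟩ := hp.exists_le_sylow
    obtain ⟨g, hg⟩ := MulAction.exists_smul_eq M P P1
    have hmem : (⟨i, hi⟩ : M) ∈ (g • P : Sylow 2 M) := hg ▸ hP1 (mem_zpowers _)
    change (⟨i, hi⟩ : M) ∈ MulAut.conj g • (P : Subgroup M) at hmem
    rw [Subgroup.mem_pointwise_smul_iff_inv_smul_mem] at hmem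
    obtain ⟨y, -, hy⟩ := hmem
    refine ⟨g, g.2, ?_⟩
    have hy' : (g : G)⁻¹ * i * g = y := by
      have := congrArg Subtype.val hy
      simpa [MulAut.smul_def] using this.symm
    have hyz := mem_centralizer_singleton_iff.1 y.2
    calc i * ((g : G) * z * (g : G)⁻¹) = g * ((g : G)⁻¹ * i * g * z) * (g : G)⁻¹ := by group
      _ = g * (z * ((g : G)⁻¹ * i * g)) * (g : G)⁻¹ := by rw [hy', hyz]
      _ = g * z * (g : G)⁻¹ * i := by group
  have hr_M : ∀ i ∈ M, IsConj r i → ∃ c ∈ M, c * r * c⁻¹ = i := by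
    intro i hi hri
    have hi2 : i * i = 1 := by
      obtain ⟨g, rfl⟩ := isConj_iff.1 hri
      rw [show g * r * g⁻¹ * (g * r * g⁻¹) = g * (r * r) * g⁻¹ by group, F.r2]; group
    obtain ⟨c, hc, e⟩ := hfix i hi hi2
    obtain ⟨d, hd, ed⟩ := F.r_class (w := c⁻¹ * i * c) (hri.trans (isConj_iff.2 ⟨c⁻¹, by rw [inv_inv]⟩)) (by
      calc c⁻¹ * i * c * z = c⁻¹ * (i * (c * z * c⁻¹)) * c := by group
        _ = c⁻¹ * (c * z * c⁻¹ * i) * c := by rw [e]
        _ = z * (c⁻¹ * i * c) := by group)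
    refine ⟨c * d, mul_mem hc (hCz (mem_centralizer_singleton_iff.2 hd)), ?_⟩
    rw [show c * d * r * (c * d)⁻¹ = c * (d * r * d⁻¹) * c⁻¹ by group, ed]; group
  have hzz : ∀ w, IsConj z w → w ∈ M := by
    intro w hw
    have hw2 : w * w = 1 := by
      obtain ⟨g, rfl⟩ := isConj_iff.1 hw
      rw [show g * z * g⁻¹ * (g * z * g⁻¹) = g * (z * z) * g⁻¹ by group, S.z2]; group
    rcases invol_pair hw2 F.r2 with h | ⟨i, hi2, hi1, hiw, hir⟩
    · exact absurd (hw.trans h) F.not_conj_r
    have hiM : i ∈ M := hCr (mem_centralizer_singleton_iff.2 hir)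
    rcases F.classes_r hi2 hi1 with h | h
    · obtain ⟨c, hc, e⟩ := F.z_class h hir
      have hcM : c ∈ M := hCr (mem_centralizer_singleton_iff.2 hc)
      refine conj_cent_le hCz hcM (mem_centralizer_singleton_iff.2 ?_)
      rw [e]
      exact hiw.symm
    · obtain ⟨c, hc, e⟩ := hr_M i hiM h
      refine conj_cent_le hCr hc (mem_centralizer_singleton_iff.2 ?_)
      rw [e]
      exact hiw.symm
  -- the normal closure of `z` is the image
  set N := normalClosure ({z} : Set G) with hN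
  have hNM : N ≤ M := (closure_le M).2 fun x hx => by
    obtain ⟨a, ha', hc⟩ := Group.mem_conjugatesOfSet_iff.1 hx
    rw [Set.mem_singleton_iff.1 ha'] at hc
    exact hzz x hc
  have hzN : z ∈ N := subset_normalClosure rfl
  have hNeq : N = M := by
    refine le_antisymm hNM ?_
    haveI : (N.comap θ).Normal := normalClosure_normal.comap θ
    rcases (inferInstance : (N.comap θ).Normal).eq_bot_or_eq_top with h | h
    · exfalso
      have h1 : PresentedGroup.of Cfsg.Spor.Suz.Gen.a ∈ N.comap θ := by rw [mem_comap, ha]; exact hzN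
      rw [h, mem_bot] at h1
      exact S.z1 (by rw [← ha, h1, map_one])
    · rintro _ ⟨x, rfl⟩
      exact mem_comap.1 (h ▸ mem_top x)
  have htop : M = ⊤ := by
    refine eq_top_iff.2 fun g _ => ?_
    have hmem : g * r * g⁻¹ ∈ M := hNM (normalClosure_normal.conj_mem r (hNeq.ge hrM) g)
    obtain ⟨c, hc, e⟩ := hr_M _ hmem (isConj_iff.2 ⟨g, rfl⟩)
    have h1 : c⁻¹ * g ∈ M := hCr (mem_centralizer_singleton_iff.2 (by
      calc c⁻¹ * g * r = c⁻¹ * (g * r * g⁻¹) * g := by group
        _ = c⁻¹ * (c * r * c⁻¹) * g := by rw [e]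
        _ = r * (c⁻¹ * g) := by group))
    have h2 := mul_mem hc h1
    rwa [mul_inv_cancel_left] at h2
  exact ⟨(MulEquiv.ofBijective θ ⟨hinj, MonoidHom.range_eq_top.1 htop⟩).symm⟩

end CfsgLib.SuzType.Ident
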