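import Cfsg.Agent.Lib.SuzType.Ident.Elems
import Cfsg.Agent.Lib.SuzType.Local.Frm
import Cfsg.Agent.Lib.SuzType.Local.Five
import Cfsg.Agent.Lib.SuzType.Local.LongElt

/-!
Suzuki type: the subgroups of order three of the centralizer with commutator of order eight form one class.
-/

set_option autoImplicit false
set_option linter.unusedSectionVars false
set_option linter.style.haveILetI false

namespace CfsgLib.SuzType.Ident

open CfsgLib.SuzType CfsgLib.Classical Cfsg Subgroup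
open scoped Pointwise commutatorElement

/-! ### Elements of order three moving only a plane -/

/-- An isometry of order three whose commutator space is an anisotropic plane. -/
theorem eq_rot {g : qAut qm} (h3 : g * (g * g) = 1) {a : V6} (ha : qm a = 1) (hab : pb a (g.1 a) = 1)
    (haw : g.1 (g.1 a) = a + g.1 a)
    (hW : ∀ x, pb (g.1 x + x) a = 0 → pb (g.1 x + x) (g.1 a) = 0 → g.1 x = x) :
    g = rf a ha * rf (g.1 a) ((qAut_map g a).trans ha) := by
  set b := g.1 a with hb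
  have hba : pb b a = 1 := by rw [pb_comm]; exact hab
  have hfix : ∀ w, pb w a = 0 → pb w b = 0 → g.1 w = w := by
    intro w h1 h2
    have e1 : pb (g.1 w) b = 0 := by rw [hb, pb_map, h1]
    have e2 : pb (g.1 w) (a + b) = 0 := by rw [← haw, hb, pb_map, ← hb, h2]
    rw [pb_add_right, e1, add_zero] at e2
    exact hW w (by rw [pb_add_left, e2, h1, add_zero]) (by rw [pb_add_left, e1, h2, add_zero])
  refine qAut_ext fun x => ?_
  obtain ⟨w, hw⟩ : ∃ w, w = x + (pb x b • a + pb x a • b) := ⟨_, rfl⟩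
  have hx : x = w + (pb x b • a + pb x a • b) := by rw [hw, add_assoc, add_self6, add_zero]
  have h1 : pb w a = 0 := by
    rw [hw, pb_add_left, pb_add_left, pb_smul_left, pb_smul_left, pb_self, hba, mul_zero, mul_one, zero_add,
      CharTwo.add_self_eq_zero]
  have h2 : pb w b = 0 := by
    rw [hw, pb_add_left, pb_add_left, pb_smul_left, pb_smul_left, pb_self, hab, mul_zero, mul_one, add_zero,
      CharTwo.add_self_eq_zero]
  conv_lhs => rw [hx, map_add, map_add, map_smul, map_smul, hfix w h1 h2, ← hb, haw, hw]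
  rw [qAut_mul_apply, rf_apply, rf_apply, pb_add_left, pb_smul_left, hba, mul_one]
  simp only [← hb]
  clear_value b
  generalize pb x a = i, pb x b = j
  funext k
  simp only [Pi.add_apply, Pi.smul_apply, smul_eq_mul]
  generalize x k = e, b k = e'', a k = e'
  revert i j e e' e''
  decide

theorem rf_congr {a a' : V6} (h : a = a') (ha : qm a = 1) (ha' : qm a' = 1) : rf a ha = rf a' ha' := by
  subst h; rfl

theorem rf_conj (k : qAut qm) {a : V6} (ha : qm a = 1) :
    k * rf a ha * k⁻¹ = rf (k.1 a) ((qAut_map k a).trans ha) := by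
  refine qAut_ext fun x => ?_
  have e : k.1 ((k⁻¹).1 x) = x := qAut_inv_apply k x
  rw [qAut_mul_apply, qAut_mul_apply, rf_apply, rf_apply, map_add, map_smul, e, ← pb_map k ((k⁻¹).1 x) a, e]

/-- Two anisotropic vectors with product one are orthogonal to a singular vector. -/
theorem check_pair_perp : all64 (fun i => all64 fun j => !(qn i && qn j && bn i j) ||
    any64 fun k => singB k && !bn k i && !bn k j) = true := by decide +kernel

theorem pair_perp {a b : V6} (ha : qm a = 1) (hb : qm b = 1) (hab : pb a b = 1) :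
    ∃ q, Sing q ∧ pb q a = 0 ∧ pb q b = 0 := by
  obtain ⟨i, hi, rfl⟩ := vec_surj a
  obtain ⟨j, hj, rfl⟩ := vec_surj b
  rw [qm_vec hi, ite_one_iff] at ha
  rw [qm_vec hj, ite_one_iff] at hb
  rw [pb_vec hi hj, ite_one_iff] at hab
  have H := all64_get (all64_get check_pair_perp hi) hj
  simp only [ha, hb, hab, Bool.and_self, Bool.not_true, Bool.false_or] at H
  obtain ⟨k, hk, hk'⟩ := any64_get H
  simp only [Bool.and_eq_true, Bool.not_eq_true'] at hk'
  exact ⟨vec k, (sing_vec hk).2 hk'.1.1, by rw [pb_vec hk hi, hk'.1.2]; rfl, by rw [pb_vec hk hj, hk'.2]; rfl⟩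

/-- Transitivity on the anisotropic pairs. -/
theorem ev_plane {p m n : V6} (hp : Sing p) (hm : NVec p m) (hn : NVec p n) (hnm : pb n m = 1) {a b : V6}
    (ha : qm a = 1) (hb : qm b = 1) (hba : pb b a = 1) : ∃ k ∈ Ev, k.1 a = m ∧ k.1 b = n := by
  have hmn : pb m n = 1 := by rw [pb_comm]; exact hnm
  obtain ⟨q, hq, qa, qb⟩ := pair_perp ha hb (by rw [pb_comm]; exact hba)
  obtain ⟨k, hk, kq⟩ := ev_sing hq hp
  have ha' : NVec p (k.1 a) := ⟨(qAut_map k a).trans ha, by rw [← kq, pb_map, qa]⟩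
  have hb' : NVec p (k.1 b) := ⟨(qAut_map k b).trans hb, by rw [← kq, pb_map, qb]⟩
  obtain ⟨h, hh, hhp, ea, eb⟩ := ev_pair hp ha' hb' (by rw [pb_map]; exact hba) hm hn hnm
  -- adjust
  have adj : ∀ {w w' : V6}, NVec p w → NVec p w' → pb w w' = 1 →
      ∃ l ∈ Ev, l.1 w = w + p ∧ l.1 w' = w' ∧ l.1 p = p := by
    intro w w' hw hw' hww
    have h1 : qm (w' + p) = 1 := by rw [qm_add, hw'.1, hp.2, pb_comm, hw'.2]; decide
    refine ⟨rf (w' + p) h1 * rf w' hw'.1, rf_mul_mem h1 hw'.1, ?_, ?_, ?_⟩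
    · rw [qAut_mul_apply, rf_move hw'.1 hww, rf_move h1]
      · rw [add_assoc, ← add_assoc w' w', add_self6, zero_add]
      · rw [pb_add_left, pb_add_right, pb_add_right, hww, pb_comm w p, hw.2, pb_self, pb_comm w' p, hw'.2]
        decide
    · rw [qAut_mul_apply, rf_fix hw'.1 (pb_self w'), rf_fix h1]
      rw [pb_add_right, pb_self, pb_comm w' p, hw'.2, add_zero]
    · rw [qAut_mul_apply, rf_fix hw'.1 hw'.2, rf_fix h1]
      rw [pb_add_right, hw'.2, pb_self, add_zero]
  obtain ⟨l1, hl1, l1m, l1n, l1p⟩ := adj hm hn hmn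
  obtain ⟨l2, hl2, l2n, l2m, -⟩ := adj hn hm hnm
  have val : ∀ {c w : V6}, Pm p (h.1 c + w) → h.1 c = w ∨ h.1 c = w + p := fun {c w} e => by
    rcases e with e | e
    · left; rw [← add_zero (h.1 c), ← add_self6 w, ← add_assoc, e, zero_add]
    · right; rw [← add_zero (h.1 c), ← add_self6 w, ← add_assoc, e, add_comm]
  rcases val ea with e1 | e1 <;> rcases val eb with e2 | e2
  · exact ⟨h * k, mul_mem hh hk, by rw [qAut_mul_apply, e1], by rw [qAut_mul_apply, e2]⟩
  · refine ⟨l2⁻¹ * (h * k), mul_mem (inv_mem hl2) (mul_mem hh hk), ?_, ?_⟩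
    · rw [qAut_mul_apply, qAut_mul_apply, e1]; exact qAut_fix_inv l2m
    · rw [qAut_mul_apply, qAut_mul_apply, e2, ← l2n]; exact l2.1.symm_apply_apply n
  · refine ⟨l1⁻¹ * (h * k), mul_mem (inv_mem hl1) (mul_mem hh hk), ?_, ?_⟩
    · rw [qAut_mul_apply, qAut_mul_apply, e1, ← l1m]; exact l1.1.symm_apply_apply m
    · rw [qAut_mul_apply, qAut_mul_apply, e2]; exact qAut_fix_inv l1n
  · refine ⟨(l1 * l2)⁻¹ * (h * k), mul_mem (inv_mem (mul_mem hl1 hl2)) (mul_mem hh hk), ?_, ?_⟩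
    · have e : (l1 * l2).1 m = m + p := by rw [qAut_mul_apply, l2m, l1m]
      rw [qAut_mul_apply, qAut_mul_apply, e1, ← e]; exact (l1 * l2).1.symm_apply_apply m
    · have e : (l1 * l2).1 n = n + p := by rw [qAut_mul_apply, l2n, map_add, l1n, l1p]
      rw [qAut_mul_apply, qAut_mul_apply, e2, ← e]; exact (l1 * l2).1.symm_apply_apply n

/-! ### Subgroups of order three with commutator of order eight -/

/-- The vectors orthogonal to `p`, `u` and `v` by codes. -/
def planeList : List (Fin 64) := [0, 1, 4, 5, 8, 9, 12, 13]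

theorem plane_set : ∀ k : Fin 64, pc k.val 1 = false → pc k.val 16 = false → pc k.val 32 = false → k ∈ planeList := by
  decide +kernel

theorem plane_codes : ∀ k ∈ planeList, ∀ l ∈ planeList, k.val ≠ 0 → k.val ≠ 1 →
    (qc k.val = true ∧ (l.val ≠ 0 → l.val ≠ 1 → k ≠ l → k.val ^^^ l.val ≠ 1 → pc l.val k.val = true)) := by
  decide +kernel

theorem plane_radical : ∀ k ∈ planeList, ∀ l ∈ planeList, ∀ w ∈ planeList, pc l.val k.val = true →
    pc w.val k.val = false → pc w.val l.val = false → w.val = 0 ∨ w.val = 1 := by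
  decide +kernel

theorem three_sum {g : qAut qm} (h3 : g * (g * g) = 1) (v : V6) :
    g.1 (g.1 (g.1 v + v)) = (g.1 v + v) + g.1 (g.1 v + v) := by
  have e : g.1 (g.1 (g.1 v)) = v := by rw [← qAut_mul_apply, ← qAut_mul_apply, mul_assoc, h3]; rfl
  simp only [map_add, e]
  funext k
  simp only [Pi.add_apply]
  generalize g.1 v k = a, v k = b, g.1 (g.1 v) k = c
  revert a b c
  decide

theorem move_ne {g : qAut qm} (h3 : g * (g * g) = 1) {v : V6} (h : g.1 v + v ≠ 0) :
    g.1 (g.1 v + v) ≠ g.1 v + v := fun e => by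
  have := three_sum h3 v
  rw [e, e, add_self6] at this
  exact h this

variable {G : Type*} [Group G] [Finite G] {z t : G} {Q R : Subgroup G} {π π' : G → V6} {ρ ρ' : G → qAut qm}
  {r s au av : G} {m n : V6} {p' : V6}

/-- The image of an element of order three fixing `p`, `u` and `v`. -/
theorem Base.rot_of_fix (K : Base z t Q R π π' ρ ρ' r s au av p' m n) {g : qAut qm} (h3 : g * (g * g) = 1)
    (h1 : g ≠ 1) (hp : g.1 (π t) = π t) (hu : g.1 (π au) = π au) (hv : g.1 (π av) = π av) :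
    ∃ (a b : V6) (ha : qm a = 1) (hb : qm b = 1), pb b a = 1 ∧ g = rf a ha * rf b hb := by
  have B := K.B
  set L := lv (π t) p' m n (π au) (π av) with hL
  have zero_iff : ∀ i j, pb (L i) (L j) = 0 → pc i j = false := fun i j h => by
    rw [hL, B.pb_lv] at h
    cases e : pc i j
    · rfl
    · rw [e] at h; simp at h
  have code : ∀ v, ∃ k, k < 64 ∧ L k = g.1 v + v ∧ pc k 1 = false ∧ pc k 16 = false ∧ pc k 32 = false := by
    intro v
    obtain ⟨k, hk, e⟩ := B.lv_surj (g.1 v + v)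
    have perp : ∀ w, g.1 w = w → pb (L k) w = 0 := fun w hw => by
      rw [hL, e, pb_add_left]
      conv_lhs => arg 1; arg 2; rw [← hw]
      rw [pb_map, CharTwo.add_self_eq_zero]
    exact ⟨k, hk, e, zero_iff k 1 (by rw [show L 1 = π t from lv_p]; exact perp _ hp),
      zero_iff k 16 (by rw [show L 16 = π au from lv_u]; exact perp _ hu),
      zero_iff k 32 (by rw [show L 32 = π av from lv_v]; exact perp _ hv)⟩
  have nop : ∀ v, g.1 v + v ≠ π t := fun v e => by
    refine move_ne h3 (v := v) ?_ (by rw [e, hp])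
    rw [e]; exact K.C.P.p_sing.1
  obtain ⟨v, hv'⟩ : ∃ v, g.1 v + v ≠ 0 := by
    by_contra h
    push Not at h
    refine h1 (qAut_ext fun x => ?_)
    show g.1 x = x
    rw [← add_zero (g.1 x), ← add_self6 x, ← add_assoc, h, zero_add]
  obtain ⟨k, hk, ek, k1, k2, k3⟩ := code v
  obtain ⟨l, hl, el, l1, l2, l3⟩ := code (g.1 v)
  rw [← map_add g.1] at el
  have l0 : lv (π t) p' m n (π au) (π av) 0 = 0 := lv_zero
  have k0 : k ≠ 0 := fun e => hv' (by rw [← ek, e]; exact l0)
  have kp : k ≠ 1 := fun e => nop v (by rw [← ek, e]; exact lv_p)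
  have lne0 : l ≠ 0 := fun e => hv' (g.1.map_eq_zero_iff.1 (by rw [← el, e]; exact l0))
  have lp : l ≠ 1 := fun e => nop (g.1 v) (by rw [← map_add g.1, ← el, e]; exact lv_p)
  have kl : k ≠ l := fun e => move_ne h3 hv' (by rw [← el, ← e, ek])
  have klp : k ^^^ l ≠ 1 := fun e => by
    have := congrArg L e
    rw [show L (k ^^^ l) = L k + L l from lv_xor k l, ek, el, ← three_sum h3 v] at this
    refine nop (g.1 (g.1 v)) ?_
    rw [← map_add g.1, ← map_add g.1, this]; exact lv_p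
  obtain ⟨qk, hlk⟩ := plane_codes _ (plane_set ⟨k, hk⟩ k1 k2 k3) _ (plane_set ⟨l, hl⟩ l1 l2 l3) k0 kp
  have hlk' := hlk lne0 lp (fun e => kl (congrArg Fin.val e)) klp
  have hqa : qm (g.1 v + v) = 1 := by rw [← ek, hL, B.qm_lv, qk]; simp
  have hba : pb (g.1 (g.1 v + v)) (g.1 v + v) = 1 := by rw [← el, ← ek, hL, B.pb_lv, hlk']; simp
  refine ⟨_, _, hqa, (qAut_map g _).trans hqa, hba,
    eq_rot h3 hqa (by rw [pb_comm]; exact hba) (three_sum h3 v) fun x hxa hxb => ?_⟩
  obtain ⟨w, hw, ew, w1, w2, w3⟩ := code x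
  rw [← ek, ← ew] at hxa
  rw [← el, ← ew] at hxb
  rcases plane_radical _ (plane_set ⟨k, hk⟩ k1 k2 k3) _ (plane_set ⟨l, hl⟩ l1 l2 l3) _
    (plane_set ⟨w, hw⟩ w1 w2 w3) hlk' (zero_iff _ _ hxa)
    (zero_iff _ _ hxb) with e | e
  · rw [← add_zero (g.1 x), ← add_self6 x, ← add_assoc, ← ew, show w = 0 from e]
    rw [show L 0 = 0 from l0, zero_add]
  · exact absurd (by rw [← ew, show w = 1 from e]; exact lv_p) (nop x)

/-- The image of an element of order three with commutator of order eight. -/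
theorem rot_of_commutator {z : G} {Q : Subgroup G} {π : G → V6} {ρ : G → qAut qm} (S : Setup z Q π ρ) {y : G}
    (hy : y ∈ centralizer ({z} : Set G)) (h3 : y * y * y = 1) (hy1 : y ≠ 1) {L : Subgroup G} (hLQ : L ≤ Q)
    (hL8 : Nat.card L = 8) (hna : ∃ a ∈ L, ∃ b ∈ L, a * b ≠ b * a) (hcomm : ∀ q ∈ Q, y * q * y⁻¹ * q⁻¹ ∈ L) :
    ∃ (a b : V6) (ha : qm a = 1) (hb : qm b = 1), pb b a = 1 ∧ ρ y = rf a ha * rf b hb := by
  classical
  set g := ρ y with hg
  have g3 : g * (g * g) = 1 := by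
    rw [hg, ← S.rho_mul y hy y hy, ← S.rho_mul y hy _ (mul_mem hy hy), ← mul_assoc, h3, S.rho_one]
  have g1 : g ≠ 1 := fun e => by
    have hQ : y ∈ Q := (S.rho_ker y hy).1 e
    have hd := Subgroup.orderOf_dvd_natCard Q hQ
    haveI : Fact (Nat.Prime 3) := ⟨Nat.prime_three⟩
    rw [orderOf_eq_prime (by rw [pow_succ, pow_two]; exact h3) hy1, S.card] at hd
    norm_num at hd
  obtain ⟨l, hl, l', hl', hne⟩ := hna
  have hzL : z ∈ L := by
    have hc := S.comm (hLQ hl) (hLQ hl')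
    rcases two_cases (pb (π l) (π l')) with e | e
    · rw [e, zb_zero, one_mul] at hc; exact absurd hc hne
    · rw [e, zb_one] at hc
      rw [show z = l * l' * (l' * l)⁻¹ by rw [hc]; group]
      exact mul_mem (mul_mem hl hl') (inv_mem (mul_mem hl' hl))
  have hpb : pb (π l) (π l') = 1 := by
    rcases two_cases (pb (π l) (π l')) with e | e
    · exact absurd ((S.commute_iff (hLQ hl) (hLQ hl')).2 e) hne
    · exact e
  -- the image of `L`
  let φ : L →* Multiplicative V6 :=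
    { toFun := fun a => Multiplicative.ofAdd (π a.1)
      map_one' := by show Multiplicative.ofAdd (π 1) = 1; rw [S.pi_one]; rfl
      map_mul' := fun a b => by
        show Multiplicative.ofAdd (π (a.1 * b.1)) = _
        rw [S.pi_mul _ (hLQ a.2) _ (hLQ b.2)]; rfl }
  have hker : Nat.card φ.ker = 2 := by
    have e : (φ.ker : Set L) = {1, ⟨z, hzL⟩} := by
      ext a
      rw [SetLike.mem_coe, MonoidHom.mem_ker, Set.mem_insert_iff, Set.mem_singleton_iff]
      show Multiplicative.ofAdd (π a.1) = 1 ↔ _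
      rw [ofAdd_eq_one, S.pi_ker _ (hLQ a.2), Subtype.ext_iff, Subtype.ext_iff]
      rfl
    show Nat.card (φ.ker : Set L) = 2
    rw [e, Nat.card_coe_set_eq, Set.ncard_pair]
    exact fun e' => S.z1 (congrArg Subtype.val e').symm
  have hrange : Nat.card φ.range = 4 := by
    have h := φ.ker.card_mul_index
    rw [hker, hL8, index_ker] at h
    omega
  let T : Finset V6 := Finset.univ.filter fun v => Multiplicative.ofAdd v ∈ φ.range
  have hT : T.card = 4 := by
    rw [← hrange, ← Fintype.card_subtype, ← Nat.card_eq_fintype_card]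
    exact Nat.card_congr (Equiv.subtypeEquiv Multiplicative.ofAdd fun _ => Iff.rfl)
  have hTL : ∀ a ∈ L, π a ∈ T := fun a ha => Finset.mem_filter.2 ⟨Finset.mem_univ _, ⟨⟨a, ha⟩, rfl⟩⟩
  have hW : ∀ v, g.1 v + v ∈ T := fun v => by
    obtain ⟨q, hq, rfl⟩ := S.pi_surj v
    have e : π (y * q * y⁻¹ * q⁻¹) = g.1 (π q) + π q := by
      rw [S.pi_mul _ (S.conj_mem hy hq) _ (inv_mem hq), S.rho_pi y hy q hq, S.pi_inv hq]
    exact e ▸ hTL _ (hcomm q hq)
  obtain ⟨v, hv⟩ : ∃ v, g.1 v + v ≠ 0 := by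
    by_contra h
    push Not at h
    refine g1 (qAut_ext fun x => ?_)
    show g.1 x = x
    rw [← add_zero (g.1 x), ← add_self6 x, ← add_assoc, h, zero_add]
  set a := g.1 v + v with ha
  have gb : g.1 a = g.1 (g.1 v) + g.1 v := map_add _ _ _
  have hgg : g.1 (g.1 a) = a + g.1 a := three_sum g3 v
  have ha_ne : g.1 a ≠ a := move_ne g3 hv
  have hga : g.1 a ≠ 0 := fun e => hv (g.1.map_eq_zero_iff.1 e)
  have hab : a + g.1 a ≠ 0 := fun e => ha_ne (by
    rw [← zero_add (g.1 a), ← add_self6 a, add_assoc, e, add_zero])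
  have hab1 : a + g.1 a ≠ a := fun e => hga (add_left_cancel (e.trans (add_zero a).symm))
  have hab2 : a + g.1 a ≠ g.1 a := fun e => hv (add_right_cancel (e.trans (zero_add (g.1 a)).symm))
  have hT' : T = {0, a, g.1 a, a + g.1 a} := by
    refine (Finset.eq_of_subset_of_card_le ?_ ?_).symm
    · intro w hw
      simp only [Finset.mem_insert, Finset.mem_singleton] at hw
      rcases hw with rfl | rfl | rfl | rfl
      · rw [← S.pi_one]; exact hTL 1 (one_mem _)
      · exact hW v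
      · rw [gb]; exact hW _
      · rw [← hgg, gb, map_add]; exact hW _
    · rw [hT, Finset.card_insert_of_notMem, Finset.card_insert_of_notMem, Finset.card_pair]
      · simp [Ne.symm hab2]
      · simp [Ne.symm ha_ne, Ne.symm hab1]
      · simp [Ne.symm hv, Ne.symm hga, Ne.symm hab]
  have hmem : ∀ w ∈ T, w = 0 ∨ w = a ∨ w = g.1 a ∨ w = a + g.1 a := fun w hw => by
    rw [hT'] at hw; simpa using hw
  have key : pb a (g.1 a) = 1 := by
    by_contra h
    have h0 : pb a (g.1 a) = 0 := (two_cases _).resolve_right h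
    have h0' : pb (g.1 a) a = 0 := by rw [pb_comm, h0]
    have hz : ∀ w ∈ T, pb w a = 0 ∧ pb w (g.1 a) = 0 := fun w hw => by
      rcases hmem w hw with rfl | rfl | rfl | rfl
      · exact ⟨pb_zero_left _, pb_zero_left _⟩
      · exact ⟨pb_self _, h0⟩
      · exact ⟨h0', pb_self _⟩
      · exact ⟨by rw [pb_add_left, pb_self, h0', add_zero], by rw [pb_add_left, pb_self, h0, add_zero]⟩
    obtain ⟨e1, e2⟩ := hz _ (hTL _ hl)
    rcases hmem _ (hTL _ hl') with e | e | e | e <;> rw [e] at hpb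
    · rw [pb_zero_right] at hpb; exact zero_ne_one hpb
    · rw [e1] at hpb; exact zero_ne_one hpb
    · rw [e2] at hpb; exact zero_ne_one hpb
    · rw [pb_add_right, e1, e2, add_zero] at hpb; exact zero_ne_one hpb
  have hqa : qm a = 1 := by
    have e := qAut_map g (g.1 a)
    rw [hgg, qm_add, qAut_map, key, CharTwo.add_self_eq_zero, zero_add] at e
    exact e.symm
  refine ⟨a, g.1 a, hqa, (qAut_map g a).trans hqa, by rw [pb_comm]; exact key,
    eq_rot g3 hqa key hgg fun x hxa hxb => ?_⟩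
  have h0 : g.1 x + x = 0 := by
    rcases hmem _ (hW x) with e | e | e | e <;> rw [e] at hxa hxb
    · exact e
    · rw [key] at hxb; exact absurd hxb one_ne_zero
    · rw [pb_comm, key] at hxa; exact absurd hxa one_ne_zero
    · rw [pb_add_left, pb_self, pb_comm, key, zero_add] at hxa; exact absurd hxa one_ne_zero
  rw [← add_zero (g.1 x), ← add_self6 x, ← add_assoc, h0, zero_add]

/-- Conjugating the image to the standard one. -/
theorem Base.exists_std (K : Base z t Q R π π' ρ ρ' r s au av p' m n) {c : G}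
    (hc : c ∈ centralizer ({z} : Set G))
    (h : ∃ (a b : V6) (ha : qm a = 1) (hb : qm b = 1), pb b a = 1 ∧ ρ c = rf a ha * rf b hb) :
    ∃ d ∈ centralizer ({z} : Set G), ρ (d * c * d⁻¹) = rf m K.B.m1 * rf n K.B.n1 := by
  have S := K.S
  obtain ⟨a, b, ha, hb, hba, e⟩ := h
  obtain ⟨k, hk, ka, kb⟩ := ev_plane K.C.P.p_sing ⟨K.B.m1, K.B.pm⟩ ⟨K.B.n1, K.B.pn⟩ K.B.nm ha hb hba
  obtain ⟨d, hd, rfl⟩ := (S.rho_range k).1 hk
  refine ⟨d, hd, ?_⟩
  rw [S.rho_mul _ (mul_mem hd hc) _ (inv_mem hd), S.rho_mul _ hd _ hc, S.rho_inv hd, e,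
    show ρ d * (rf a ha * rf b hb) * (ρ d)⁻¹ = (ρ d * rf a ha * (ρ d)⁻¹) * (ρ d * rf b hb * (ρ d)⁻¹) by group,
    rf_conj, rf_conj, rf_congr ka _ K.B.m1, rf_congr kb _ K.B.n1]

/-- Two elements of order three of the centralizer with one image generate conjugate subgroups. -/
theorem conj_of_rho {z : G} {Q : Subgroup G} {π : G → V6} {ρ : G → qAut qm} (S : Setup z Q π ρ) {x y : G}
    (hx : x ∈ centralizer ({z} : Set G)) (hy : y ∈ centralizer ({z} : Set G)) (x3 : x * x * x = 1) (hx1 : x ≠ 1)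
    (y3 : y * y * y = 1) (h : ρ x = ρ y) :
    ∃ q ∈ centralizer ({z} : Set G), q * y * q⁻¹ ∈ zpowers x := by
  haveI : Fact (Nat.Prime 3) := ⟨Nat.prime_three⟩
  have ox : orderOf x = 3 := orderOf_eq_prime (by rw [pow_succ, pow_two]; exact x3) hx1
  set H := Q ⊔ zpowers x with hH
  have hnorm : zpowers x ≤ normalizer (Q : Set G) := zpowers_le.2 (S.norm hx)
  have hHc : (H : Set G) = (Q : Set G) * (zpowers x : Set G) := by
    rw [hH, coe_mul_of_right_le_normalizer_left _ _ hnorm]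
  have hHC : H ≤ centralizer ({z} : Set G) := sup_le S.le (zpowers_le.2 hx)
  have hQH : Q ≤ H := le_sup_left
  have hxH : zpowers x ≤ H := le_sup_right
  have hdisj : Disjoint Q (zpowers x) := by
    refine disjoint_iff.2 (card_eq_one.1 (Nat.eq_one_of_dvd_coprimes (show Nat.Coprime 128 3 by decide) ?_ ?_))
    · rw [← S.card]; exact card_dvd_of_le inf_le_left
    · rw [← ox, ← Nat.card_zpowers]; exact card_dvd_of_le inf_le_right
  have hcard : Nat.card H = 128 * 3 := by
    rw [← S.card, ← ox, ← Nat.card_zpowers, ← Nat.card_prod]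
    refine (Nat.card_congr (Equiv.ofBijective
      (fun a : Q × zpowers x => (⟨a.1.1 * a.2.1, mul_mem (hQH a.1.2) (hxH a.2.2)⟩ : H)) ⟨fun a b e => ?_, ?_⟩)).symm
    · exact mul_injective_of_disjoint hdisj (congrArg Subtype.val e)
    · rintro ⟨w, hw⟩
      have hw' : w ∈ (H : Set G) := hw
      rw [hHc] at hw'
      obtain ⟨q, hq, u, hu, rfl⟩ := Set.mem_mul.1 hw'
      exact ⟨(⟨q, hq⟩, ⟨u, hu⟩), rfl⟩
  have hyH : y ∈ H := by
    have hq : y * x⁻¹ ∈ Q := (S.rho_ker _ (mul_mem hy (inv_mem hx))).1 (by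
      rw [S.rho_mul _ hy _ (inv_mem hx), S.rho_inv hx, h, mul_inv_cancel])
    rw [show y = y * x⁻¹ * x by group]
    exact mul_mem (hQH hq) (hxH (mem_zpowers x))
  let P : Sylow 3 H := Sylow.ofCard ((zpowers x).subgroupOf H) (by
    rw [Nat.card_congr (subgroupOfEquivOfLe hxH).toEquiv, Nat.card_zpowers, ox, hcard,
      Nat.factorization_mul (by norm_num) (by norm_num), Finsupp.add_apply,
      Nat.factorization_eq_zero_of_not_dvd (show ¬ 3 ∣ 128 by norm_num), Nat.Prime.factorization_self Nat.prime_three,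
      pow_one])
  obtain ⟨k, hk⟩ := CfsgLib.Transfer.exists_conj_mem_sylow P (S := zpowers (⟨y, hyH⟩ : H)) (by
    intro w
    obtain ⟨i, hi⟩ := mem_zpowers_iff.1 w.2
    refine ⟨1, Subtype.ext ?_⟩
    rw [SubmonoidClass.coe_pow, pow_one, ← hi, ← zpow_natCast ((⟨y, hyH⟩ : H) ^ i), ← zpow_mul, mul_comm, zpow_mul,
      zpow_natCast, show (⟨y, hyH⟩ : H) ^ 3 = 1 from Subtype.ext (by
        rw [SubmonoidClass.coe_pow, pow_succ, pow_two]; exact y3), one_zpow]
    rfl)
  have hk' := hk _ (mem_zpowers _)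
  refine ⟨k, hHC k.2, ?_⟩
  have h2 : (k : G) * y * (k : G)⁻¹ ∈ zpowers x := by
    simpa [P, mem_subgroupOf] using hk'
  exact h2

/-- The subgroups of order three with commutator of order eight form the class of `zpowers x`. -/
theorem Base.yclass (K : Base z t Q R π π' ρ ρ' r s au av p' m n) {x : G} (x3 : x ^ 3 = 1) (hx1 : x ≠ 1)
    (xz : x * z = z * x) (xt : x * t = t * x) (xu : x * au = au * x) (xv : x * av = av * x) {Y : Subgroup G}
    (hY : Y ≤ centralizer ({z} : Set G)) (hY3 : Nat.card Y = 3) (hQY : Nat.card ↥⁅Q, Y⁆ = 8)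
    (hna : ¬ IsMulCommutative ↥⁅Q, Y⁆) :
    ∃ c, c * z = z * c ∧ Y.map (MulAut.conj c).toMonoidHom = zpowers x := by
  have S := K.S
  have hxC : x ∈ centralizer ({z} : Set G) := mem_centralizer_singleton_iff.2 xz
  have x3' : x * x * x = 1 := by rw [← x3, pow_succ, pow_two]
  obtain ⟨y, hy⟩ := (@exists_ne Y (Finite.one_lt_card_iff_nontrivial.1 (by rw [hY3]; norm_num)) 1)
  have hy1 : (y : G) ≠ 1 := fun e => hy (Subtype.ext e)
  have y3 : (y : G) * y * y = 1 := by
    have e : y ^ 3 = 1 := by rw [← hY3]; exact pow_card_eq_one'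
    simpa [pow_succ] using congrArg Subtype.val e
  have hYy : Y = zpowers (y : G) := by
    haveI : Fact (Nat.Prime 3) := ⟨Nat.prime_three⟩
    refine (eq_of_le_of_card_ge (zpowers_le.2 y.2) ?_).symm
    rw [Nat.card_zpowers, hY3, orderOf_eq_prime (by rw [pow_succ, pow_two]; exact y3) hy1]
  have hLQ : ⁅Q, Y⁆ ≤ Q := commutator_le.2 fun q hq w hw => by
    rw [show ⁅q, w⁆ = q * (w * q⁻¹ * w⁻¹) by rw [commutatorElement_def]; group]
    exact mul_mem hq (S.conj_mem (hY hw) (inv_mem hq))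
  have hna' : ∃ a ∈ ⁅Q, Y⁆, ∃ b ∈ ⁅Q, Y⁆, a * b ≠ b * a := by
    by_contra h
    push Not at h
    exact hna ⟨⟨fun a b => Subtype.ext (h a.1 a.2 b.1 b.2)⟩⟩
  have hcomm : ∀ q ∈ Q, (y : G) * q * (y : G)⁻¹ * q⁻¹ ∈ ⁅Q, Y⁆ := fun q hq => by
    rw [show (y : G) * q * (y : G)⁻¹ * q⁻¹ = ⁅q, (y : G)⁆⁻¹ by rw [commutatorElement_def]; group]
    exact inv_mem (commutator_mem_commutator hq y.2)
  obtain ⟨d, hd, ed⟩ := K.exists_std (hY y.2) (rot_of_commutator S (hY y.2) y3 hy1 hLQ hQY hna' hcomm)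
  have g3 : ρ x * (ρ x * ρ x) = 1 := by
    rw [← S.rho_mul x hxC x hxC, ← S.rho_mul x hxC _ (mul_mem hxC hxC), ← mul_assoc, x3', S.rho_one]
  have g1 : ρ x ≠ 1 := fun e => by
    haveI : Fact (Nat.Prime 3) := ⟨Nat.prime_three⟩
    have := Subgroup.orderOf_dvd_natCard Q ((S.rho_ker x hxC).1 e)
    rw [orderOf_eq_prime x3 hx1, S.card] at this
    norm_num at this
  have hfix : ∀ {a : G}, a ∈ Q → x * a = a * x → (ρ x).1 (π a) = π a := fun {a} ha e => by
    rw [← S.rho_pi x hxC a ha, e, mul_inv_cancel_right]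
  obtain ⟨d', hd', ed'⟩ :=
    K.exists_std hxC (K.rot_of_fix g3 g1 (hfix K.C.P.tQ xt) (hfix K.auQ xu) (hfix K.avQ xv))
  have hc3 : ∀ {c w : G}, w * w * w = 1 → c * w * c⁻¹ * (c * w * c⁻¹) * (c * w * c⁻¹) = 1 := fun {c w} e => by
    rw [show c * w * c⁻¹ * (c * w * c⁻¹) * (c * w * c⁻¹) = c * (w * w * w) * c⁻¹ by group, e, mul_one,
      mul_inv_cancel]
  obtain ⟨q, hq, hmem⟩ := conj_of_rho S (mul_mem (mul_mem hd' hxC) (inv_mem hd')) (mul_mem (mul_mem hd (hY y.2)) (inv_mem hd))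
    (hc3 x3') (fun e => hx1 (conj_eq_one_iff.1 e)) (hc3 y3) (ed'.trans ed.symm)
  have hcC : d'⁻¹ * q * d ∈ centralizer ({z} : Set G) := mul_mem (mul_mem (inv_mem hd') hq) hd
  refine ⟨d'⁻¹ * q * d, mem_centralizer_singleton_iff.1 hcC, eq_of_le_of_card_ge ?_ ?_⟩
  · rintro _ ⟨w, hw, rfl⟩
    rw [hYy] at hw
    obtain ⟨i, rfl⟩ := mem_zpowers_iff.1 hw
    rw [map_zpow]
    refine zpow_mem ?_ i
    obtain ⟨j, hj⟩ := mem_zpowers_iff.1 hmem
    rw [conj_zpow] at hj
    refine mem_zpowers_iff.2 ⟨j, ?_⟩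
    show x ^ j = d'⁻¹ * q * d * (y : G) * (d'⁻¹ * q * d)⁻¹
    calc x ^ j = d'⁻¹ * (d' * x ^ j * d'⁻¹) * d' := by group
      _ = _ := by rw [hj]; group
  · rw [card_map_of_injective (MulAut.conj _).injective, hY3, Nat.card_zpowers]
    exact le_of_eq (orderOf_eq_prime (p := 3) (hp := ⟨Nat.prime_three⟩) x3 hx1)

/-- The form with `Y` given inside the centralizer. -/
theorem Base.yclass' (K : Base z t Q R π π' ρ ρ' r s au av p' m n) {x : G} (x3 : x ^ 3 = 1) (hx1 : x ≠ 1)
    (xz : x * z = z * x) (xt : x * t = t * x) (xu : x * au = au * x) (xv : x * av = av * x)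
    {Q₀ Y : Subgroup (centralizer ({z} : Set G))} (hQ₀ : Q₀.map (centralizer ({z} : Set G)).subtype = Q)
    (hY3 : Nat.card Y = 3) (hQY : Nat.card ↥⁅Q₀, Y⁆ = 8) (hna : ¬ IsMulCommutative ↥⁅Q₀, Y⁆) :
    ∃ c, c * z = z * c ∧
      (Y.map (centralizer ({z} : Set G)).subtype).map (MulAut.conj c).toMonoidHom = zpowers x := by
  set ι := (centralizer ({z} : Set G)).subtype with hι
  have hi : Function.Injective ι := subtype_injective _
  have he : ⁅Q, Y.map ι⁆ = ⁅Q₀, Y⁆.map ι := by rw [map_commutator, hQ₀]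
  refine K.yclass x3 hx1 xz xt xu xv ?_ ?_ ?_ ?_
  · rintro _ ⟨w, -, rfl⟩; exact w.2
  · rw [card_map_of_injective hi, hY3]
  · rw [he, card_map_of_injective hi, hQY]
  · intro h
    rw [he] at h
    exact hna ⟨⟨fun a b => (equivMapOfInjective _ ι hi).injective (by
      rw [map_mul, map_mul]; exact h.is_comm.comm _ _)⟩⟩

end CfsgLib.SuzType.Ident
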