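import Cfsg.Agent.Lib.SuzType.Hyp
import Cfsg.Agent.Lib.SuzType.Ident.Glue
import Cfsg.Agent.Lib.SuzType.Ident.FiveCore
import Cfsg.Agent.Lib.SuzType.Ident.Hom
import Cfsg.Agent.Lib.SuzType.Ident.Iso
import Cfsg.Agent.Lib.SuzType.Ident.YClass
import Cfsg.Agent.Lib.Suz.ThreeFiveTransfer

/-!
Suzuki type: the image of the element of order three of the presented group.
-/

set_option autoImplicit false
set_option maxRecDepth 100000
set_option linter.style.haveILetI false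

namespace CfsgLib.SuzType.Ident

open CfsgLib.SuzType CfsgLib.Classical Cfsg Subgroup CfsgLib.PresCert

/-- The element of order three commutes with four generators. -/
theorem xEl_facts : CfsgLib.Suz.ThreeFive.xEl ^ 3 = 1 ∧ CfsgLib.Suz.ThreeFive.xEl ≠ 1 ∧
    ∀ k ∈ [0, 2, 5, 6], CfsgLib.Suz.ThreeFive.xEl * CfsgLib.Suz.suzGen k =
      CfsgLib.Suz.suzGen k * CfsgLib.Suz.ThreeFive.xEl := by
  haveI := CfsgLib.Suz.card_suz.1
  have hy : CfsgLib.Suz.ThreeFive.xEl = CfsgLib.Suz.ThreeFive.yEl CfsgLib.Suz.ThreeFive.yIx := by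
    rw [CfsgLib.Suz.ThreeFive.yEl, CfsgLib.Suz.ThreeFive.words_ok.2.2.2.2.2.2.2.2]; rfl
  refine ⟨hy ▸ CfsgLib.Suz.ThreeFive.A_cube (CfsgLib.Suz.ThreeFive.yEl_mem _),
    hy ▸ CfsgLib.Suz.ThreeFive.y_ne_one CfsgLib.Suz.ThreeFive.words_ok.2.2.2.2.2.2.2.1, fun k hk => ?_⟩
  have h : ([0, 2, 5, 6] : List ℕ).all (fun k => Nat.blt k 7 &&
      CfsgLib.Suz.ThreeFive.eqS ([k] ++ CfsgLib.Suz.ThreeFive.xWd) (CfsgLib.Suz.ThreeFive.xWd ++ [k])) = true ∧
      CfsgLib.Suz.ThreeFive.xWd.all (fun x => Nat.blt x 7) = true := by decide +kernel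
  simp only [List.all_eq_true, Bool.and_eq_true, Nat.blt_eq] at h
  obtain ⟨h1, h2⟩ := h.1 k hk
  have hkl : ∀ g ∈ [k], g < CfsgLib.Suz.tab.ng := fun g hg => by
    rw [List.mem_singleton.1 hg, CfsgLib.Suz.ThreeFive.ng_eq]; exact h1
  have hxl : ∀ g ∈ CfsgLib.Suz.ThreeFive.xWd, g < CfsgLib.Suz.tab.ng := fun g hg =>
    CfsgLib.Suz.ThreeFive.ng_eq ▸ h.2 g hg
  have e := (CfsgLib.Suz.ThreeFive.eqS_iff (lt_append hkl hxl) (lt_append hxl hkl)).1 h2
  simp only [act_append, act_cons, act_nil, one_mul] at e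
  exact e

variable {G : Type*} [Group G] [Finite G]

/-- The isomorphism with a frame at which the image of the element of order three is a rotation. -/
theorem exists_three_setting (z : G) (hz : orderOf z = 2) (Q : Subgroup (Subgroup.centralizer ({z} : Set G)))
    [Q.Normal] (hF : Cfsg.generalizedFittingSubgroup (Subgroup.centralizer ({z} : Set G)) = Q)
    (hQ : Cfsg.IsExtraspecial 2 Q) (hcard : Nat.card Q = 2 ^ 7)
    (e : (Subgroup.centralizer ({z} : Set G)) ⧸ Q ≃*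
      Cfsg.Omega (ZMod 2) (Cfsg.quadFormMinus 2 (ZMod 2) 1 1))
    (hnwc : ∃ g : G, (∃ hq : g * z * g⁻¹ ∈ Subgroup.centralizer ({z} : Set G),
      (⟨g * z * g⁻¹, hq⟩ : Subgroup.centralizer ({z} : Set G)) ∈ Q) ∧ g * z * g⁻¹ ≠ z)
    (Y : Subgroup (Subgroup.centralizer ({z} : Set G))) (hY : Nat.card Y = 3)
    (hQY : Nat.card ↥⁅Q, Y⁆ = 8) (hna : ¬ IsMulCommutative ↥⁅Q, Y⁆) :
    ∃ φ : Cfsg.Spor.Suz ≃* G, (zpowers CfsgLib.Suz.ThreeFive.xEl).map φ.toMonoidHom =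
      Y.map (Subgroup.subtype (Subgroup.centralizer ({z} : Set G))) := by
  obtain ⟨t, R, π, π', ρ, ρ', cf⟩ := CfsgLib.SuzType.config_of_hyp' z hz Q hF hQ hcard e hnwc
  obtain ⟨x₀, hx₀⟩ := cf.P.exists_typeOne
  obtain ⟨s, ω, au, bu, av, bv, m, n, u, v, F⟩ := cf.exists_frm hx₀
  obtain ⟨τ, O⟩ := F.outer_exists
  obtain ⟨f0, b, X, H, act⟩ := exists_core F
    (fun {f0} hfz h5 hfu hfv σ hr hσz hσu hσv hσf => five_core F hfz h5 hfu hfv hr hσz hσu hσv hσf)
  obtain ⟨c, d, Rl, hc⟩ := exists_rels F O H act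
  obtain ⟨θ, hθ⟩ := Rl.exists_hom'
  obtain ⟨p', K⟩ := exists_base F
  have hinj : Function.Injective θ := by
    haveI := CfsgLib.Suz.simple
    refine (MonoidHom.ker_eq_bot_iff θ).1 ((θ.normal_ker).eq_bot_or_eq_top.resolve_right fun h => F.P.S.z1 ?_)
    have h1 := hθ .a
    rw [MonoidHom.mem_ker.1 (h ▸ mem_top _)] at h1
    exact h1.symm
  obtain ⟨hiso⟩ := iso_of_hom F θ (hθ _) (hθ _)
  have hbij : Function.Bijective θ := by
    haveI := CfsgLib.Suz.card_suz.1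
    exact hinj.bijective_of_nat_card_le (le_of_eq (Nat.card_congr hiso.toEquiv))
  set x := θ CfsgLib.Suz.ThreeFive.xEl with hx
  have hcm : ∀ k ∈ [0, 2, 5, 6], x * θ (CfsgLib.Suz.suzGen k) = θ (CfsgLib.Suz.suzGen k) * x := fun k hk => by
    rw [hx, ← map_mul, xEl_facts.2.2 k hk, map_mul]
  have gz : θ (CfsgLib.Suz.suzGen 0) = z := hθ .a
  have gc : θ (CfsgLib.Suz.suzGen 2) = c := hθ .c
  have gu : θ (CfsgLib.Suz.suzGen 5) = au := hθ .f
  have gv : θ (CfsgLib.Suz.suzGen 6) = av := hθ .g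
  have xz : x * z = z * x := gz ▸ hcm 0 (by decide)
  have xc : x * c = c * x := gc ▸ hcm 2 (by decide)
  have xu : x * au = au * x := gu ▸ hcm 5 (by decide)
  have xv : x * av = av * x := gv ▸ hcm 6 (by decide)
  have xt : x * t = t * x := by
    rcases hc with h | h
    · exact h ▸ xc
    · have ht : t = z * c := by rw [h, ← mul_assoc, F.P.S.z2, one_mul]
      rw [ht]
      exact (Commute.mul_right xz xc).eq
  obtain ⟨w, -, hw⟩ := K.yclass' (x := x) (by rw [hx, ← map_pow, xEl_facts.1, map_one])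
    (fun h => xEl_facts.2.1 (hinj (by rw [map_one]; exact h))) xz xt xu xv rfl hY hQY hna
  refine ⟨(MulEquiv.ofBijective θ hbij).trans (MulAut.conj w).symm, ?_⟩
  ext g
  rw [mem_map_equiv]
  have h : w * g * w⁻¹ ∈ zpowers x ↔ g ∈ Y.map (Subgroup.subtype (Subgroup.centralizer ({z} : Set G))) := by
    rw [← hw, mem_map_equiv]; simp [mul_assoc]
  rw [← h, hx, show zpowers (θ CfsgLib.Suz.ThreeFive.xEl) =
    (zpowers CfsgLib.Suz.ThreeFive.xEl).map (MulEquiv.ofBijective θ hbij).toMonoidHom from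
      (MonoidHom.map_zpowers _ _).symm, mem_map_equiv]
  simp

end CfsgLib.SuzType.Ident
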