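import Cfsg.Agent.Lib.PresCert.CentBound

/-!
# Centralisers in a permutation table: a step along a point fixed by the element

If the element fixes the next base point, the commuting elements move it to a fixed point of the listed orbit.
-/

set_option autoImplicit false

namespace CfsgLib.SuzType.Ident

open CfsgLib.PresCert

variable {T : Tab} {M : Type*} [Group M] [Finite M] {gen : ℕ → M} {φ : M →* Equiv.Perm (Fin T.n)}

/-- One step down the base. -/
theorem cent_step (R : Realised gen T φ) {zw : List ℕ} (hzw : ∀ g ∈ zw, g < T.ng) {bs : List ℕ} {l : Level}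
    {ls : List Level} (hok : levelsOk T ([0] ++ bs) (l :: ls) = true)
    (hle : Nat.card (fixSub φ ([0] ++ bs)) ≤ ((l :: ls).map fun l => l.pts.length).prod)
    (hb : T.walk l.base zw = l.base) :
    Nat.card ↥(fixSub φ ([0] ++ bs) ⊓ Subgroup.centralizer ({act gen zw} : Set M)) ≤
      (l.pts.filter fun y => Nat.beq (T.walk y zw) y).length *
        Nat.card ↥(fixSub φ ([0] ++ (bs ++ [l.base])) ⊓ Subgroup.centralizer ({act gen zw} : Set M)) := by
  classical
  set C := Subgroup.centralizer ({act gen zw} : Set M) with hC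
  set S := fixSub φ ([0] ++ bs) ⊓ C with hS
  have hok' := hok
  simp only [levelsOk, Bool.and_eq_true] at hok'
  have hl := hok'.1
  simp only [levelOk, Bool.and_eq_true, List.all_eq_true, Nat.blt_eq, decide_eq_true_eq] at hl
  obtain ⟨⟨⟨⟨⟨-, hhead⟩, -⟩, -⟩, hlt⟩, -⟩ := hl
  have hbn : l.base < T.n := hlt _ (List.mem_of_mem_head? hhead)
  letI : MulAction S (Fin T.n) := MulAction.compHom _ (φ.comp S.subtype)
  set i : Fin T.n := ⟨l.base, hbn⟩ with hi
  set F := l.pts.filter fun y => Nat.beq (T.walk y zw) y with hF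
  have hmem : ∀ x ∈ MulAction.orbit S i, x.val ∈ F := by
    rintro x ⟨⟨m, hm1, hm2⟩, rfl⟩
    show ((φ m i : Fin T.n) : ℕ) ∈ F
    refine List.mem_filter.2 ⟨(orbit_exact R hok hle m hm1 l ls rfl i rfl).1, ?_⟩
    rw [Nat.beq_eq, ← R.act_apply hzw, ← Equiv.Perm.mul_apply, ← map_mul,
      ← Subgroup.mem_centralizer_singleton_iff.1 hm2, map_mul, Equiv.Perm.mul_apply,
      show φ (act gen zw) i = i from Fin.ext ((R.act_apply hzw i).trans hb)]
  have ho : Nat.card (MulAction.orbit S i) ≤ F.length := by
    let f : MulAction.orbit S i → Fin F.length := fun x => ⟨F.idxOf x.1.val, List.idxOf_lt_length_iff.2 (hmem x.1 x.2)⟩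
    have hf : Function.Injective f := fun a b e => by
      have e' : F.idxOf a.1.val = F.idxOf b.1.val := congrArg Fin.val e
      exact Subtype.ext (Fin.ext ((List.idxOf_inj (hmem a.1 a.2)).1 e'))
    simpa using Nat.card_le_card_of_injective f hf
  have hst : Nat.card (MulAction.stabilizer S i) =
      Nat.card ↥(fixSub φ ([0] ++ (bs ++ [l.base])) ⊓ C) := by
    refine Nat.card_congr
      { toFun := fun m => ⟨m.val.val, fun j hj => ?_, m.val.2.2⟩
        invFun := fun m => ⟨⟨m.val, fixSub_le (fun x hx => by
          rw [← List.append_assoc]; exact List.mem_append_left _ hx) m.2.1, m.2.2⟩, ?_⟩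
        left_inv := fun m => rfl
        right_inv := fun m => rfl }
    · rw [← List.append_assoc] at hj
      rcases List.mem_append.1 hj with hj | hj
      · exact m.val.2.1 j hj
      · have e : j = i := Fin.ext (List.mem_singleton.1 hj)
        rw [e]
        exact m.2
    · exact m.2.1 i (by simp [hi])
  have h2 := Nat.card_congr (MulAction.orbitProdStabilizerEquivGroup S i)
  rw [Nat.card_prod, hst] at h2
  rw [← h2]
  exact Nat.mul_le_mul_right _ ho

/-- The commuting elements below fixed points are counted by the search. -/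
theorem cent_tail (R : Realised gen T φ) {zw : List ℕ} (hzw : ∀ g ∈ zw, g < T.ng) {bs : List ℕ} {ls : List Level}
    (hok : levelsOk T ([0] ++ bs) ls = true)
    (hle : Nat.card (fixSub φ ([0] ++ bs)) ≤ (ls.map fun l => l.pts.length).prod) (hbs : ∀ b ∈ bs, b < T.n) :
    Nat.card ↥(fixSub φ ([0] ++ bs) ⊓ Subgroup.centralizer ({act gen zw} : Set M)) ≤
      centCount T zw ls bs bs [] := by
  refine le_trans (le_of_eq ?_) (centCount_sound R hzw ls bs bs [] hok hle (base_tight R hok hle).2
    (by simp) hbs (fun j _ => rfl) rfl)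
  refine Nat.card_congr (Equiv.subtypeEquivRight fun m => ?_)
  simp [act_nil, Subgroup.mem_centralizer_singleton_iff]

/-- The whole centraliser: the fixed points times the part fixing the first point. -/
theorem cent_top (R : Realised gen T φ) {zw : List ℕ} (hzw : ∀ g ∈ zw, g < T.ng) (h0 : 0 < T.n)
    (hz0 : T.walk 0 zw = 0) :
    Nat.card (Subgroup.centralizer ({act gen zw} : Set M)) ≤
      ((List.range T.n).filter fun i => Nat.beq (T.walk i zw) i).length *
        Nat.card ↥(fixSub φ ([0] ++ []) ⊓ Subgroup.centralizer ({act gen zw} : Set M)) := by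
  classical
  set C := Subgroup.centralizer ({act gen zw} : Set M) with hC
  letI : MulAction C (Fin T.n) := MulAction.compHom _ (φ.comp C.subtype)
  set i : Fin T.n := ⟨0, h0⟩ with hi
  set F := (List.range T.n).filter fun i => Nat.beq (T.walk i zw) i with hF
  have hmem : ∀ x ∈ MulAction.orbit C i, x.val ∈ F := by
    rintro x ⟨⟨m, hm⟩, rfl⟩
    show ((φ m i : Fin T.n) : ℕ) ∈ F
    refine List.mem_filter.2 ⟨List.mem_range.2 (Fin.isLt _), ?_⟩
    rw [Nat.beq_eq, ← R.act_apply hzw, ← Equiv.Perm.mul_apply, ← map_mul,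
      ← Subgroup.mem_centralizer_singleton_iff.1 hm, map_mul, Equiv.Perm.mul_apply,
      show φ (act gen zw) i = i from Fin.ext ((R.act_apply hzw i).trans hz0)]
  have ho : Nat.card (MulAction.orbit C i) ≤ F.length := by
    let f : MulAction.orbit C i → Fin F.length := fun x => ⟨F.idxOf x.1.val, List.idxOf_lt_length_iff.2 (hmem x.1 x.2)⟩
    have hf : Function.Injective f := fun a b e => by
      have e' : F.idxOf a.1.val = F.idxOf b.1.val := congrArg Fin.val e
      exact Subtype.ext (Fin.ext ((List.idxOf_inj (hmem a.1 a.2)).1 e'))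
    simpa using Nat.card_le_card_of_injective f hf
  have hst : Nat.card (MulAction.stabilizer C i) = Nat.card ↥(fixSub φ ([0] ++ []) ⊓ C) := by
    refine Nat.card_congr
      { toFun := fun m => ⟨m.val.val, fun j hj => ?_, m.val.2⟩
        invFun := fun m => ⟨⟨m.val, m.2.2⟩, ?_⟩
        left_inv := fun m => rfl
        right_inv := fun m => rfl }
    · have e : j = i := Fin.ext (by simpa using hj)
      rw [e]
      exact m.2
    · exact m.2.1 i (by simp [hi])
  have h2 := Nat.card_congr (MulAction.orbitProdStabilizerEquivGroup C i)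
  rw [Nat.card_prod, hst] at h2
  rw [← h2]
  exact Nat.mul_le_mul_right _ ho

end CfsgLib.SuzType.Ident
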