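import Cfsg.Agent.Lib.SuzType.Ident.ThreeCheck
import Cfsg.Agent.Lib.SuzType.Ident.CentStep
import Cfsg.Agent.Lib.Suz.Sub
import Cfsg.Agent.Lib.Tails.UFourModel
import Cfsg.Agent.Lib.Classical.UnitaryPSU

/-!
# The centraliser of an element of order three in the presented Suzuki group

It has order at most `9797760`; modulo the element it acts on 280 sets of points as `PSU(4, 3)`, it is perfect
and of index 2 in the normaliser.
-/

set_option autoImplicit false
set_option maxRecDepth 100000
set_option linter.style.haveILetI false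

namespace CfsgLib.SuzType.Ident.Three

open CfsgLib.PresCert CfsgLib.Suz CfsgLib.LeechPSU

local notation "M" => Cfsg.Spor.Suz

/-- The element. -/
def xg : M := act suzGen xw

/-- Its centraliser. -/
def Cx : Subgroup M := Subgroup.centralizer ((Subgroup.zpowers xg : Subgroup M) : Set M)

theorem mem_Cx {m : M} : m ∈ Cx ↔ m * xg = xg * m := by
  rw [Cx, Subgroup.mem_centralizer_iff]
  refine ⟨fun h => (h xg (Subgroup.mem_zpowers xg)).symm, fun h y hy => ?_⟩
  obtain ⟨k, rfl⟩ := Subgroup.mem_zpowers_iff.1 hy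
  exact ((Commute.zpow_right h k).eq).symm

theorem hxw : ∀ g ∈ xw, g < tab.ng := by
  have h := x_points.1
  simp only [List.all_eq_true, Nat.blt_eq] at h
  exact h

theorem levs_tight : Nat.card (fixSub phi [0]) ≤ (levs.map fun l => l.pts.length).prod := by
  have h := stab_le.2
  rw [tab_levels.2.1] at h
  rw [levs_ok.2]
  exact h

theorem levs_trivial : fixSub phi ([0] ++ levs.map PresCert.Level.base) = ⊥ := by
  haveI := card_suz.1
  exact (base_tight realised levs_ok.1 levs_tight).2

theorem card_cent : Nat.card Cx ≤ 9797760 := by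
  haveI := card_suz.1
  have hC : Cx = Subgroup.centralizer ({act suzGen xw} : Set M) := Subgroup.ext fun m => by
    rw [mem_Cx, Subgroup.mem_centralizer_singleton_iff]; rfl
  obtain ⟨-, x0, x47, x117, -, c0, c1, c2⟩ := x_points
  have hok : levelsOk tab ([0] ++ []) levs = true := levs_ok.1
  have hle : Nat.card (fixSub phi ([0] ++ [])) ≤ (levs.map fun l => l.pts.length).prod := levs_tight
  have hb1 : 47 < tab.n := by decide +kernel
  have hb2 : 117 < tab.n := by decide +kernel
  have hok1 : levelsOk tab ([0] ++ [47]) [lev1, lev2, lev3] = true := by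
    have h := hok
    simp only [levs, levelsOk, Bool.and_eq_true] at h ⊢
    exact h.2
  have hle1 : Nat.card (fixSub phi ([0] ++ [47])) ≤
      (([lev1, lev2, lev3] : List PresCert.Level).map fun l => l.pts.length).prod :=
    (orbit_exact realised hok hle 1 (Subgroup.one_mem _) lev0 [lev1, lev2, lev3] rfl ⟨47, hb1⟩ rfl).2
  have hok2 : levelsOk tab ([0] ++ [47, 117]) [lev2, lev3] = true := by
    have h := hok1
    simp only [levelsOk, Bool.and_eq_true] at h ⊢
    exact h.2
  have hle2 : Nat.card (fixSub phi ([0] ++ [47, 117])) ≤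
      (([lev2, lev3] : List PresCert.Level).map fun l => l.pts.length).prod :=
    (orbit_exact realised hok1 hle1 1 (Subgroup.one_mem _) lev1 [lev2, lev3] rfl ⟨117, hb2⟩ rfl).2
  have t3 := cent_tail realised hxw hok2 hle2 (fun b hb => by
    rcases List.mem_cons.1 hb with rfl | hb
    · exact hb1
    · rw [List.mem_singleton.1 hb]; exact hb2)
  rw [x_count] at t3
  have t2 := cent_step realised hxw (bs := [47]) (l := lev1) (ls := [lev2, lev3]) hok1 hle1 x117
  rw [c2] at t2
  have t1 := cent_step realised hxw (bs := []) (l := lev0) (ls := [lev1, lev2, lev3]) hok hle x47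
  rw [c1] at t1
  have t0 := cent_top realised hxw zero_lt x0
  rw [c0] at t0
  rw [hC]
  exact t0.trans ((Nat.mul_le_mul_left _ (t1.trans (Nat.mul_le_mul_left _
    (t2.trans (Nat.mul_le_mul_left _ t3))))).trans (le_refl (162 * (56 * (10 * 108)))))

theorem word_facts : (∀ w ∈ gWords ++ [[1], [2], [3, 2, 3]], (∀ g ∈ w, g < tab.ng) ∧ act suzGen w ∈ Cx) ∧
    gWords.length = 2 ∧ xg ^ 3 = 1 ∧ xg ≠ 1 ∧ suzGen 3 * xg * (suzGen 3)⁻¹ = xg⁻¹ := by
  haveI := card_suz.1
  have h := words_ok
  simp only [wordOk, Bool.and_eq_true, List.all_eq_true, Nat.blt_eq, beq_iff_eq] at h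
  obtain ⟨⟨⟨⟨hl, hg⟩, hc⟩, h3⟩, hd⟩ := h
  have hng : tab.ng = 7 := rfl
  have hsm : ∀ w ∈ ([[1], [2], [3, 2, 3]] : List (List ℕ)), ∀ g ∈ w, g < tab.ng := by
    rw [hng]; decide
  have comm : ∀ w : List ℕ, (∀ g ∈ w, g < tab.ng) → eqBase tab levs (w ++ xw) (xw ++ w) = true →
      act suzGen w ∈ Cx := fun w hw he => by
    have e := eq_of_eqBase realised levs_trivial (lt_append hw hxw) (lt_append hxw hw) he
    rw [act_append, act_append] at e
    exact mem_Cx.2 e.symm
  refine ⟨fun w hw => ?_, hl, ?_, ?_, ?_⟩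
  · rcases List.mem_append.1 hw with hw | hw
    · exact ⟨(hg w hw).1, comm w (hg w hw).1 (hg w hw).2⟩
    · exact ⟨hsm w hw, comm w (hsm w hw) (hc w hw)⟩
  · have e := eq_of_eqBase realised levs_trivial (lt_append (lt_append hxw hxw) hxw)
      (fun g hg => absurd hg List.not_mem_nil) h3
    rw [act_append, act_append, act_nil] at e
    rw [pow_succ, pow_two, ← mul_assoc] at *
    simpa [xg, mul_assoc] using e
  · intro e
    have h24 := x_points.2.2.2.2.1
    have hn : 24 < tab.n := by decide +kernel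
    have e' : tab.walk 24 xw = 24 := by
      rw [← realised.act_apply hxw ⟨24, hn⟩, show act suzGen xw = xg from rfl, e, map_one]
      rfl
    rw [e'] at h24
    exact absurd h24 (by decide)
  · have h3' : ∀ g ∈ [3], g < tab.ng := by rw [hng]; decide
    have e := eq_of_eqBase realised levs_trivial (lt_append (lt_append h3' hxw) h3')
      (fun g hg => hxw g (List.mem_reverse.1 hg)) hd
    rw [act_append, act_append, act_reverse (fun g hg => suzGen_sq g (hng ▸ hg)) hxw] at e
    simp only [act_cons, act_nil, one_mul] at e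
    rw [inv_eq_of_mul_eq_one_right (suzGen_sq 3 (by norm_num)), mul_assoc]
    exact e

theorem ord_x : orderOf xg = 3 :=
  haveI : Fact (Nat.Prime 3) := ⟨Nat.prime_three⟩
  orderOf_eq_prime word_facts.2.2.1 word_facts.2.2.2.1

/-- The subgroup generated by the element, inside the centraliser. -/
def Zx : Subgroup Cx := (Subgroup.zpowers xg).subgroupOf Cx

theorem zpowers_le : Subgroup.zpowers xg ≤ Cx := Subgroup.zpowers_le.2 (mem_Cx.2 rfl)

theorem card_Zx : Nat.card Zx = 3 := by
  rw [Zx, Nat.card_congr (Subgroup.subgroupOfEquivOfLe zpowers_le).toEquiv, Nat.card_zpowers, ord_x]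

instance Zx_normal : ((Subgroup.zpowers xg).subgroupOf Cx).Normal := by
  refine ⟨fun n hn g => ?_⟩
  rw [Subgroup.mem_subgroupOf] at hn ⊢
  have h : (n : M) * g = g * n := (Subgroup.mem_centralizer_iff.1 g.2) _ hn
  rw [Subgroup.coe_mul, Subgroup.coe_mul, ← h, Subgroup.coe_inv, mul_inv_cancel_right]
  exact hn

/-- A set of points. -/
def setPts (a : Fin 280) : Set (Fin tab.n) := {i | (maskOf a.val).testBit i.val}

theorem testBit_foldl (l : List ℕ) : ∀ (acc i : ℕ),
    (l.foldl (fun acc p => acc ||| 2 ^ p) acc).testBit i = true ↔ acc.testBit i = true ∨ i ∈ l := by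
  induction l with
  | nil => simp
  | cons p l ih =>
    intro acc i
    rw [List.foldl_cons, ih, Nat.testBit_or, Bool.or_eq_true, Nat.testBit_two_pow, decide_eq_true_eq,
      List.mem_cons, or_assoc, eq_comm (a := p)]

theorem tab_n : tab.n = 1782 := rfl

theorem set_spec {a : ℕ} (ha : a < 280) : (ptsOf a).Nodup ∧ (∀ p ∈ ptsOf a, p < tab.n) ∧
    ∀ i, (maskOf a).testBit i = true ↔ i ∈ ptsOf a := by
  have h := sets_ok
  simp only [setsOk, Bool.and_eq_true, List.all_eq_true, List.mem_range, Nat.blt_eq, Nat.beq_eq] at h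
  obtain ⟨⟨h1, h2⟩, h3⟩ := h a ha
  refine ⟨(nodupB_spec h1).1, fun p hp => tab_n ▸ h2 p hp, fun i => ?_⟩
  rw [← h3, testBit_foldl]
  simp

theorem ncard_setPts (a : Fin 280) : (setPts a).ncard = 162 := by
  classical
  obtain ⟨h1, h2, h3⟩ := set_spec a.isLt
  have e : Fin.val '' setPts a = ((ptsOf a.val).toFinset : Set ℕ) := by
    ext i
    simp only [Set.mem_image, Finset.mem_coe, List.mem_toFinset]
    constructor
    · rintro ⟨j, hj, rfl⟩; exact (h3 _).1 hj
    · intro hi; exact ⟨⟨i, h2 i hi⟩, (h3 i).2 hi, rfl⟩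
  rw [← Set.ncard_image_of_injective _ Fin.val_injective, e, Set.ncard_coe_finset,
    List.toFinset_card_of_nodup h1]
  simp [ptsOf]

theorem setPts_injective : Function.Injective setPts := by
  intro a b e
  by_contra hne
  have key : maskOf a.val = maskOf b.val := Nat.eq_of_testBit_eq fun i => by
    obtain ⟨-, ha2, ha3⟩ := set_spec a.isLt
    obtain ⟨-, hb2, hb3⟩ := set_spec b.isLt
    rw [Bool.eq_iff_iff]
    constructor
    · intro h
      have : (⟨i, ha2 i ((ha3 i).1 h)⟩ : Fin tab.n) ∈ setPts a := h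
      rw [e] at this
      exact this
    · intro h
      have : (⟨i, hb2 i ((hb3 i).1 h)⟩ : Fin tab.n) ∈ setPts b := h
      rw [← e] at this
      exact this
  have hd := distinct_ok
  simp only [distinctOk, List.all_eq_true, List.mem_range, Bool.not_eq_true', ← Bool.not_eq_true,
    Nat.beq_eq] at hd
  rcases Nat.lt_or_gt_of_ne (fun h => hne (Fin.ext h)) with h | h
  · exact hd b.val b.isLt a.val h key.symm
  · exact hd a.val a.isLt b.val h key

theorem image_setPts {L w : List ℕ} {tgt : ℕ → ℕ} (hw : ∀ g ∈ w, g < tab.ng) (hi : imgOk L w = true)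
    (hm : mapsOk L tgt = true) (a : Fin 280) :
    ∃ b : Fin 280, b.val = tgt a.val ∧ phi (act suzGen w) '' setPts a = setPts b := by
  simp only [imgOk, List.all_eq_true, List.mem_range, Nat.beq_eq] at hi
  simp only [mapsOk, Bool.and_eq_true, List.all_eq_true, List.mem_range, Nat.blt_eq] at hm
  obtain ⟨hlt, hall⟩ := hm a.val a.isLt
  refine ⟨⟨tgt a.val, hlt⟩, rfl, ?_⟩
  refine Set.eq_of_subset_of_ncard_le ?_ ?_ (Set.toFinite _)
  · rintro _ ⟨i, hia, rfl⟩
    show (maskOf (tgt a.val)).testBit ((phi (act suzGen w) i : Fin tab.n) : ℕ) = true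
    rw [realised.act_apply hw, ← hi i.val (tab_n ▸ i.isLt)]
    exact hall _ (((set_spec a.isLt).2.2 _).1 hia)
  · rw [Set.ncard_image_of_injective _ (Equiv.injective _), ncard_setPts, ncard_setPts]

/-- The action on sets of points. -/
def setAct : Cx →* Equiv.Perm (Set (Fin tab.n)) where
  toFun m := Equiv.Set.congr (phi (m : M))
  map_one' := Equiv.ext fun S => by simp
  map_mul' m m' := Equiv.ext fun S => by simp [Set.image_image]

theorem setAct_apply (m : Cx) (S : Set (Fin tab.n)) : setAct m S = phi (m : M) '' S := rfl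

theorem quot_equiv : Nonempty (Cx ⧸ (Subgroup.zpowers xg).subgroupOf Cx ≃* permGroup 280 U43.codes) := by
  haveI := card_suz.1
  refine (nonempty_equiv_permGroup setAct _ setPts setPts_injective ?_ U43.cert U43.cert_ok ?_ ?_).1
  · intro z hz a
    obtain ⟨k, hk⟩ := Subgroup.mem_zpowers_iff.1 (Subgroup.mem_subgroupOf.1 hz)
    have hx : setAct ⟨xg, mem_Cx.2 rfl⟩ (setPts a) = setPts a := by
      obtain ⟨b, hb, he⟩ := image_setPts hxw img_ok.2.2 maps2_ok a
      rw [setAct_apply, show b = a from Fin.ext hb] at *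
      exact he
    have hzk : z = (⟨xg, mem_Cx.2 rfl⟩ : Cx) ^ k := Subtype.ext (by rw [Subgroup.coe_zpow, hk])
    rw [hzk, map_zpow]
    exact Equiv.Perm.zpow_apply_eq_self_of_apply_eq_self hx k
  · intro P hP
    obtain ⟨hw, hlen, -⟩ := word_facts
    have key : ∀ (k : ℕ) (L : List ℕ), k < 2 → imgOk L (gWords.getD k []) = true →
        mapsOk L (fieldAt (U43.codes.getD k 0)) = true →
        ∃ g : Cx, ∀ a : Fin 280, ∃ b : Fin 280, (b : ℕ) = fieldAt (U43.codes.getD k 0) a ∧
          setAct g (setPts a) = setPts b := fun k L hk hi hm => by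
      have hmem : gWords.getD k [] ∈ gWords ++ [[1], [2], [3, 2, 3]] := by
        rw [List.getD_eq_getElem _ _ (hlen ▸ hk)]
        exact List.mem_append_left _ (List.getElem_mem _)
      exact ⟨⟨_, (hw _ hmem).2⟩, fun a => image_setPts (hw _ hmem).1 hi hm a⟩
    simp only [U43.codes, List.mem_cons, List.not_mem_nil, or_false] at hP
    rcases hP with rfl | rfl
    · exact key 0 img0 (by norm_num) img_ok.1 maps0_ok
    · exact key 1 img1 (by norm_num) img_ok.2.1 maps1_ok
  · rw [show Nat.card ↥((Subgroup.zpowers xg).subgroupOf Cx) = 3 from card_Zx]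
    exact card_cent

/-- The quotient is `PSU(4, 3)`. -/
theorem quot_psu (K : Type) [Field K] [Fintype K] (hK : Fintype.card K = 9) :
    Nonempty (Cx ⧸ (Subgroup.zpowers xg).subgroupOf Cx ≃* Cfsg.PSU 4 K 3) := by
  obtain ⟨e⟩ := quot_equiv
  obtain ⟨e'⟩ := CfsgLib.Schur.Tails.UFour.psu_equiv_any K hK
  exact ⟨e.trans e'.symm⟩

/-- The three short words. -/
def smallWords : List (List ℕ) := [[3, 2, 3], [2], [1]]

theorem x_expand : xw = expand smallWords [0, 1, 2, 0, 1, 2, 0, 1, 2, 0, 1, 2, 0, 1, 2] := rfl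

theorem small_mem (a : ℕ) : act suzGen (smallWords.getD a []) ∈ Cx := by
  rcases a with _ | _ | _ | a
  all_goals first
    | exact (word_facts.1 _ (List.mem_append_right _ (by decide))).2
    | exact Subgroup.one_mem _

theorem small_sq (a : ℕ) : act suzGen (smallWords.getD a []) * act suzGen (smallWords.getD a []) = 1 := by
  have s2 := suzGen_sq 2 (by norm_num)
  have s3 := suzGen_sq 3 (by norm_num)
  rcases a with _ | _ | _ | a
  all_goals simp only [smallWords, List.getD_cons_zero, List.getD_cons_succ, List.getD_nil, act_cons, act_nil,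
    one_mul]
  · rw [show suzGen 3 * suzGen 2 * suzGen 3 * (suzGen 3 * suzGen 2 * suzGen 3) =
      suzGen 3 * (suzGen 2 * (suzGen 3 * suzGen 3) * suzGen 2) * suzGen 3 by group, s3, mul_one, s2, mul_one, s3]
  · exact s2
  · exact suzGen_sq 1 (by norm_num)

theorem sq_act {A : Type*} [CommGroup A] {gen : ℕ → A} (h : ∀ a, gen a * gen a = 1) :
    ∀ p : List ℕ, act gen p * act gen p = 1
  | [] => by simp [act_nil]
  | a :: p => by rw [act_cons, mul_mul_mul_comm, sq_act h p, h, one_mul]

theorem perfect : commutator Cx = ⊤ := by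
  haveI := card_suz.1
  haveI hn : ((Subgroup.zpowers xg).subgroupOf Cx).Normal := Zx_normal
  obtain ⟨e⟩ := quot_psu CfsgLib.Schur.Tails.UFour.F9 CfsgLib.Schur.Tails.UFour.card_F9
  haveI hs : IsSimpleGroup (Cx ⧸ (Subgroup.zpowers xg).subgroupOf Cx) :=
    haveI := CfsgLib.Classical.Unitary.isSimpleGroup_PSU (n := 4) (q := 3) (F := CfsgLib.Schur.Tails.UFour.F9)
      (by rw [CfsgLib.Schur.Tails.UFour.card_F9]; norm_num) (by norm_num) (by norm_num)
    e.isSimpleGroup
  set π := QuotientGroup.mk' ((Subgroup.zpowers xg).subgroupOf Cx) with hπ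
  have hsurj : Function.Surjective π := QuotientGroup.mk'_surjective _
  have hmap : (commutator Cx).map π = ⊤ := by
    have hn' : ((commutator Cx).map π).Normal := Subgroup.Normal.map inferInstance π hsurj
    refine (hs.eq_bot_or_eq_top_of_normal _ hn').resolve_left fun h => ?_
    rw [map_commutator_eq, MonoidHom.range_eq_top_of_surjective _ hsurj] at h
    letI : CommGroup (Cx ⧸ (Subgroup.zpowers xg).subgroupOf Cx) :=
      { (inferInstance : Group (Cx ⧸ (Subgroup.zpowers xg).subgroupOf Cx)) with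
        mul_comm := fun a b => by
          have hab : a * b * a⁻¹ * b⁻¹ ∈ (⊥ : Subgroup _) :=
            h ▸ Subgroup.commutator_mem_commutator (Subgroup.mem_top a) (Subgroup.mem_top b)
          exact mul_inv_eq_iff_eq_mul.1 (mul_inv_eq_one.1 (Subgroup.mem_bot.1 hab)) }
    have hp := IsSimpleGroup.prime_card (α := Cx ⧸ (Subgroup.zpowers xg).subgroupOf Cx)
    rw [Nat.card_congr e.toEquiv, CfsgLib.Schur.Tails.UFour.card_psu_four CfsgLib.Schur.Tails.UFour.card_F9] at hp
    exact absurd hp (by norm_num)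
  have hx : (⟨xg, mem_Cx.2 rfl⟩ : Cx) ∈ commutator Cx := by
    rw [← Abelianization.ker_of, MonoidHom.mem_ker]
    set xC : Cx := ⟨xg, mem_Cx.2 rfl⟩ with hxC
    let genC : ℕ → Cx := fun a => ⟨_, small_mem a⟩
    have e1 : xC = act genC [0, 1, 2, 0, 1, 2, 0, 1, 2, 0, 1, 2, 0, 1, 2] := Subtype.ext (by
      show xg = Cx.subtype (act genC [0, 1, 2, 0, 1, 2, 0, 1, 2, 0, 1, 2, 0, 1, 2])
      rw [map_act, xg, x_expand, act_expand]
      rfl)
    have e2 : Abelianization.of xC * Abelianization.of xC = 1 := by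
      rw [e1, map_act]
      exact sq_act (fun a => by
        rw [← map_mul, show genC a * genC a = 1 from Subtype.ext (small_sq a), map_one]) _
    have e3 : xC ^ 3 = 1 := Subtype.ext word_facts.2.2.1
    have e4 := congrArg Abelianization.of e3
    rwa [map_pow, map_one, pow_succ, pow_two, e2, one_mul] at e4
  have hZ : (Subgroup.zpowers xg).subgroupOf Cx ≤ commutator Cx := by
    intro z hz
    obtain ⟨k, hk⟩ := Subgroup.mem_zpowers_iff.1 (Subgroup.mem_subgroupOf.1 hz)
    rw [show z = (⟨xg, mem_Cx.2 rfl⟩ : Cx) ^ k from Subtype.ext (by rw [Subgroup.coe_zpow, hk])]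
    exact Subgroup.zpow_mem _ hx k
  have h2 := congrArg (Subgroup.comap π) hmap
  rwa [Subgroup.comap_map_eq, QuotientGroup.ker_mk', sup_eq_left.2 hZ, Subgroup.comap_top] at h2

theorem conj_x {n : M} (hn : n ∈ Subgroup.normalizer (Subgroup.zpowers xg : Set M)) :
    n * xg * n⁻¹ = xg ∨ n * xg * n⁻¹ = xg⁻¹ := by
  haveI := card_suz.1
  classical
  have hm := (Subgroup.mem_normalizer_iff.1 hn xg).1 (Subgroup.mem_zpowers xg)
  obtain ⟨i, hi, he⟩ := Finset.mem_image.1 ((mem_zpowers_iff_mem_range_orderOf).1 hm)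
  rw [Finset.mem_range, ord_x] at hi
  interval_cases i
  · rw [pow_zero] at he
    exact absurd (conj_eq_one_iff.1 he.symm) word_facts.2.2.2.1
  · exact Or.inl (he.symm.trans (pow_one _))
  · refine Or.inr (he.symm.trans ?_)
    rw [eq_inv_iff_mul_eq_one, ← pow_succ]
    exact word_facts.2.2.1

theorem relIndex_two : Cx.relIndex (Subgroup.normalizer (Subgroup.zpowers xg : Set M)) = 2 := by
  haveI := card_suz.1
  obtain ⟨-, -, -, hx1, hinv⟩ := word_facts
  set N := Subgroup.normalizer (Subgroup.zpowers xg : Set M) with hN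
  set d := suzGen 3 with hd
  have hdi : d⁻¹ = d := inv_eq_of_mul_eq_one_right (suzGen_sq 3 (by norm_num))
  have hdx : d * xg⁻¹ * d⁻¹ = xg := by
    have := congrArg (·⁻¹) hinv
    simpa [mul_assoc] using this
  have hdN : d ∈ N := by
    refine Subgroup.mem_normalizer_iff.2 fun y => ⟨fun hy => ?_, fun hy => ?_⟩
    · obtain ⟨k, rfl⟩ := Subgroup.mem_zpowers_iff.1 hy
      rw [← conj_zpow, hinv]
      exact Subgroup.zpow_mem _ (Subgroup.inv_mem _ (Subgroup.mem_zpowers xg)) k
    · obtain ⟨k, hk⟩ := Subgroup.mem_zpowers_iff.1 hy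
      have e : y = (d⁻¹ * xg * d⁻¹⁻¹) ^ k := by
        rw [conj_zpow, hk]; group
      rw [e, hdi, hinv]
      exact Subgroup.zpow_mem _ (Subgroup.inv_mem _ (Subgroup.mem_zpowers xg)) k
  refine Subgroup.index_eq_two_iff.2 ⟨⟨d, hdN⟩, fun b => ?_⟩
  simp only [Subgroup.mem_subgroupOf, Subgroup.coe_mul, mem_Cx]
  rcases conj_x b.2 with h | h
  · refine Or.inr ⟨mul_inv_eq_iff_eq_mul.1 h, fun hb => hx1 ?_⟩
    have h1 : (b : M) * d * xg * ((b : M) * d)⁻¹ = xg := by rw [hb, mul_inv_cancel_right]
    rw [show (b : M) * d * xg * ((b : M) * d)⁻¹ = (b : M) * (d * xg * d⁻¹) * (b : M)⁻¹ by group, hinv,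
      ← conj_inv, h] at h1
    have h2 : xg ^ 2 = 1 := by rw [pow_two]; nth_rewrite 1 [← h1]; exact inv_mul_cancel xg
    simpa [pow_succ, h2] using word_facts.2.2.1
  · refine Or.inl ⟨?_, fun hb => hx1 ?_⟩
    · refine mul_inv_eq_iff_eq_mul.1 ?_
      rw [show (b : M) * d * xg * ((b : M) * d)⁻¹ = (b : M) * (d * xg * d⁻¹) * (b : M)⁻¹ by group, hinv,
        ← conj_inv, h, inv_inv]
    · rw [hb, mul_inv_cancel_right] at h
      have h2 : xg ^ 2 = 1 := by rw [pow_two]; nth_rewrite 1 [h]; exact inv_mul_cancel xg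
      simpa [pow_succ, h2] using word_facts.2.2.1

/-- The normaliser is the subgroup of six generators, given the inclusion one way. -/
theorem normalizer_le (hH : genGrp sG suzGen ≤ Subgroup.normalizer (Subgroup.zpowers xg : Set M)) :
    Subgroup.normalizer (Subgroup.zpowers xg : Set M) ≤ genGrp sG suzGen := by
  haveI := card_suz.1
  refine (Subgroup.eq_of_le_of_card_ge hH ?_).ge
  set N := Subgroup.normalizer (Subgroup.zpowers xg : Set M) with hN
  have hle : Cx ≤ N := by
    intro c hc
    refine Subgroup.mem_normalizer_iff.2 fun y => ⟨fun hy => ?_, fun hy => ?_⟩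
    · rwa [← Subgroup.mem_centralizer_iff.1 hc y hy, mul_inv_cancel_right]
    · have h := Subgroup.mem_centralizer_iff.1 hc _ hy
      rw [inv_mul_cancel_right] at h
      rw [mul_left_cancel h]; exact hy
  have h := (Cx.subgroupOf N).card_mul_index
  have h2 : (Cx.subgroupOf N).index = 2 := relIndex_two
  rw [h2, Nat.card_congr (Subgroup.subgroupOfEquivOfLe hle).toEquiv] at h
  rw [six_card, ← h]
  have := card_cent
  omega

end CfsgLib.SuzType.Ident.Three
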