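import Cfsg.Agent.Lib.SuzType.Ident.YClass
import Cfsg.Agent.Lib.Classical.UnitaryPSU
import Cfsg.Prelude.Def_CaseTheorems
import Cfsg.Prelude.Def_Transfer

/-!
Suzuki type: the centralizer of `Y` from the centralizer of one element of the presented group.
-/

set_option autoImplicit false
set_option linter.unusedSectionVars false
set_option linter.style.haveILetI false

namespace CfsgLib.SuzType.Ident

open Subgroup

variable {M G : Type*} [Group M] [Group G]

/-- An isomorphism carries the centralizer. -/
theorem map_cent_equiv (ψ : M ≃* G) (S : Subgroup M) :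
    centralizer ((S.map ψ.toMonoidHom : Subgroup G) : Set G) =
      (centralizer (S : Set M)).map ψ.toMonoidHom := by
  ext g
  simp only [mem_map_equiv, mem_centralizer_iff, SetLike.mem_coe]
  constructor
  · intro h x hx
    have := h (ψ x) (by simpa using hx)
    simpa using congrArg ψ.symm this
  · intro h x hx
    have := h (ψ.symm x) hx
    simpa using congrArg ψ this

/-- A perfect group with a central subgroup of simple quotient is quasisimple. -/
theorem quasisimple_of_simple_quotient {C : Type*} [Group C] (hp : commutator C = ⊤) (N : Subgroup C) [N.Normal]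
    (hN : N ≤ center C) {P : Type*} [Group P] (hP : IsSimpleGroup P) (e : C ⧸ N ≃* P) :
    Cfsg.IsQuasisimple C := by
  haveI := hP
  have hs : IsSimpleGroup (C ⧸ N) := e.isSimpleGroup
  have hc : center C = N := by
    haveI : ((center C).map (QuotientGroup.mk' N)).Normal :=
      Subgroup.Normal.map inferInstance _ (QuotientGroup.mk'_surjective N)
    rcases hs.eq_bot_or_eq_top_of_normal _ this with h | h
    · refine le_antisymm ?_ hN
      rw [Subgroup.map_eq_bot_iff, QuotientGroup.ker_mk'] at h
      exact h
    · exfalso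
      have htop : center C = ⊤ := by
        have h' := congrArg (Subgroup.comap (QuotientGroup.mk' N)) h
        rw [comap_map_eq, QuotientGroup.ker_mk', sup_eq_left.2 hN, comap_top] at h'
        exact h'
      have hbot : commutator C = ⊥ := by
        rw [_root_.commutator_def, commutator_eq_bot_iff_le_centralizer, coe_top, centralizer_univ, htop]
      haveI : Subsingleton C := ⟨fun a b => by
        rw [hp] at hbot
        exact mul_inv_eq_one.1 (mem_bot.1 (hbot ▸ mem_top (a * b⁻¹)))⟩
      haveI : Subsingleton (C ⧸ N) := (QuotientGroup.mk'_surjective N).subsingleton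
      exact not_nontrivial (C ⧸ N) hs.toNontrivial
  refine ⟨⟨hp⟩, ?_⟩
  exact (QuotientGroup.quotientMulEquivOfEq hc).isSimpleGroup

/-- The centralizer of `Y'`: the three facts, from those for an element `x` in an isomorphic group. -/
theorem three_transfer (ψ : M ≃* G) {x : M} (Y' : Subgroup G) (hY : Y' = (zpowers x).map ψ.toMonoidHom)
    [(Y'.subgroupOf (centralizer (Y' : Set G))).Normal]
    [((zpowers x).subgroupOf (centralizer ((zpowers x : Subgroup M) : Set M))).Normal]
    (K : Type) [Field K] [Fintype K] (hK : Fintype.card K = 9)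
    (hperf : commutator ↥(centralizer ((zpowers x : Subgroup M) : Set M)) = ⊤)
    (hq : Nonempty (↥(centralizer ((zpowers x : Subgroup M) : Set M)) ⧸
      (zpowers x).subgroupOf (centralizer ((zpowers x : Subgroup M) : Set M)) ≃* Cfsg.PSU 4 K 3))
    (hrel : (centralizer ((zpowers x : Subgroup M) : Set M)).relIndex (normalizer (zpowers x : Set M)) = 2) :
    Cfsg.IsQuasisimple ↥(centralizer (Y' : Set G)) ∧
      Nonempty (↥(centralizer (Y' : Set G)) ⧸ Y'.subgroupOf (centralizer (Y' : Set G)) ≃* Cfsg.PSU 4 K 3) ∧
      (centralizer (Y' : Set G)).relIndex (normalizer (Y' : Set G)) = 2 := by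
  obtain ⟨q⟩ := hq
  set C := centralizer ((zpowers x : Subgroup M) : Set M) with hC
  have hC' : centralizer (Y' : Set G) = C.map ψ.toMonoidHom := by rw [hY, map_cent_equiv]
  let e : C ≃* centralizer (Y' : Set G) :=
    (C.equivMapOfInjective ψ.toMonoidHom ψ.injective).trans (MulEquiv.subgroupCongr hC'.symm)
  have hsub : ((zpowers x).subgroupOf C).map e.toMonoidHom = Y'.subgroupOf (centralizer (Y' : Set G)) := by
    ext w
    rw [mem_map_equiv, mem_subgroupOf, mem_subgroupOf]
    obtain ⟨c, rfl⟩ := e.surjective w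
    rw [e.symm_apply_apply]
    show (c : M) ∈ zpowers x ↔ ψ (c : M) ∈ Y'
    rw [hY, mem_map_equiv, ψ.symm_apply_apply]
  have q' : ↥(centralizer (Y' : Set G)) ⧸ Y'.subgroupOf (centralizer (Y' : Set G)) ≃* Cfsg.PSU 4 K 3 :=
    (QuotientGroup.congr _ _ e hsub).symm.trans q
  refine ⟨?_, ⟨q'⟩, ?_⟩
  · refine quasisimple_of_simple_quotient ?_ _ ?_
      (CfsgLib.Classical.Unitary.isSimpleGroup_PSU (n := 4) (q := 3) (F := K) (by rw [hK]; norm_num) (by norm_num)
        (by norm_num)) q'
    · have h := congrArg (Subgroup.map e.toMonoidHom) hperf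
      rw [Subgroup.map_top_of_surjective _ e.surjective, map_commutator_eq,
        MonoidHom.range_eq_top_of_surjective _ e.surjective, ← _root_.commutator_def] at h
      exact h
    · intro w hw
      refine mem_center_iff.2 fun v => Subtype.ext ?_
      exact ((mem_centralizer_iff.1 v.2) _ (mem_subgroupOf.1 hw)).symm
  · rw [hC', hY, ← Subgroup.map_equiv_normalizer_eq (zpowers x) ψ,
      relIndex_map_map_of_injective _ _ ψ.injective]
    exact hrel

/-- The conjugate form. -/
theorem three_transfer_conj (φ : M ≃* G) {x : M} (c : G) (Y' : Subgroup G)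
    (hY : Y'.map (MulAut.conj c).toMonoidHom = zpowers (φ x))
    [(Y'.subgroupOf (centralizer (Y' : Set G))).Normal]
    [((zpowers x).subgroupOf (centralizer ((zpowers x : Subgroup M) : Set M))).Normal]
    (K : Type) [Field K] [Fintype K] (hK : Fintype.card K = 9)
    (hperf : commutator ↥(centralizer ((zpowers x : Subgroup M) : Set M)) = ⊤)
    (hq : Nonempty (↥(centralizer ((zpowers x : Subgroup M) : Set M)) ⧸
      (zpowers x).subgroupOf (centralizer ((zpowers x : Subgroup M) : Set M)) ≃* Cfsg.PSU 4 K 3))
    (hrel : (centralizer ((zpowers x : Subgroup M) : Set M)).relIndex (normalizer (zpowers x : Set M)) = 2) :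
    Cfsg.IsQuasisimple ↥(centralizer (Y' : Set G)) ∧
      Nonempty (↥(centralizer (Y' : Set G)) ⧸ Y'.subgroupOf (centralizer (Y' : Set G)) ≃* Cfsg.PSU 4 K 3) ∧
      (centralizer (Y' : Set G)).relIndex (normalizer (Y' : Set G)) = 2 := by
  refine three_transfer (φ.trans (MulAut.conj c).symm) Y' ?_ K hK hperf hq hrel
  ext w
  rw [mem_map_equiv]
  have h : c * w * c⁻¹ ∈ Y'.map (MulAut.conj c).toMonoidHom ↔ w ∈ Y' := by
    rw [mem_map_equiv]; simp [mul_assoc]
  rw [← h, hY]
  show _ ↔ φ.symm (c * w * c⁻¹) ∈ _
  constructor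
  · intro hm
    obtain ⟨k, hk⟩ := mem_zpowers_iff.1 hm
    exact mem_zpowers_iff.2 ⟨k, by rw [← hk, ← map_zpow, φ.symm_apply_apply]⟩
  · intro hm
    obtain ⟨k, hk⟩ := mem_zpowers_iff.1 hm
    exact mem_zpowers_iff.2 ⟨k, by rw [← map_zpow, hk, φ.apply_symm_apply]⟩

end CfsgLib.SuzType.Ident
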