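import Cfsg.Agent.Lib.SuzType.Local.HFacts

/-!
Suzuki type: a full basis of the six dimensional space, maps given by the images of the basis, reflections.
-/

set_option autoImplicit false
set_option linter.unusedSectionVars false

namespace CfsgLib.SuzType.Ident

open CfsgLib.SuzType CfsgLib.Classical Cfsg

/-- A basis in standard position. -/
structure Basis6 (p p' m n u v : V6) : Prop extends Basis4 p m n u v where
  p0 : qm p = 0
  p'0 : qm p' = 0
  pp' : pb p p' = 1
  p'm : pb p' m = 0
  p'n : pb p' n = 0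
  p'u : pb p' u = 0
  p'v : pb p' v = 0

theorem exists_basis6 {p m n u v : V6} (hp : Sing p) (B : Basis4 p m n u v) :
    ∃ p', Basis6 p p' m n u v := by
  obtain ⟨y, hy⟩ := fact_y hp
  set w := y + pb y n • m + pb y m • n + pb y v • u + pb y u • v with hw
  have hwm : pb w m = 0 := by
    rw [hw]
    simp only [pb_add_left, pb_smul_left, pb_self, B.nm, B.um, B.vm, mul_zero, mul_one, add_zero]
    exact CharTwo.add_self_eq_zero _
  have hwn : pb w n = 0 := by
    rw [hw]
    simp only [pb_add_left, pb_smul_left, pb_self, B.mn, B.un, B.vn, mul_zero, mul_one, add_zero]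
    exact CharTwo.add_self_eq_zero _
  have hwu : pb w u = 0 := by
    rw [hw]
    simp only [pb_add_left, pb_smul_left, pb_self, B.mu, B.nu, B.vu, mul_zero, mul_one, add_zero]
    exact CharTwo.add_self_eq_zero _
  have hwv : pb w v = 0 := by
    rw [hw]
    simp only [pb_add_left, pb_smul_left, pb_self, B.mv, B.nv, B.uv, mul_zero, mul_one, add_zero]
    exact CharTwo.add_self_eq_zero _
  have hwp : pb p w = 1 := by
    rw [hw]
    simp only [pb_add_right, pb_smul_right, B.pm, B.pn, B.pu, B.pv, mul_zero, add_zero, hy]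
  refine ⟨w + qm w • p, ⟨B, hp.2, ?_, ?_, ?_, ?_, ?_, ?_⟩⟩
  · rw [qm_add, quad_smul, hp.2, mul_zero, add_zero, pb_smul_right, pb_comm w, hwp, mul_one,
      CharTwo.add_self_eq_zero]
  · rw [pb_add_right, hwp, pb_smul_right, pb_self, mul_zero, add_zero]
  all_goals simp only [pb_add_left, pb_smul_left, hwm, hwn, hwu, hwv, B.pm, B.pn, B.pu, B.pv, mul_zero, add_zero]

/-- The form on bit patterns in the basis. -/
def qc (i : ℕ) : Bool :=
  ((i.testBit 0 && i.testBit 1) ^^ (i.testBit 2 ^^ i.testBit 3)) ^^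
    ((i.testBit 2 && i.testBit 3) ^^ (i.testBit 4 && i.testBit 5))

/-- The polar form on bit patterns. -/
def pc (i j : ℕ) : Bool := (qc (i ^^^ j) != (qc i != qc j))

/-- The vector of a bit pattern in the basis. -/
def lv (p p' m n u v : V6) (i : ℕ) : V6 :=
  (if i.testBit 0 then p else 0) + (if i.testBit 1 then p' else 0) + (if i.testBit 2 then m else 0) +
    (if i.testBit 3 then n else 0) + (if i.testBit 4 then u else 0) + (if i.testBit 5 then v else 0)

theorem ite_xor {M : Type*} [AddCommGroup M] (h : ∀ x : M, x + x = 0) (x : M) : ∀ a b : Bool,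
    (if (a ^^ b) then x else 0) = (if a then x else 0) + if b then x else 0 := fun a b => by
  cases a <;> cases b <;> simp [h]

variable {p p' m n u v : V6}

theorem lv_xor (i j : ℕ) : lv p p' m n u v (i ^^^ j) = lv p p' m n u v i + lv p p' m n u v j := by
  simp only [lv, Nat.testBit_xor, ite_xor add_self6]
  abel

theorem lv_zero : lv p p' m n u v 0 = 0 := by simp [lv]

theorem lv_p : lv p p' m n u v 1 = p := by simp [lv, Nat.testBit_one_eq_true_iff_self_eq_zero]
theorem lv_p' : lv p p' m n u v 2 = p' := by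
  rw [lv]; simp [show (2 : ℕ).testBit 0 = false from rfl, show (2 : ℕ).testBit 1 = true from rfl,
    show (2 : ℕ).testBit 2 = false from rfl, show (2 : ℕ).testBit 3 = false from rfl,
    show (2 : ℕ).testBit 4 = false from rfl, show (2 : ℕ).testBit 5 = false from rfl]
theorem lv_m : lv p p' m n u v 4 = m := by
  rw [lv]; simp [show (4 : ℕ).testBit 0 = false from rfl, show (4 : ℕ).testBit 1 = false from rfl,
    show (4 : ℕ).testBit 2 = true from rfl, show (4 : ℕ).testBit 3 = false from rfl,
    show (4 : ℕ).testBit 4 = false from rfl, show (4 : ℕ).testBit 5 = false from rfl]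
theorem lv_n : lv p p' m n u v 8 = n := by
  rw [lv]; simp [show (8 : ℕ).testBit 0 = false from rfl, show (8 : ℕ).testBit 1 = false from rfl,
    show (8 : ℕ).testBit 2 = false from rfl, show (8 : ℕ).testBit 3 = true from rfl,
    show (8 : ℕ).testBit 4 = false from rfl, show (8 : ℕ).testBit 5 = false from rfl]
theorem lv_u : lv p p' m n u v 16 = u := by
  rw [lv]; simp [show (16 : ℕ).testBit 0 = false from rfl, show (16 : ℕ).testBit 1 = false from rfl,
    show (16 : ℕ).testBit 2 = false from rfl, show (16 : ℕ).testBit 3 = false from rfl,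
    show (16 : ℕ).testBit 4 = true from rfl, show (16 : ℕ).testBit 5 = false from rfl]
theorem lv_v : lv p p' m n u v 32 = v := by
  rw [lv]; simp [show (32 : ℕ).testBit 0 = false from rfl, show (32 : ℕ).testBit 1 = false from rfl,
    show (32 : ℕ).testBit 2 = false from rfl, show (32 : ℕ).testBit 3 = false from rfl,
    show (32 : ℕ).testBit 4 = false from rfl, show (32 : ℕ).testBit 5 = true from rfl]

/-- The bit patterns of the basis. -/
def e6 : List ℕ := [1, 2, 4, 8, 16, 32]

theorem pat_split : ∀ i : Fin 64, i.val = (if i.val.testBit 0 then 1 else 0) ^^^ (if i.val.testBit 1 then 2 else 0)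
    ^^^ (if i.val.testBit 2 then 4 else 0) ^^^ (if i.val.testBit 3 then 8 else 0) ^^^
    (if i.val.testBit 4 then 16 else 0) ^^^ (if i.val.testBit 5 then 32 else 0) := by decide +kernel

theorem qc_table : ∀ a b c d e f : Bool,
    ((if a then (1 : ZMod 2) else 0) * (if b then 1 else 0) +
      ((if c then 1 else 0) + (if d then 1 else 0) + (if c then 1 else 0) * (if d then 1 else 0)) +
      (if e then 1 else 0) * (if f then 1 else 0)) =
      if ((a && b) ^^ (c ^^ d)) ^^ ((c && d) ^^ (e && f)) then 1 else 0 := by decide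

namespace Basis6

variable (B : Basis6 p p' m n u v)

include B

theorem p'p : pb p' p = 1 := by rw [pb_comm]; exact B.pp'
theorem mp' : pb m p' = 0 := by rw [pb_comm]; exact B.p'm
theorem np' : pb n p' = 0 := by rw [pb_comm]; exact B.p'n
theorem up' : pb u p' = 0 := by rw [pb_comm]; exact B.p'u
theorem vp' : pb v p' = 0 := by rw [pb_comm]; exact B.p'v

theorem qm_lv (i : ℕ) : qm (lv p p' m n u v i) = if qc i then 1 else 0 := by
  have key : ∀ a b c d e f : ZMod 2, qm (a • p + b • p' + c • m + d • n + e • u + f • v) =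
      a * b + (c + d + c * d) + e * f := fun a b c d e f => by
    have h2 : ∀ x : ZMod 2, x * x = x := by decide
    simp only [qm_add, pb_add_left, pb_smul_left, pb_smul_right, quad_smul, h2, B.p0, B.p'0, B.m1, B.n1, B.u0, B.v0,
      B.pp', B.pm, B.pn, B.pu, B.pv, B.p'm, B.p'n, B.p'u, B.p'v, B.mn, B.mu, B.mv, B.nu, B.nv, B.uv,
      mul_zero, mul_one, add_zero, zero_add]
    ring
  have hs : ∀ (c : Bool) (x : V6), (if c then x else 0) = (if c then (1 : ZMod 2) else 0) • x := fun c x => by
    cases c <;> simp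
  rw [lv, hs, hs _ p', hs _ m, hs _ n, hs _ u, hs _ v, key, qc_table]
  rfl

theorem pb_lv (i j : ℕ) : pb (lv p p' m n u v i) (lv p p' m n u v j) = if pc i j then 1 else 0 := by
  show qm (_ + _) - qm _ - qm _ = _
  rw [← lv_xor, B.qm_lv, B.qm_lv, B.qm_lv]
  exact bool_polar _ _ _

theorem lv_inj {i j : ℕ} (hi : i < 64) (hj : j < 64) (h : lv p p' m n u v i = lv p p' m n u v j) : i = j := by
  have hk : ∀ k, pc i k = pc j k := fun k => by
    have := B.pb_lv i k
    rw [h, B.pb_lv] at this
    revert this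
    cases pc i k <;> cases pc j k <;> simp
  have : ∀ a b : Fin 64, (e6.all fun k => pc a.val k == pc b.val k) = true → a = b := by decide +kernel
  exact congrArg Fin.val (this ⟨i, hi⟩ ⟨j, hj⟩ (List.all_eq_true.2 fun k _ => by simp [hk k]))

theorem lv_surj (x : V6) : ∃ i, i < 64 ∧ lv p p' m n u v i = x := by
  have hb : Function.Bijective (fun i : Fin 64 => lv p p' m n u v i.val) :=
    (Fintype.bijective_iff_injective_and_card _).2
      ⟨fun a b h => Fin.ext (B.lv_inj a.2 b.2 h), by simp⟩
  obtain ⟨i, hi⟩ := hb.2 x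
  exact ⟨i.val, i.2, hi⟩

end Basis6

/-- The image of a pattern under a map given on the basis. -/
def apM (M : List ℕ) (i : ℕ) : ℕ :=
  (if i.testBit 0 then M.getD 0 0 else 0) ^^^ (if i.testBit 1 then M.getD 1 0 else 0) ^^^
    (if i.testBit 2 then M.getD 2 0 else 0) ^^^ (if i.testBit 3 then M.getD 3 0 else 0) ^^^
    (if i.testBit 4 then M.getD 4 0 else 0) ^^^ (if i.testBit 5 then M.getD 5 0 else 0)

/-- The composite: the second first. -/
def muM (M N : List ℕ) : List ℕ := N.map (apM M)

/-- The reflection on the basis. -/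
def rfM (a : ℕ) : List ℕ := e6.map fun k => k ^^^ (if pc k a then a else 0)

/-- The map given on the basis. -/
def Acts (p p' m n u v : V6) (g : qAut qm) (M : List ℕ) : Prop :=
  g.1 p = lv p p' m n u v (M.getD 0 0) ∧ g.1 p' = lv p p' m n u v (M.getD 1 0) ∧
    g.1 m = lv p p' m n u v (M.getD 2 0) ∧ g.1 n = lv p p' m n u v (M.getD 3 0) ∧
    g.1 u = lv p p' m n u v (M.getD 4 0) ∧ g.1 v = lv p p' m n u v (M.getD 5 0)

theorem acts_apply {g : qAut qm} {M : List ℕ} (h : Acts p p' m n u v g M) (i : ℕ) :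
    g.1 (lv p p' m n u v i) = lv p p' m n u v (apM M i) := by
  obtain ⟨h0, h1, h2, h3, h4, h5⟩ := h
  have hz : ∀ (c : Bool) (x : V6), g.1 (if c then x else 0) = if c then g.1 x else 0 := fun c x => by
    cases c <;> simp
  have hl : ∀ (c : Bool) (k : ℕ), (if c then lv p p' m n u v k else 0) = lv p p' m n u v (if c then k else 0) :=
    fun c k => by cases c <;> simp [lv_zero]
  conv_lhs => rw [lv]
  simp only [map_add, hz, h0, h1, h2, h3, h4, h5, hl]
  simp only [apM, lv_xor]

theorem acts_mul {g h : qAut qm} {M N : List ℕ} (hg : Acts p p' m n u v g M) (hh : Acts p p' m n u v h N)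
    (hN : N.length = 6) : Acts p p' m n u v (g * h) (muM M N) := by
  have e : ∀ k, k < 6 → (muM M N).getD k 0 = apM M (N.getD k 0) := fun k hk => by
    rw [muM, List.getD_eq_getElem _ _ (by simpa [hN]), List.getElem_map,
      List.getD_eq_getElem _ _ (by omega)]
  obtain ⟨h0, h1, h2, h3, h4, h5⟩ := hh
  refine ⟨?_, ?_, ?_, ?_, ?_, ?_⟩ <;> rw [qAut_mul_apply, e _ (by norm_num)]
  · rw [h0, acts_apply hg]
  · rw [h1, acts_apply hg]
  · rw [h2, acts_apply hg]
  · rw [h3, acts_apply hg]
  · rw [h4, acts_apply hg]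
  · rw [h5, acts_apply hg]

theorem acts_one : Acts p p' m n u v 1 e6 := by
  refine ⟨?_, ?_, ?_, ?_, ?_, ?_⟩ <;> simp [e6, lv_p, lv_p', lv_m, lv_n, lv_u, lv_v]

theorem acts_rf (B : Basis6 p p' m n u v) {a : ℕ} (ha : qm (lv p p' m n u v a) = 1) :
    Acts p p' m n u v (rf _ ha) (rfM a) := by
  have h : ∀ k, (rf _ ha).1 (lv p p' m n u v k) = lv p p' m n u v (k ^^^ if pc k a then a else 0) := fun k => by
    rw [rf_apply, B.pb_lv, lv_xor]
    cases pc k a <;> simp [lv_zero]
  refine ⟨?_, ?_, ?_, ?_, ?_, ?_⟩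
  · simpa [rfM, e6, lv_p] using h 1
  · simpa [rfM, e6, lv_p'] using h 2
  · simpa [rfM, e6, lv_m] using h 4
  · simpa [rfM, e6, lv_n] using h 8
  · simpa [rfM, e6, lv_u] using h 16
  · simpa [rfM, e6, lv_v] using h 32

theorem acts_unique (B : Basis6 p p' m n u v) {g h : qAut qm} {M : List ℕ} (hg : Acts p p' m n u v g M)
    (hh : Acts p p' m n u v h M) : g = h := by
  refine qAut_ext fun x => ?_
  obtain ⟨i, -, rfl⟩ := B.lv_surj x
  show g.1 _ = h.1 _
  rw [acts_apply hg, acts_apply hh]

/-- Two maps agree when their codes do. -/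
theorem acts_congr {g : qAut qm} {M N : List ℕ} (hg : Acts p p' m n u v g M) (e : M = N) :
    Acts p p' m n u v g N := e ▸ hg

end CfsgLib.SuzType.Ident
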