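import Cfsg.Agent.Lib.PresCert.Bound

/-!
Using a checked enumeration: products of involutions that are trivial.
-/

set_option autoImplicit false

namespace CfsgLib.SuzType.Ident

open CfsgLib.PresCert

variable {M : Type*} [Group M] {gen : ℕ → M}

/-- The word of a power of a product; the head of a word acts first. -/
def powWord (p : List ℕ) (n : ℕ) : List ℕ := (List.replicate n p).flatten.reverse

/-- The words of powers of products. -/
def powWords (L : List (List ℕ × ℕ)) : List (List ℕ) := L.map fun q => powWord q.1 q.2

theorem act_rev (w : List ℕ) : act gen w.reverse = (w.map gen).prod := by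
  induction w with
  | nil => simp [act_nil]
  | cons g w ih => rw [List.reverse_cons, act_append, act_cons, act_nil, one_mul, ih]; simp

theorem act_powWord (p : List ℕ) (n : ℕ) : act gen (powWord p n) = (p.map gen).prod ^ n := by
  rw [powWord, act_rev, List.map_flatten, List.map_replicate, List.prod_flatten, List.map_replicate,
    List.prod_replicate]

/-- A walk by live nodes. -/
def liveWalk (D : Data) : ℕ → List ℕ → Option ℕ
  | f, [] => some f
  | f, g :: w =>
    match step D (D.rm - 1) g fuel f with
    | some f' => liveWalk D (root D (D.rm - 1) fuel f') w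
    | none => none

/-- The check of a goal word. -/
def closesB (D : Data) (w : List ℕ) : Bool :=
  w.all (fun g => Nat.blt g D.ng) &&
    (endsAt D (D.rm - 1) (walk D (D.rm - 1) 0 w) 0 || endsAt D (D.rm - 1) (liveWalk D 0 w) 0)

theorem liveWalk_sound {X : Type*} [MulAction M X] {D : Data} {x₀ : X} (hb : Below D gen x₀ (D.rm - 1)) :
    ∀ {w : List ℕ} {f f' : ℕ}, (∀ g ∈ w, g < D.ng) → liveWalk D f w = some f' →
      act gen w • phi D gen x₀ f = phi D gen x₀ f'
  | [], f, f', _, h => by simp [liveWalk] at h; simp [act_nil, h]
  | g :: w, f, f', hw, h => by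
    simp only [liveWalk] at h
    cases hs : step D (D.rm - 1) g fuel f with
    | none => rw [hs] at h; simp at h
    | some f1 =>
      rw [hs] at h
      rw [act_cons, mul_smul, step_sound hb (hw g (by simp)) hs, ← root_sound hb fuel f1]
      exact liveWalk_sound hb (fun a ha => hw a (by simp [ha])) h

theorem closes_fix {X : Type*} [MulAction M X] {D : Data} {x₀ : X} (V : Valid D) (H : Hyp D gen x₀) {w : List ℕ}
    (hw : closesB D w = true) : act gen w • x₀ = x₀ := by
  simp only [closesB, Bool.and_eq_true, Bool.or_eq_true, List.all_eq_true, Nat.blt_eq] at hw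
  rcases hw.2 with hw' | hw'
  · exact word_fix V H hw.1 hw'
  obtain ⟨f, hf, e⟩ := endsAt_sound (below_top V H) hw'
  have := liveWalk_sound (below_top V H) hw.1 hf
  rwa [e, phi_zero] at this

/-- The check of the words of an enumeration without subgroup words. -/
def relsB (D : Data) (L : List (List ℕ × ℕ)) : Bool :=
  relsOk D (powWords L) && subsOk D [] (16 * D.words.length)

theorem act_one_of_cert {D : Data} (V : Valid D) {L : List (List ℕ × ℕ)}
    (hinv : ∀ g, g < D.ng → gen g * gen g = 1)
    (hL : ∀ q ∈ L, (q.1.map gen).prod ^ q.2 = 1) (hD : relsB D L = true) {w : List ℕ}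
    (hw : closesB D w = true) : act gen w = 1 := by
  simp only [relsB, Bool.and_eq_true] at hD
  have hrels : ∀ v ∈ powWords L, act gen v = 1 := by
    intro v hv
    obtain ⟨q, hq, rfl⟩ := List.mem_map.1 hv
    rw [act_powWord, hL q hq]
  have H : Hyp D gen (1 : M) := hyp_of_checks hinv hrels (fun v hv => absurd hv List.not_mem_nil) hD.1 hD.2
  have h := closes_fix V H hw
  rwa [smul_eq_mul, mul_one] at h

theorem pow_one_of_cert {D : Data} (V : Valid D) {L : List (List ℕ × ℕ)}
    (hinv : ∀ g, g < D.ng → gen g * gen g = 1)
    (hL : ∀ q ∈ L, (q.1.map gen).prod ^ q.2 = 1) (hD : relsB D L = true) {p : List ℕ} {n : ℕ}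
    (hw : closesB D (powWord p n) = true) : (p.map gen).prod ^ n = 1 := by
  rw [← act_powWord]
  exact act_one_of_cert V hinv hL hD hw

/-- The word saying that a product commutes with a generator. -/
def commWord (p : List ℕ) (x : ℕ) : List ℕ := (p ++ [x] ++ p.reverse ++ [x]).reverse

theorem comm_of_cert {D : Data} (V : Valid D) {L : List (List ℕ × ℕ)}
    (hinv : ∀ g, g < D.ng → gen g * gen g = 1)
    (hL : ∀ q ∈ L, (q.1.map gen).prod ^ q.2 = 1) (hD : relsB D L = true) {p : List ℕ} {x : ℕ}
    (hp : ∀ g ∈ p, g < D.ng) (hx : x < D.ng) (hw : closesB D (commWord p x) = true) :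
    (p.map gen).prod * gen x = gen x * (p.map gen).prod := by
  have h := act_one_of_cert V hinv hL hD hw
  rw [commWord, act_rev] at h
  have hr : (p.reverse.map gen).prod = (p.map gen).prod⁻¹ := by
    have e := act_reverse (gen := gen) hinv (w := p.reverse) (fun g hg => hp g (List.mem_reverse.1 hg))
    rw [List.reverse_reverse] at e
    rw [← act_rev (p.reverse), List.reverse_reverse, ← act_rev p, e]
  simp only [List.map_append, List.prod_append, List.map_cons, List.map_nil, List.prod_cons,
    List.prod_nil, mul_one, hr] at h
  calc (p.map gen).prod * gen x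
      = (p.map gen).prod * gen x * (p.map gen).prod⁻¹ * gen x * (gen x * (p.map gen).prod) := by
        rw [show (p.map gen).prod * gen x * (p.map gen).prod⁻¹ * gen x * (gen x * (p.map gen).prod) =
          (p.map gen).prod * gen x * (p.map gen).prod⁻¹ * (gen x * gen x) * (p.map gen).prod by group,
          hinv x hx]
        group
    _ = gen x * (p.map gen).prod := by rw [h, one_mul]

end CfsgLib.SuzType.Ident
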