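import Cfsg.Agent.Lib.PresCert.Bound
import Cfsg.Agent.Lib.SuzType.Ident.CitData

/-!
Kernel checks: six enumerations for a pair of involutions
-/

set_option autoImplicit false
set_option maxRecDepth 100000

namespace CfsgLib.SuzType.Ident

open CfsgLib.PresCert

theorem certZbf_block0 : block certZbf 0 = true := by decide +kernel

theorem certZbf_shape : shapeOk certZbf = true := by decide +kernel

theorem certZbf_valid : Valid certZbf where
  shape := certZbf_shape
  slots b hb := by
    have h : certZbf.N = 256 := rfl
    obtain rfl : b = 0 := by omega
    exact certZbf_block0

theorem certCit333_block0 : block certCit333 0 = true := by decide +kernel

theorem certCit333_shape : shapeOk certCit333 = true := by decide +kernel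

theorem certCit333_valid : Valid certCit333 where
  shape := certCit333_shape
  slots b hb := by
    have h : certCit333.N = 205 := rfl
    obtain rfl : b = 0 := by omega
    exact certCit333_block0

theorem certCit335_block0 : block certCit335 0 = true := by decide +kernel

theorem certCit335_shape : shapeOk certCit335 = true := by decide +kernel

theorem certCit335_valid : Valid certCit335 where
  shape := certCit335_shape
  slots b hb := by
    have h : certCit335.N = 205 := rfl
    obtain rfl : b = 0 := by omega
    exact certCit335_block0

theorem certCit553_block0 : block certCit553 0 = true := by decide +kernel

theorem certCit553_shape : shapeOk certCit553 = true := by decide +kernel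

theorem certCit553_valid : Valid certCit553 where
  shape := certCit553_shape
  slots b hb := by
    have h : certCit553.N = 205 := rfl
    obtain rfl : b = 0 := by omega
    exact certCit553_block0

theorem certCit555_block0 : block certCit555 0 = true := by decide +kernel

theorem certCit555_shape : shapeOk certCit555 = true := by decide +kernel

theorem certCit555_valid : Valid certCit555 where
  shape := certCit555_shape
  slots b hb := by
    have h : certCit555.N = 410 := rfl
    obtain rfl : b = 0 := by omega
    exact certCit555_block0

theorem certCit535_block0 : block certCit535 0 = true := by decide +kernel

theorem certCit535_shape : shapeOk certCit535 = true := by decide +kernel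

theorem certCit535_valid : Valid certCit535 where
  shape := certCit535_shape
  slots b hb := by
    have h : certCit535.N = 205 := rfl
    obtain rfl : b = 0 := by omega
    exact certCit535_block0

theorem certCit533_block0 : block certCit533 0 = true := by decide +kernel

theorem certCit533_block1 : block certCit533 1 = true := by decide +kernel

theorem certCit533_block2 : block certCit533 2 = true := by decide +kernel

theorem certCit533_shape : shapeOk certCit533 = true := by decide +kernel

theorem certCit533_valid : Valid certCit533 where
  shape := certCit533_shape
  slots b hb := by
    have h : certCit533.N = 2048 := rfl
    obtain rfl | rfl | rfl : b = 0 ∨ b = 1 ∨ b = 2 := by omega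
    exacts [certCit533_block0, certCit533_block1, certCit533_block2]

end CfsgLib.SuzType.Ident
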