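import Cfsg.Agent.Lib.SuzType.Local.CitCount

/-!
Products of two involutions in a group with the Cit data: no elements of order nine are real.
-/

set_option autoImplicit false
set_option linter.unusedSectionVars false

namespace CfsgLib.SuzType.Ident

open Subgroup CfsgLib.SuzType

variable {X : Type*} [Group X] [Finite X] {z : X} {S A B : Subgroup X} (C : Cit z S A B)

include C

theorem cit_no_nine {y : X} (hy : RealOdd y) : orderOf y ≠ 9 := by
  classical
  intro h9
  haveI := Fintype.ofFinite X
  obtain ⟨hX, hcent, -, -⟩ := C.main_count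
  set M := centralizer ({y} : Set X) with hM
  have hyM : y ∈ M := mem_centralizer_singleton_iff.2 rfl
  have hM9 : Nat.card M = 9 := by
    rcases hcent y hy with ⟨h5, -⟩ | h
    · have := orderOf_dvd_natCard M hyM
      rw [h9, h5] at this; norm_num at this
    · exact h
  have hMz : M = zpowers y := (eq_of_le_of_card_ge (zpowers_le.2 hyM) (by
    rw [Nat.card_zpowers, h9, hM9])).symm
  obtain ⟨k, hk, hN, -⟩ := C.norm_m hy
  rw [← hM, hM9] at hN
  have h6 : Nat.card (MulAut M) = 6 := by
    haveI : IsCyclic M := by rw [hMz]; infer_instance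
    rw [Nat.card_congr (IsCyclic.mulAutMulEquiv M).toEquiv, Nat.card_eq_fintype_card, ZMod.card_units_eq_totient,
      hM9]
    decide
  have hdiv : Nat.card (normalizer (M : Set X)) ∣ 9 * 6 := by
    have hker : ((normalizerMonoidHom M).ker.map (normalizer (M : Set X)).subtype) ≤ M := by
      rintro _ ⟨w, hw, rfl⟩
      rw [normalizerMonoidHom_ker, SetLike.mem_coe, mem_subgroupOf, mem_centralizer_iff] at hw
      exact mem_centralizer_singleton_iff.2 (hw y hyM).symm
    have h1 : Nat.card (normalizerMonoidHom M).ker ∣ 9 := by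
      rw [← hM9, ← card_map_of_injective (normalizer (M : Set X)).subtype_injective]
      exact card_dvd_of_le hker
    have h2 : (normalizerMonoidHom M).ker.index ∣ 6 := by
      rw [← h6, index_ker]; exact card_subgroup_dvd_card _
    rw [← (normalizerMonoidHom M).ker.card_mul_index]
    exact mul_dvd_mul h1 h2
  have hk2 : k = 2 := by
    rw [hN] at hdiv
    have := Nat.dvd_of_mul_dvd_mul_left (show 0 < 9 by norm_num) hdiv
    rcases hk with rfl | rfl | rfl <;> first | rfl | norm_num at this
  subst hk2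
  have hcl := C.card_class hy
  rw [← hM, hN, hM9, hX] at hcl
  set T := Finset.univ.filter fun w : X => ∃ g : X, ∃ c, c * y = y * c ∧ c ≠ 1 ∧ g * c * g⁻¹ = w with hT
  have hTc : T.card = 8960 := by
    rw [Nat.card_eq_fintype_card, Fintype.card_subtype, ← hT] at hcl
    norm_num at hcl ⊢
    omega
  set Re := Finset.univ.filter fun x : X => RealOdd x with hRe
  have hT9 : ∀ w ∈ T, w ∈ Re ∧ Nat.card (centralizer ({w} : Set X)) = 9 := by
    intro w hw
    obtain ⟨g, c, hc, hc1, rfl⟩ := (Finset.mem_filter.1 hw).2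
    obtain ⟨hcR, hcc⟩ := C.cent_eq hy hc hc1
    exact ⟨Finset.mem_filter.2 ⟨Finset.mem_univ _, C.realOdd_conj hcR g⟩, by rw [C.m_conj, hcc, ← hM, hM9]⟩
  have hlow : 8960 * 9 ≤ ∑ x ∈ Re, Nat.card (centralizer ({x} : Set X)) := by
    refine le_trans (le_of_eq ?_) (Finset.sum_le_sum_of_subset (f := fun x => Nat.card (centralizer ({x} : Set X)))
      (fun w hw => (hT9 w hw).1))
    rw [Finset.sum_congr rfl fun w hw => (hT9 w hw).2, Finset.sum_const, hTc, smul_eq_mul]
  have h1 := C.card_X
  have h2 := C.card_inverted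
  have h3 := C.count_inverters
  rw [C.pairs_eq_sum, ← hRe] at h3
  rw [hX] at h1
  have hi : Nat.card {w : X // orderOf w = 2} = 315 := by omega
  rw [hi] at h2 h3
  omega

/-- An involution commuting with the involutions `z` and `b` is trivial if `z * b` has order five. -/
theorem cit_rigid {b w : X} (h5 : orderOf (z * b) = 5) (hw : w * w = 1) (hwz : w * z = z * w)
    (hwb : w * b = b * w) : w = 1 := by
  by_contra h1
  have h := C.order_cent (orderOf_two'.2 ⟨hw, h1⟩) (Commute.mul_left hwz.symm hwb.symm).eq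
  rw [h5] at h
  norm_num at h

theorem cit_cent_E {v : X} (hv : v ∈ A ⊓ B) (hv1 : v ≠ 1) : centralizer ({v} : Set X) = S :=
  (eq_of_le_of_card_ge (fun _ hs => mem_centralizer_singleton_iff.2 (C.E_central hv hs)) (by
    rw [C.cardS, C.card_cent (C.conj_all (orderOf_two'.2 ⟨C.sqA v hv.1, hv1⟩))])).symm

/-- The order of a product of an involution with a further central involution of `S`. -/
theorem cit_order {p v : X} (hp : p * p = 1) (hv : v ∈ A ⊓ B) (hv1 : v ≠ 1) (h5 : orderOf (z * p) = 5) :
    (p * v) ^ 3 = 1 ∨ (p * v) ^ 5 = 1 := by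
  have hv2 := C.sqA v hv.1
  have hpv : v * p * v = v * (p * v) := by group
  have hinv : v * (p * v) * v⁻¹ = (p * v)⁻¹ := by
    rw [mul_inv_rev, inv_eq_of_mul_eq_one_right hp, inv_eq_of_mul_eq_one_right hv2]
    rw [mul_assoc, mul_assoc, hv2, mul_one]
  rcases Nat.even_or_odd (orderOf (p * v)) with hev | hodd
  · exfalso
    have hw := CfsgLib.Invol.orderOf_half (x := p) (y := v) hev
    obtain ⟨hw2, hw1⟩ := orderOf_two'.1 hw
    set w := (p * v) ^ (orderOf (p * v) / 2) with hwdef
    have hwv : v * w = w * v := by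
      have e : v * w * v⁻¹ = w⁻¹ := by rw [hwdef, ← conj_pow, hinv, inv_pow]
      rw [inv_eq_of_mul_eq_one_right hw2] at e
      exact mul_inv_eq_iff_eq_mul.1 e
    have hwS : w ∈ S := by rw [← cit_cent_E C hv hv1, mem_centralizer_singleton_iff]; exact hwv.symm
    have hwp : w * p = p * w := by
      have e : (p * v) * w = w * (p * v) := by rw [hwdef, ← pow_succ, ← pow_succ']
      calc w * p = w * (p * v) * v := by rw [mul_assoc, mul_assoc, hv2, mul_one]
        _ = p * (v * w) * v := by rw [← e]; group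
        _ = p * w := by rw [hwv, mul_assoc, mul_assoc, hv2, mul_one]
    exact hw1 (cit_rigid C h5 hw2 ((mem_S_iff C).1 hwS) hwp)
  · by_cases h1 : p * v = 1
    · exact .inl (by rw [h1, one_pow])
    have hR : RealOdd (p * v) := ⟨h1, hodd, v, orderOf_two'.2 ⟨hv2, hv1⟩, hinv⟩
    have hd := orderOf_dvd_natCard _
      (mem_centralizer_singleton_iff.2 rfl : p * v ∈ centralizer ({p * v} : Set X))
    rcases C.main_count.2.1 _ hR with ⟨h, -⟩ | h <;> rw [h] at hd
    · exact .inr (orderOf_dvd_iff_pow_eq_one.1 hd)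
    · have hne := cit_no_nine C hR
      obtain ⟨i, hi, e⟩ := (Nat.dvd_prime_pow Nat.prime_three).1 (show orderOf (p * v) ∣ 3 ^ 2 by simpa using hd)
      refine .inl (orderOf_dvd_iff_pow_eq_one.1 ?_)
      interval_cases i <;> simp_all

end CfsgLib.SuzType.Ident
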