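import Cfsg.Agent.Lib.SuzType.Ident.CitOrders
import Cfsg.Agent.Lib.SuzType.Ident.CertUse
import Cfsg.Agent.Lib.SuzType.Ident.CitCheck

/-!
The choice between two central involutions in a group with the Cit data.
-/

set_option autoImplicit false
set_option linter.unusedSectionVars false

namespace CfsgLib.SuzType.Ident

open Subgroup CfsgLib.SuzType CfsgLib.PresCert

variable {X : Type*} [Group X] [Finite X] {z : X} {S A B : Subgroup X} (C : Cit z S A B)

/-- The generators of the small presentation. -/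
def citGen (z f v b : X) (k : ℕ) : X := [z, f, v, b].getD k 1

/-- The generators without the third. -/
def zfbGen (z f b : X) (k : ℕ) : X := [z, f, b].getD k 1

/-- The relations of `⟨z, f, b⟩`. -/
def zfbRels : List (List ℕ × ℕ) := [([0, 1], 2), ([0, 2], 5), ([2, 1], 3)]

/-- The relations of `⟨z, f, v, b⟩` with three orders. -/
def citRels (p q r : ℕ) : List (List ℕ × ℕ) :=
  [([0, 1], 2), ([0, 2], 2), ([1, 2], 2), ([0, 3], 5), ([3, 1], 3), ([0, 3, 1], 5), ([3, 2], p),
    ([3, 0, 2], q), ([3, 0, 3, 2], r)]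

theorem zfb_checks : relsB certZbf zfbRels = true ∧ certZbf.ng = 3 ∧
    closesB certZbf (powWord [0, 2, 1] 10) = true ∧
    closesB certZbf (commWord (List.replicate 5 [0, 2, 1]).flatten 0) = true ∧
    closesB certZbf (commWord (List.replicate 5 [0, 2, 1]).flatten 2) = true := by
  decide +kernel

theorem cit_checks :
    (relsB certCit333 (citRels 3 3 3) = true ∧ certCit333.ng = 4 ∧ closesB certCit333 [0] = true) ∧
    (relsB certCit335 (citRels 3 3 5) = true ∧ certCit335.ng = 4 ∧ closesB certCit335 [0] = true) ∧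
    (relsB certCit553 (citRels 5 5 3) = true ∧ certCit553.ng = 4 ∧ closesB certCit553 [0] = true) ∧
    (relsB certCit555 (citRels 5 5 5) = true ∧ certCit555.ng = 4 ∧ closesB certCit555 [0] = true) ∧
    (relsB certCit535 (citRels 5 3 5) = true ∧ certCit535.ng = 4 ∧ closesB certCit535 [0] = true) ∧
    (relsB certCit533 (citRels 5 3 3) = true ∧ certCit533.ng = 4 ∧
      closesB certCit533 (powWord [0, 3, 0, 2, 1] 10) = true ∧
      closesB certCit533 (commWord (List.replicate 5 [0, 3, 0, 2, 1]).flatten 0) = true ∧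
      closesB certCit533 (commWord (List.replicate 5 [0, 3, 0, 2, 1]).flatten 3) = true) := by
  decide +kernel

theorem prod_rep (gen : ℕ → X) (p : List ℕ) (n : ℕ) :
    (((List.replicate n p).flatten).map gen).prod = (p.map gen).prod ^ n := by
  rw [List.map_flatten, List.map_replicate, List.prod_flatten, List.map_replicate, List.prod_replicate]

include C

/-- A word that squares to one and commutes with `z` and `b` is one. -/
theorem pow_five_one {b w : X} (h5 : orderOf (z * b) = 5) (h10 : w ^ 10 = 1)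
    (hwz : w ^ 5 * z = z * w ^ 5) (hwb : w ^ 5 * b = b * w ^ 5) : w ^ 5 = 1 :=
  cit_rigid C h5 (by rw [← pow_add]; exact h10) hwz hwb

theorem zbf_five {b f : X} (hb : b * b = 1) (hf : f * f = 1) (hfz : f * z = z * f) (h5 : orderOf (z * b) = 5)
    (hbf : (b * f) ^ 3 = 1) : (z * b * f) ^ 5 = 1 := by
  obtain ⟨hr, hng, c1, c2, c3⟩ := zfb_checks
  have hinv : ∀ g, g < certZbf.ng → zfbGen z f b g * zfbGen z f b g = 1 := by
    intro g hg; rw [hng] at hg; interval_cases g <;> simp [zfbGen, C.z2, hb, hf]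
  have hL : ∀ q ∈ zfbRels, (q.1.map (zfbGen z f b)).prod ^ q.2 = 1 := by
    intro q hq
    simp only [zfbRels, List.mem_cons, List.not_mem_nil, or_false] at hq
    rcases hq with rfl | rfl | rfl
    · simp only [zfbGen, List.map_cons, List.map_nil, List.getD_cons_succ, List.getD_cons_zero, List.prod_cons,
        List.prod_nil, mul_one]
      rw [pow_two, show z * f * (z * f) = z * (f * z) * f by group, hfz, ← mul_assoc z z f, C.z2, one_mul, hf]
    · simp only [zfbGen, List.map_cons, List.map_nil, List.getD_cons_succ, List.getD_cons_zero, List.prod_cons,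
        List.prod_nil, mul_one]
      rw [← h5, pow_orderOf_eq_one]
    · simpa [zfbGen] using hbf
  have e : (([0, 2, 1] : List ℕ).map (zfbGen z f b)).prod = z * b * f := by simp [zfbGen, mul_assoc]
  have a1 := pow_one_of_cert certZbf_valid hinv hL hr c1
  have a2 := comm_of_cert certZbf_valid hinv hL hr (by rw [hng]; decide) (by rw [hng]; decide) c2
  have a3 := comm_of_cert certZbf_valid hinv hL hr (by rw [hng]; decide) (by rw [hng]; decide) c3
  rw [e] at a1
  rw [prod_rep, e, show zfbGen z f b 0 = z from rfl] at a2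
  rw [prod_rep, e, show zfbGen z f b 2 = b from rfl] at a3
  exact pow_five_one C h5 a1 a2 a3

theorem sq_mul {p q : X} (hp : p * p = 1) (hq : q * q = 1) (h : q * p = p * q) : (p * q) ^ 2 = 1 := by
  rw [pow_two, show p * q * (p * q) = p * (q * p) * q by group, h, ← mul_assoc p p q, hp, one_mul, hq]

theorem cit_hinv {b f v : X} (hb : b * b = 1) (hf : f * f = 1) (hv : v * v = 1) :
    ∀ g, g < 4 → citGen z f v b g * citGen z f v b g = 1 := by
  intro g hg; interval_cases g <;> simp [citGen, C.z2, hb, hf, hv]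

theorem cit_hL {b f v : X} (hf : f * f = 1) (hv : v * v = 1) (hfz : f * z = z * f) (hvz : v * z = z * v)
    (hfv : v * f = f * v) (h5 : orderOf (z * b) = 5) (hbf : (b * f) ^ 3 = 1) (hzbf : (z * b * f) ^ 5 = 1)
    {p q r : ℕ} (hp : (b * v) ^ p = 1) (hq : (b * (z * v)) ^ q = 1) (hr : (b * z * b * v) ^ r = 1) :
    ∀ x ∈ citRels p q r, (x.1.map (citGen z f v b)).prod ^ x.2 = 1 := by
  intro x hx
  simp only [citRels, List.mem_cons, List.not_mem_nil, or_false] at hx
  rcases hx with rfl | rfl | rfl | rfl | rfl | rfl | rfl | rfl | rfl <;>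
    simp only [citGen, List.map_cons, List.map_nil, List.getD_cons_succ, List.getD_cons_zero, List.prod_cons,
      List.prod_nil, mul_one]
  · exact sq_mul C C.z2 hf hfz
  · exact sq_mul C C.z2 hv hvz
  · exact sq_mul C hf hv hfv
  · rw [← h5, pow_orderOf_eq_one]
  · exact hbf
  · rwa [← mul_assoc]
  · exact hp
  · exact hq
  · simpa only [mul_assoc] using hr

theorem cit_false {b f v : X} {D : Data} (V : Valid D) {p q r : ℕ}
    (hD : relsB D (citRels p q r) = true ∧ D.ng = 4 ∧ closesB D [0] = true)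
    (hinv : ∀ g, g < 4 → citGen z f v b g * citGen z f v b g = 1)
    (hL : ∀ x ∈ citRels p q r, (x.1.map (citGen z f v b)).prod ^ x.2 = 1) : False := by
  have h := act_one_of_cert V (fun g hg => hinv g (hD.2.1 ▸ hg)) hL hD.1 hD.2.2
  rw [act_cons, act_nil, one_mul] at h
  exact C.z1 h

theorem cit_five {b f v : X} (hinv : ∀ g, g < 4 → citGen z f v b g * citGen z f v b g = 1)
    (hL : ∀ x ∈ citRels 5 3 3, (x.1.map (citGen z f v b)).prod ^ x.2 = 1) (h5 : orderOf (z * b) = 5) :
    (z * b * (z * v) * f) ^ 5 = 1 := by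
  obtain ⟨-, -, -, -, -, hr, hng, c1, c2, c3⟩ := cit_checks
  have hi : ∀ g, g < certCit533.ng → citGen z f v b g * citGen z f v b g = 1 := fun g hg => hinv g (hng ▸ hg)
  have e : (([0, 3, 0, 2, 1] : List ℕ).map (citGen z f v b)).prod = z * b * (z * v) * f := by
    simp [citGen, mul_assoc]
  have a1 := pow_one_of_cert certCit533_valid hi hL hr c1
  have a2 := comm_of_cert certCit533_valid hi hL hr (by rw [hng]; decide) (by rw [hng]; decide) c2
  have a3 := comm_of_cert certCit533_valid hi hL hr (by rw [hng]; decide) (by rw [hng]; decide) c3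
  rw [e] at a1
  rw [prod_rep, e, show citGen z f v b 0 = z from rfl] at a2
  rw [prod_rep, e, show citGen z f v b 3 = b from rfl] at a3
  exact pow_five_one C h5 a1 a2 a3

theorem order_zb {b : X} (h : (z * b) ^ 5 = 1) (hne : z * b ≠ 1) : orderOf (z * b) = 5 := by
  haveI : Fact (Nat.Prime 5) := ⟨by norm_num⟩
  exact orderOf_eq_prime h hne

theorem five_two {b : X} (h : (z * b) ^ 5 = 1) (hne : z * b ≠ 1) (h2 : (z * b) ^ 2 = 1) : False := by
  refine hne ?_
  calc z * b = ((z * b) ^ 2) ^ 2 * (z * b) := by rw [h2, one_pow, one_mul]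
    _ = 1 := by rw [← pow_mul, ← pow_succ]; exact h

theorem bv_ne {b v : X} (hb : b * b = 1) (hv : v * v = 1) (hvz : v * z = z * v) (hzb : (z * b) ^ 5 = 1)
    (hne : z * b ≠ 1) (h3 : (b * v) ^ 3 = 1) (h5 : (b * v) ^ 5 = 1) : False := by
  have h1 : b * v = 1 := by
    calc b * v = ((b * v) ^ 3) ^ 2 * ((b * v) ^ 5)⁻¹ := by group
      _ = 1 := by rw [h3, h5, one_pow, inv_one, mul_one]
  have e : b = v := by rw [← mul_one b, ← hv, ← mul_assoc, h1, one_mul]
  subst e
  exact five_two C hzb hne (sq_mul C C.z2 hb hvz)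

/-- The case of orders five and three. -/
theorem cit_case {b f v : X} (hv : v ∈ A ⊓ B) (hv1 : v ≠ 1) (hb : b * b = 1) (hf : f * f = 1)
    (hfz : f * z = z * f) (hfv : f * v = v * f) (hzb : (z * b) ^ 5 = 1) (hne : z * b ≠ 1)
    (hbf : (b * f) ^ 3 = 1) (h5v : (b * v) ^ 5 = 1) (h3 : (b * (z * v)) ^ 3 = 1) :
    (z * b * (z * v) * f) ^ 5 = 1 ∧ (b * v) ^ 3 ≠ 1 := by
  have h5 := order_zb C hzb hne
  have hv2 := C.sqA v hv.1
  have hvz : v * z = z * v := (mem_S_iff C).1 (C.AS hv.1)
  have h10 : orderOf (z * (b * z * b)) = 5 := by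
    rw [show z * (b * z * b) = (z * b) ^ 2 by rw [pow_two]; group]
    refine Nat.Coprime.orderOf_pow ?_ |>.trans h5
    rw [h5]; decide
  have hbb : b * z * b * (b * z * b) = 1 := by
    rw [show b * z * b * (b * z * b) = b * z * (b * b) * z * b by group, hb, mul_one, mul_assoc b z z, C.z2,
      mul_one, hb]
  refine ⟨?_, fun h => bv_ne C hb hv2 hvz hzb hne h h5v⟩
  have hzbf := zbf_five C hb hf hfz h5 hbf
  have hi := cit_hinv C hb hf hv2
  rcases cit_order C hbb hv hv1 h10 with hr | hr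
  · exact cit_five C hi (cit_hL C hf hv2 hfz hvz hfv.symm h5 hbf hzbf h5v h3 hr) h5
  · exact absurd (cit_hL C hf hv2 hfz hvz hfv.symm h5 hbf hzbf h5v h3 hr)
      fun hL => cit_false C certCit535_valid cit_checks.2.2.2.2.1 hi hL

/-- Exactly one of the two involutions works. -/
theorem cit_choice {b f v : X} (hv : v ∈ A ⊓ B) (hv1 : v ≠ 1) (hvz : v ≠ z) (hb : b * b = 1) (hbz : b ≠ z)
    (hf : f * f = 1) (hfz : f * z = z * f) (hfv : f * v = v * f) (hzb : (z * b) ^ 5 = 1)
    (hbf : (b * f) ^ 3 = 1) :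
    ((b * v) ^ 3 = 1 ∧ (z * b * v * f) ^ 5 = 1 ∧ (b * (z * v)) ^ 3 ≠ 1) ∨
      ((b * (z * v)) ^ 3 = 1 ∧ (z * b * (z * v) * f) ^ 5 = 1 ∧ (b * v) ^ 3 ≠ 1) := by
  have hne : z * b ≠ 1 := fun e => hbz (by rw [← one_mul b, ← C.z2, mul_assoc, e, mul_one])
  have h5 := order_zb C hzb hne
  have hv2 := C.sqA v hv.1
  have hvz' : v * z = z * v := (mem_S_iff C).1 (C.AS hv.1)
  have hw : z * v ∈ A ⊓ B := mul_mem ⟨C.zA, C.zB⟩ hv
  have hw1 : z * v ≠ 1 := fun e => hvz (by rw [← one_mul v, ← C.z2, mul_assoc, e, mul_one])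
  have hfw : f * (z * v) = z * v * f := by rw [← mul_assoc, hfz, mul_assoc, hfv, mul_assoc]
  have hzw : z * (z * v) = v := by rw [← mul_assoc, C.z2, one_mul]
  have hzbf := zbf_five C hb hf hfz h5 hbf
  have hi := cit_hinv C hb hf hv2
  have h10 : orderOf (z * (b * z * b)) = 5 := by
    rw [show z * (b * z * b) = (z * b) ^ 2 by rw [pow_two]; group]
    refine Nat.Coprime.orderOf_pow ?_ |>.trans h5
    rw [h5]; decide
  have hbb : b * z * b * (b * z * b) = 1 := by
    rw [show b * z * b * (b * z * b) = b * z * (b * b) * z * b by group, hb, mul_one, mul_assoc b z z, C.z2,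
      mul_one, hb]
  rcases cit_order C hb hv hv1 h5 with hp | hp <;> rcases cit_order C hb hw hw1 h5 with hq | hq
  · exfalso
    rcases cit_order C hbb hv hv1 h10 with hr | hr
    · exact cit_false C certCit333_valid cit_checks.1 hi (cit_hL C hf hv2 hfz hvz' hfv.symm h5 hbf hzbf hp hq hr)
    · exact cit_false C certCit335_valid cit_checks.2.1 hi (cit_hL C hf hv2 hfz hvz' hfv.symm h5 hbf hzbf hp hq hr)
  · obtain ⟨h1, h2⟩ := cit_case C hw hw1 hb hf hfz hfw hzb hne hbf hq (by rw [hzw]; exact hp)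
    rw [hzw] at h1
    exact .inl ⟨hp, h1, h2⟩
  · obtain ⟨h1, h2⟩ := cit_case C hv hv1 hb hf hfz hfv hzb hne hbf hp hq
    exact .inr ⟨hq, h1, h2⟩
  · exfalso
    rcases cit_order C hbb hv hv1 h10 with hr | hr
    · exact cit_false C certCit553_valid cit_checks.2.2.1 hi (cit_hL C hf hv2 hfz hvz' hfv.symm h5 hbf hzbf hp hq hr)
    · exact cit_false C certCit555_valid cit_checks.2.2.2.1 hi (cit_hL C hf hv2 hfz hvz' hfv.symm h5 hbf hzbf hp hq hr)

/-- One of the two involutions fits both `f` and `g`. -/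
theorem cit_pair {b f g v : X} (hv : v ∈ A ⊓ B) (hv1 : v ≠ 1) (hvz : v ≠ z) (hb : b * b = 1)
    (hf : f * f = 1) (hg : g * g = 1) (hfz : f * z = z * f) (hfv : f * v = v * f) (hgz : g * z = z * g)
    (hgv : g * v = v * g) (hzb : (z * b) ^ 5 = 1) (hbf : (b * f) ^ 3 = 1) (hbg : (b * g) ^ 3 = 1)
    (hfg : (f * g) ^ 2 = z) :
    ∃ c, (c = v ∨ c = z * v) ∧ (b * c) ^ 3 = 1 ∧ (z * b * c * f) ^ 5 = 1 ∧ (z * b * c * g) ^ 5 = 1 := by
  have hbz : b ≠ z := by
    intro e
    subst e
    have hf1 : f = b := by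
      have h2 : (b * f) ^ 2 = 1 := sq_mul C hb hf hfz
      have h1 : b * f = 1 := by
        calc b * f = ((b * f) ^ 2)⁻¹ * (b * f) ^ 3 := by group
          _ = 1 := by rw [h2, hbf, inv_one, mul_one]
      rw [← one_mul f, ← hb, mul_assoc, h1, mul_one]
    subst hf1
    exact C.z1 (by rw [← hfg]; exact sq_mul C hb hg hgz)
  rcases cit_choice C hv hv1 hvz hb hbz hf hfz hfv hzb hbf with ⟨h1, h2, h3⟩ | ⟨h1, h2, h3⟩ <;>
    rcases cit_choice C hv hv1 hvz hb hbz hg hgz hgv hzb hbg with ⟨k1, k2, k3⟩ | ⟨k1, k2, k3⟩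
  · exact ⟨v, .inl rfl, h1, h2, k2⟩
  · exact absurd h1 k3
  · exact absurd k1 h3
  · exact ⟨z * v, .inr rfl, h1, h2, k2⟩

end CfsgLib.SuzType.Ident
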