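import Cfsg.Agent.Lib.SuzType.Local.CentFStruct
import Cfsg.Agent.Lib.SmallSimple.Order360
import Mathlib.GroupTheory.Transfer

/-!
Suzuki type: the centralizer of an element of order five of `C(z)` is the product of its group with a copy of `A₆`.
-/

set_option autoImplicit false
set_option linter.style.haveILetI false
set_option linter.unusedSectionVars false
set_option linter.unusedSimpArgs false

namespace CfsgLib.SuzType

open Subgroup CfsgLib.Classical
open scoped commutatorElement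

variable {G : Type*} [Group G] [Finite G]

theorem zpowers_normal_in_cent (f : G) : ((zpowers f).subgroupOf (centralizer ({f} : Set G))).Normal :=
  ⟨fun y hy g => by
    obtain ⟨k, hk⟩ := mem_zpowers_iff.1 (mem_subgroupOf.1 hy)
    have hc : Commute (g : G) (y : G) := hk ▸ (Commute.zpow_right (mem_centralizer_singleton_iff.1 g.2) k)
    rwa [show g * y * g⁻¹ = y from mul_inv_eq_iff_eq_mul.2 (Subtype.ext hc.eq)]⟩

namespace Frm

variable {z t : G} {Q R : Subgroup G} {π π' : G → V6} {ρ ρ' : G → qAut qm} {r s ω au bu av bv : G}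
  {m n u v : V6} (F : Frm z t Q R π π' ρ ρ' r s ω au bu av bv m n u v)

include F

/-- The quotient of the centralizer of an element of order five of `C(z)` is simple. -/
theorem five_quot_simple {f : G} (hfz : f * z = z * f) (h5 : orderOf f = 5) :
    letI := zpowers_normal_in_cent f
    IsSimpleGroup (centralizer ({f} : Set G) ⧸ (zpowers f).subgroupOf (centralizer ({f} : Set G))) := by
  classical
  haveI : Fact (Nat.Prime 5) := ⟨by norm_num⟩
  haveI : Fact (Nat.Prime 2) := ⟨Nat.prime_two⟩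
  have hfC : f ∈ centralizer ({z} : Set G) := mem_centralizer_singleton_iff.2 hfz
  obtain ⟨⟨qa, qb, hqa, hqb, qa2, qb2, qab, hca, hcb⟩, hdec, h40⟩ := F.P.S.cent_five_data hfC h5
  set C := centralizer ({f} : Set G) with hC
  have hfC' : f ∈ C := mem_centralizer_singleton_iff.2 rfl
  set Z := (zpowers f).subgroupOf C with hZ
  haveI : Z.Normal := ⟨fun y hy g => by
    obtain ⟨k, hk⟩ := mem_zpowers_iff.1 (mem_subgroupOf.1 hy)
    have hc : Commute (g : G) (y : G) := hk ▸ (Commute.zpow_right (mem_centralizer_singleton_iff.1 g.2) k)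
    rwa [show g * y * g⁻¹ = y from mul_inv_eq_iff_eq_mul.2 (Subtype.ext hc.eq)]⟩
  have hZc : Nat.card Z = 5 := by
    rw [hZ, Nat.card_congr (subgroupOfEquivOfLe (zpowers_le.2 hfC')).toEquiv, Nat.card_zpowers, h5]
  set π₀ := QuotientGroup.mk' Z with hπ
  have hπs : Function.Surjective π₀ := QuotientGroup.mk'_surjective _
  have hπ1 : ∀ y : C, π₀ y = 1 ↔ (y : G) ∈ zpowers f := fun y => by
    rw [hπ, QuotientGroup.mk'_apply, QuotientGroup.eq_one_iff, hZ, mem_subgroupOf]
  have hZpow : ∀ {c : G}, c ∈ zpowers f → c ^ 5 = 1 := fun {c} hc => by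
    obtain ⟨k, rfl⟩ := mem_zpowers_iff.1 hc
    rw [← zpow_natCast, ← zpow_mul, mul_comm, zpow_mul, zpow_natCast, ← h5, pow_orderOf_eq_one, one_zpow]
  have hsplit : ∀ {c : G}, c ∈ zpowers f → c * c = 1 → c = 1 := fun {c} hc h2 => by
    have h := hZpow hc
    rw [show (5 : ℕ) = 2 * 2 + 1 from rfl, pow_succ, pow_mul, pow_two c, h2, one_pow, one_mul] at h
    exact h
  let zC : C := ⟨z, mem_centralizer_singleton_iff.2 hfz.symm⟩
  let aC : C := ⟨qa * qb, mem_centralizer_singleton_iff.2 ((Commute.mul_left (show Commute qa f from hca) hcb).eq)⟩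
  let bC : C := ⟨qa, mem_centralizer_singleton_iff.2 hca⟩
  have haz : qa * qb * z = z * (qa * qb) := F.P.S.z_comm (mul_mem hqa hqb)
  have hqz : qa * z = z * qa := F.P.S.z_comm hqa
  -- the centralizer of the image of `z`
  have hlift : ∀ d : C, π₀ d * π₀ zC = π₀ zC * π₀ d → (d : G) * z = z * d := by
    intro d hd
    have h1 := (hπ1 ((zC * d)⁻¹ * (d * zC))).1 (by
      rw [map_mul π₀ ((zC * d)⁻¹), map_inv, map_mul, map_mul, hd, inv_mul_cancel])
    have h1' : (z * (d : G))⁻¹ * ((d : G) * z) ∈ zpowers f := h1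
    set c := (z * (d : G))⁻¹ * ((d : G) * z) with hc
    have hcz : c⁻¹ * z = z * c⁻¹ := by
      obtain ⟨k, hk⟩ := mem_zpowers_iff.1 h1'
      rw [← hk]; exact ((show Commute f z from hfz).zpow_left k).inv_left.eq
    have h2 : (d : G)⁻¹ * z * d = z * c⁻¹ := by rw [hc]; group
    have h3 : c⁻¹ = 1 := by
      refine hsplit (inv_mem h1') ?_
      calc c⁻¹ * c⁻¹ = (z * z) * c⁻¹ * c⁻¹ := by rw [F.P.S.z2, one_mul]
        _ = z * (z * c⁻¹) * c⁻¹ := by group
        _ = z * (c⁻¹ * z) * c⁻¹ := by rw [hcz]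
        _ = z * c⁻¹ * (z * c⁻¹) := by group
        _ = (d : G)⁻¹ * (z * z) * d := by rw [← h2]; group
        _ = 1 := by rw [F.P.S.z2]; group
    rw [h3, mul_one] at h2
    calc (d : G) * z = (d : G) * ((d : G)⁻¹ * z * d) := by rw [h2]
      _ = z * d := by group
  have hC8 : Nat.card (centralizer ({π₀ zC} : Set (C ⧸ Z))) = 8 := by
    set K := (centralizer ({z} : Set G) ⊓ centralizer ({f} : Set G)).subgroupOf C with hK
    set ψ := π₀.comp K.subtype with hψ
    have hrng : ψ.range = centralizer ({π₀ zC} : Set (C ⧸ Z)) := by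
      ext x
      rw [mem_centralizer_singleton_iff]
      constructor
      · rintro ⟨d, rfl⟩
        show π₀ d * π₀ zC = π₀ zC * π₀ d
        rw [← map_mul, ← map_mul]
        exact congrArg π₀ (Subtype.ext (mem_centralizer_singleton_iff.1 (mem_inf.1 (mem_subgroupOf.1 d.2)).1))
      · intro h
        obtain ⟨d, rfl⟩ := hπs x
        exact ⟨⟨d, mem_subgroupOf.2 (mem_inf.2 ⟨mem_centralizer_singleton_iff.2 (hlift d h), d.2⟩)⟩, rfl⟩
    have hker : ψ.ker = Z.subgroupOf K := by
      rw [hψ, ← MonoidHom.comap_ker, hπ, QuotientGroup.ker_mk']; rfl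
    have hZK : Z ≤ K := fun y hy => by
      obtain ⟨k, hk⟩ := mem_zpowers_iff.1 (mem_subgroupOf.1 hy)
      refine mem_subgroupOf.2 (mem_inf.2 ⟨?_, y.2⟩)
      rw [← hk]; exact zpow_mem hfC k
    have h := card_mul_index ψ.ker
    rw [index_ker, hrng, hker, Nat.card_congr (subgroupOfEquivOfLe hZK).toEquiv, hZc, hK,
      Nat.card_congr (subgroupOfEquivOfLe (inf_le_right : centralizer ({z} : Set G) ⊓ centralizer ({f} : Set G) ≤ C)).toEquiv,
      h40] at h
    omega
  have hz1 : π₀ zC ≠ 1 := fun h => F.P.S.z1 (hsplit ((hπ1 zC).1 h) F.P.S.z2)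
  have hz2 : π₀ zC * π₀ zC = 1 := by rw [← map_mul, show zC * zC = 1 from Subtype.ext F.P.S.z2, map_one]
  have hzo : orderOf (π₀ zC) = 2 := orderOf_eq_prime (by rw [pow_two, hz2]) hz1
  have ha2 : π₀ aC * π₀ aC = π₀ zC := by rw [← map_mul]; exact congrArg π₀ (Subtype.ext qab)
  have hao : orderOf (π₀ aC) = 4 := orderOf_eq_prime_pow (p := 2) (n := 1) (by rw [pow_one, pow_two, ha2]; exact hz1)
    (by rw [show 2 ^ (1 + 1) = 2 + 2 from rfl, pow_add, pow_two, ha2, hz2])
  have hbo : orderOf (π₀ bC) = 2 := by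
    refine orderOf_eq_prime (by rw [pow_two, ← map_mul, show bC * bC = 1 from Subtype.ext qa2, map_one]) fun h => ?_
    have h1 := hsplit ((hπ1 bC).1 h) qa2
    have h2 : qa * qb * (qa * qb) = 1 := by
      have h1' : qa = 1 := h1
      rw [h1', one_mul, qb2]
    exact F.P.S.z1 (qab.symm.trans h2)
  have haC : π₀ aC ∈ centralizer ({π₀ zC} : Set (C ⧸ Z)) :=
    mem_centralizer_singleton_iff.2 (by rw [← map_mul, ← map_mul]; exact congrArg π₀ (Subtype.ext haz))
  have hbC : π₀ bC ∈ centralizer ({π₀ zC} : Set (C ⧸ Z)) :=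
    mem_centralizer_singleton_iff.2 (by rw [← map_mul, ← map_mul]; exact congrArg π₀ (Subtype.ext hqz))
  have hba : π₀ bC * π₀ aC * (π₀ bC)⁻¹ = (π₀ aC)⁻¹ := by
    rw [← map_inv, ← map_inv, ← map_mul, ← map_mul]
    refine congrArg π₀ (Subtype.ext ?_)
    show qa * (qa * qb) * qa⁻¹ = (qa * qb)⁻¹
    rw [← mul_assoc, qa2, one_mul, mul_inv_rev, inv_eq_of_mul_eq_one_right qb2]
  -- all involutions are conjugate
  have hinv : ∀ x : C ⧸ Z, x * x = 1 → x ≠ 1 → ∃ c, c * x * c⁻¹ = π₀ zC := by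
    intro x h2 h1
    obtain ⟨w, rfl⟩ := hπs x
    have hw5 : π₀ (w ^ 5) = π₀ w := by
      rw [map_pow, show (5 : ℕ) = 2 * 2 + 1 from rfl, pow_succ, pow_mul, pow_two (π₀ w), h2, one_pow, one_mul]
    have hm : ((w : G) * w) ∈ zpowers f := (hπ1 (w * w)).1 (by rw [map_mul, h2])
    have hww : (w : G) ^ 5 * (w : G) ^ 5 = 1 := by
      rw [← (Commute.refl (w : G)).mul_pow]; exact hZpow hm
    have hw1 : (w : G) ^ 5 ≠ 1 := fun e => h1 (by
      rw [← hw5, show w ^ 5 = 1 from Subtype.ext e, map_one])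
    have hwf : (w : G) ^ 5 * f = f * (w : G) ^ 5 := mem_centralizer_singleton_iff.1 (pow_mem w.2 5)
    have hwz := F.five_not_both h5 (IsConj.refl z) hfz.symm hww hw1 hwf
    obtain ⟨c, hcf, e⟩ := F.five_transitive hfz h5 hwz hwf
    refine ⟨π₀ ⟨c, mem_centralizer_singleton_iff.2 hcf⟩, ?_⟩
    rw [← hw5, ← map_inv, ← map_mul, ← map_mul]
    exact congrArg π₀ (Subtype.ext e)
  -- no subgroup of index two
  have hG : ∀ H : Subgroup (C ⧸ Z), H.index ≠ 2 := by
    intro H hH
    haveI := normal_of_index_eq_two hH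
    have hzH : π₀ zC ∈ H := by rw [← ha2, ← pow_two]; exact sq_mem_of_index_two hH _
    have hall : ∀ x : C ⧸ Z, x * x = 1 → x ≠ 1 → x ∈ H := fun x h2 h1 => by
      obtain ⟨c, hc⟩ := hinv x h2 h1
      rw [show x = c⁻¹ * π₀ zC * c⁻¹⁻¹ by rw [← hc]; group]
      exact Normal.conj_mem inferInstance _ hzH _
    obtain ⟨-, -, hcov, hib, -, -⟩ := CfsgLib.InvolChar.dihedral_facts rfl hC8 hzo haC hao hbC hbo hba
    have hpow : ∀ i : ℤ, π₀ aC ^ i * π₀ bC ∈ H := fun i => by
      have h2 := (hib i).1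
      exact hall _ (by rw [← pow_two, ← h2, pow_orderOf_eq_one]) fun e => by rw [e, orderOf_one] at h2; omega
    have haH : π₀ aC ∈ H := by
      have h0 := hpow 0
      rw [zpow_zero, one_mul] at h0
      have h1 := hpow 1
      rw [zpow_one] at h1
      have := mul_mem h1 (inv_mem h0)
      rwa [mul_inv_cancel_right] at this
    have hle : centralizer ({π₀ zC} : Set (C ⧸ Z)) ≤ H := fun x hx => by
      rcases hcov x hx with h | ⟨i, rfl⟩
      · exact (zpowers_le.2 haH) h
      · exact hpow i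
    obtain ⟨T, hT⟩ := (IsPGroup.of_card (p := 2) (G := centralizer ({π₀ zC} : Set (C ⧸ Z))) (n := 3)
      (by rw [hC8]; norm_num)).exists_le_sylow
    haveI : Nontrivial (T : Subgroup (C ⧸ Z)) :=
      ⟨⟨⟨π₀ zC, hT (mem_centralizer_singleton_iff.2 rfl)⟩, 1, fun h => hz1 (congrArg Subtype.val h)⟩⟩
    haveI := T.2.center_nontrivial
    obtain ⟨c, hc⟩ := exists_prime_orderOf_dvd_card' (G := center (T : Subgroup (C ⧸ Z))) 2 (by
      obtain ⟨q, hq⟩ := IsPGroup.iff_card.1 (T.2.to_subgroup (center (T : Subgroup (C ⧸ Z))))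
      rcases q with _ | q
      · rw [pow_zero] at hq
        exact absurd hq (Finite.one_lt_card (α := center (T : Subgroup (C ⧸ Z)))).ne'
      · rw [hq]; exact dvd_pow_self 2 (by omega))
    set c' := ((c : (T : Subgroup (C ⧸ Z))) : C ⧸ Z) with hc'
    have hco : orderOf c' = 2 := by rw [hc', Subgroup.orderOf_coe, Subgroup.orderOf_coe, hc]
    obtain ⟨g, hg⟩ := hinv c' (by rw [← pow_two, ← hco, pow_orderOf_eq_one])
      (fun e => by rw [e, orderOf_one] at hco; omega)
    have hcent : (T : Subgroup (C ⧸ Z)) ≤ centralizer ({c'} : Set (C ⧸ Z)) := fun y hy =>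
      mem_centralizer_singleton_iff.2 (congrArg Subtype.val (mem_center_iff.1 c.2 ⟨y, hy⟩))
    have hTC : centralizer ({π₀ zC} : Set (C ⧸ Z)) = T := eq_of_le_of_card_ge hT (by
      refine (card_le_of_le hcent).trans (le_of_eq ?_)
      rw [CfsgLib.Invol.card_centralizer_of_isConj (isConj_iff.2 ⟨g, hg⟩)])
    have hd := index_dvd_of_le (hTC ▸ hle)
    rw [hH] at hd
    exact T.not_dvd_index hd
  obtain ⟨hsimple, hcard⟩ := CfsgLib.InvolChar.dihedral_eight hG hC8 hzo haC hao hbC hbo hba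
  exact hsimple

/-- The centralizer of an element of order five of `C(z)`. -/
theorem five_cent {f0 : G} (hfz : f0 * z = z * f0) (h5 : orderOf f0 = 5) :
    ∃ X : Subgroup G, Nat.card X = 360 ∧ Nonempty (X ≃* alternatingGroup (Fin 6)) ∧
      (∀ x ∈ X, x * f0 = f0 * x) ∧ (∀ d, d * f0 = f0 * d → ∃ i : ℕ, ∃ x ∈ X, d = f0 ^ i * x) ∧
      (∀ y, y * f0 = f0 * y → y ^ 8 = 1 → y ∈ X) ∧
      (∀ g, (∃ k : ℕ, g * f0 * g⁻¹ = f0 ^ k) → ∀ x ∈ X, g * x * g⁻¹ ∈ X) := by
  classical
  haveI : Fact (Nat.Prime 5) := ⟨by norm_num⟩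
  haveI := zpowers_normal_in_cent f0
  obtain ⟨hC18, h', -, hh'f, -, -, -, -, -, -, hdec, h25⟩ := F.five_struct hfz h5
  haveI : IsSimpleGroup (centralizer ({f0} : Set G) ⧸ (zpowers f0).subgroupOf (centralizer ({f0} : Set G))) :=
    F.five_quot_simple hfz h5
  set C := centralizer ({f0} : Set G) with hC
  set Z := (zpowers f0).subgroupOf C with hZ
  have hf5 : f0 ^ 5 = 1 := h5 ▸ pow_orderOf_eq_one f0
  have hfC : f0 ∈ C := mem_centralizer_singleton_iff.2 rfl
  let fC : C := ⟨f0, hfC⟩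
  have hZc : Nat.card Z = 5 := by
    rw [hZ, Nat.card_congr (subgroupOfEquivOfLe (zpowers_le.2 hfC)).toEquiv, Nat.card_zpowers, h5]
  have h360 : Nat.card (C ⧸ Z) = 360 := by
    have h := card_eq_card_quotient_mul_card_subgroup Z
    rw [hC18, hZc] at h
    omega
  -- transfer to the abelian Sylow subgroup
  set P := (centralizer ({f0} : Set G) ⊓ centralizer ({h'} : Set G)).subgroupOf C with hP
  have hP25 : Nat.card P = 25 := by
    rw [hP, Nat.card_congr (subgroupOfEquivOfLe inf_le_left).toEquiv, h25]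
  letI : CommGroup P :=
    { (inferInstance : Group P) with
      mul_comm := fun a b => by
        refine Subtype.ext (Subtype.ext ?_)
        show ((a : C) : G) * ((b : C) : G) = ((b : C) : G) * ((a : C) : G)
        obtain ⟨h1, h2⟩ := mem_inf.1 (mem_subgroupOf.1 a.2)
        obtain ⟨h3, h4⟩ := mem_inf.1 (mem_subgroupOf.1 b.2)
        obtain ⟨i, j, e⟩ := hdec _ (mem_centralizer_singleton_iff.1 h3) (mem_centralizer_singleton_iff.1 h4)
        rw [e]
        exact (((show Commute ((a : C) : G) f0 from mem_centralizer_singleton_iff.1 h1).pow_right i).mul_right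
          ((show Commute ((a : C) : G) h' from mem_centralizer_singleton_iff.1 h2).pow_right j)).eq }
  have hPi : P.index = 72 := by
    have h := card_mul_index P
    rw [hP25, hC18] at h
    omega
  let τ : C →* P := MonoidHom.transfer (MonoidHom.id P)
  have hcen : ∀ c : C, c * fC = fC * c := fun c => Subtype.ext (mem_centralizer_singleton_iff.1 c.2)
  have hfP : fC ∈ P := mem_subgroupOf.2 (mem_inf.2 ⟨hfC, mem_centralizer_singleton_iff.2 hh'f.symm⟩)
  have hτf : τ fC = ⟨fC ^ 72, pow_mem hfP 72⟩ := by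
    refine (MonoidHom.transfer_eq_pow (MonoidHom.id P) fC fun k g₀ _ => ?_).trans (Subtype.ext ?_)
    · rw [mul_assoc, ← (show Commute g₀ (fC ^ k) from (show Commute g₀ fC from hcen g₀).pow_right k).eq,
        inv_mul_cancel_left]
    · show fC ^ P.index = fC ^ 72
      rw [hPi]
  set K := τ.ker with hK
  have hKZ : ∀ x : C, x ∈ K → x ∈ Z → x = 1 := by
    intro x hxK hxZ
    obtain ⟨i, hi⟩ := mem_powers_iff_mem_zpowers.2 (mem_subgroupOf.1 hxZ)
    dsimp only at hi
    have hx : x = fC ^ i := Subtype.ext hi.symm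
    have h1 : τ x = 1 := hxK
    rw [hx, map_pow, hτf] at h1
    have h2 : f0 ^ (72 * i) = 1 := by
      rw [pow_mul]
      exact congrArg (fun y : P => ((y : C) : G)) h1
    have h3 := orderOf_dvd_of_pow_eq_one h2
    rw [h5] at h3
    have h4 : 5 ∣ i := (Nat.Prime.dvd_mul (by norm_num)).1 h3 |>.resolve_left (by norm_num)
    obtain ⟨j, rfl⟩ := h4
    exact Subtype.ext (by rw [← hi, pow_mul, hf5, one_pow]; rfl)
  let μ : K →* C ⧸ Z := (QuotientGroup.mk' Z).comp K.subtype
  have hμi : Function.Injective μ := by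
    rw [injective_iff_map_eq_one]
    intro x hx
    exact Subtype.ext (hKZ x x.2 ((QuotientGroup.eq_one_iff (x : C)).1 hx))
  have hna : ¬ ∀ a b : C ⧸ Z, a * b = b * a := fun h => by
    letI : CommGroup (C ⧸ Z) := { (inferInstance : Group (C ⧸ Z)) with mul_comm := h }
    have := IsSimpleGroup.prime_card (α := C ⧸ Z)
    rw [h360] at this
    norm_num at this
  haveI : μ.range.Normal := by
    rw [show μ.range = K.map (QuotientGroup.mk' Z) from by rw [MonoidHom.range_comp, range_subtype]]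
    exact (inferInstance : K.Normal).map _ (QuotientGroup.mk'_surjective _)
  have hμs : μ.range = ⊤ := by
    refine (IsSimpleGroup.eq_bot_or_eq_top_of_normal μ.range inferInstance).resolve_left fun hbot => hna ?_
    intro a b
    obtain ⟨a, rfl⟩ := QuotientGroup.mk'_surjective Z a
    obtain ⟨b, rfl⟩ := QuotientGroup.mk'_surjective Z b
    have hm : ⁅a, b⁆ ∈ K := by
      show τ ⁅a, b⁆ = 1
      rw [map_commutatorElement, commutatorElement_eq_one_iff_mul_comm]
      exact mul_comm _ _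
    have : QuotientGroup.mk' Z ⁅a, b⁆ ∈ μ.range := ⟨⟨_, hm⟩, rfl⟩
    rw [hbot, mem_bot, map_commutatorElement, commutatorElement_eq_one_iff_mul_comm] at this
    exact this
  let e0 : K ≃* C ⧸ Z := MulEquiv.ofBijective μ ⟨hμi, MonoidHom.range_eq_top.1 hμs⟩
  haveI : IsSimpleGroup ↥(alternatingGroup (Fin 6)) := alternatingGroup.isSimpleGroup (by simp)
  obtain ⟨e1⟩ := CfsgLib.SmallSimple.O360.nonempty_iso h360
  obtain ⟨e2⟩ := CfsgLib.SmallSimple.O360.nonempty_iso (G := ↥(alternatingGroup (Fin 6))) (by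
    rw [Nat.card_eq_fintype_card, card_alternatingGroup, Fintype.card_fin]
    rfl)
  let eX : (K.map C.subtype : Subgroup G) ≃* ↥(alternatingGroup (Fin 6)) :=
    ((K.equivMapOfInjective C.subtype C.subtype_injective).symm.trans e0).trans (e1.trans e2.symm)
  have hXC : ∀ x ∈ K.map C.subtype, ∃ c : C, c ∈ K ∧ (c : G) = x := fun x hx => by
    obtain ⟨c, hc, e⟩ := mem_map.1 hx
    exact ⟨c, hc, e⟩
  refine ⟨K.map C.subtype, ?_, ⟨eX⟩, fun x hx => ?_, fun d hd => ?_, fun y hy hy8 => ?_, ?_⟩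
  · rw [← Nat.card_congr (K.equivMapOfInjective C.subtype C.subtype_injective).toEquiv,
      Nat.card_congr e0.toEquiv, h360]
  · obtain ⟨c, -, rfl⟩ := hXC x hx
    exact mem_centralizer_singleton_iff.1 c.2
  · let dC : C := ⟨d, mem_centralizer_singleton_iff.2 hd⟩
    obtain ⟨k, hk⟩ := MonoidHom.range_eq_top.1 hμs (QuotientGroup.mk' Z dC)
    have hz : (k : C)⁻¹ * dC ∈ Z := QuotientGroup.eq.1 hk
    obtain ⟨i, hi⟩ := mem_powers_iff_mem_zpowers.2 (mem_subgroupOf.1 hz)
    dsimp only at hi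
    refine ⟨i, ((k : C) : G), mem_map.2 ⟨k, k.2, rfl⟩, ?_⟩
    rw [((show Commute f0 ((k : C) : G) from (mem_centralizer_singleton_iff.1 (k : C).2).symm).pow_left i).eq, hi]
    show d = ((k : C) : G) * (((k : C) : G)⁻¹ * d)
    rw [mul_inv_cancel_left]
  · let yC : C := ⟨y, mem_centralizer_singleton_iff.2 hy⟩
    refine mem_map.2 ⟨yC, ?_, rfl⟩
    show τ yC = 1
    have h8 : τ yC ^ 8 = 1 := by rw [← map_pow, show yC ^ 8 = 1 from Subtype.ext hy8, map_one]
    have h25' : τ yC ^ 25 = 1 := by rw [← hP25]; exact pow_card_eq_one'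
    calc τ yC = (τ yC ^ 25) ^ 1 / (τ yC ^ 8) ^ 3 := by rw [← pow_mul, ← pow_mul, eq_div_iff_mul_eq', ← pow_succ']
      _ = 1 := by rw [h8, h25', one_pow, one_pow, div_one]
  · rintro g ⟨k, hk⟩ x hx
    obtain ⟨c, hc, rfl⟩ := hXC x hx
    have hk5 : ¬ 5 ∣ k := fun ⟨j, hj⟩ => by
      rw [hj, pow_mul, hf5, one_pow, conj_eq_one_iff] at hk
      rw [hk, orderOf_one] at h5
      norm_num at h5
    have hψm : ∀ w : C, g * (w : G) * g⁻¹ ∈ C := fun w => by
      refine mem_centralizer_singleton_iff.2 (mem_fiveCent_pow h5 hk5 ?_)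
      rw [← hk]
      exact comm_conj (mem_centralizer_singleton_iff.1 w.2)
    let ψ : K →* C := MonoidHom.mk' (fun w => ⟨g * ((w : C) : G) * g⁻¹, hψm w⟩) fun a b => Subtype.ext (by
      show g * (((a : C) : G) * ((b : C) : G)) * g⁻¹ = g * ((a : C) : G) * g⁻¹ * (g * ((b : C) : G) * g⁻¹)
      group)
    haveI : Nontrivial K := e0.toEquiv.nontrivial
    haveI : IsSimpleGroup K := IsSimpleGroup.isSimpleGroup_of_surjective (f := e0.symm.toMonoidHom) e0.symm.surjective
    rcases IsSimpleGroup.eq_bot_or_eq_top_of_normal (τ.comp ψ).ker inferInstance with h | h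
    · refine absurd (fun a b => ?_) hna
      obtain ⟨a, rfl⟩ := e0.surjective a
      obtain ⟨b, rfl⟩ := e0.surjective b
      rw [← map_mul, ← map_mul]
      exact congrArg e0 ((τ.comp ψ).ker_eq_bot_iff.1 h (by rw [map_mul, map_mul, mul_comm]))
    · have : (⟨c, hc⟩ : K) ∈ (τ.comp ψ).ker := h ▸ mem_top _
      exact mem_map.2 ⟨ψ ⟨c, hc⟩, this, rfl⟩

end Frm

end CfsgLib.SuzType
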