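import Cfsg.Agent.Lib.SuzType.Local.CentFiveSeven

/-!
Suzuki type: the four group is a direct factor of its centralizer and the central class lies in a complement.
-/

set_option autoImplicit false
set_option linter.unusedSectionVars false

namespace CfsgLib.SuzType.Ident

open CfsgLib.SuzType CfsgLib.Classical Cfsg Subgroup

variable {G : Type*} [Group G] [Finite G] {z t : G} {Q R : Subgroup G} {π π' : G → V6} {ρ ρ' : G → qAut qm}
  {r s ω au bu av bv : G} {m n u v : V6}

/-- A projection onto the four group killing the central class. -/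
theorem exists_chi (F : Frm z t Q R π π' ρ ρ' r s ω au bu av bv m n u v) :
    ∃ χ : CV r s →* Multiplicative (ZMod 2 × ZMod 2),
      (∀ x : CV r s, (x : G) ∈ closure ({r, s} : Set G) → χ x = 1 → x = 1) ∧
      ∀ x : CV r s, IsConj z (x : G) → χ x = 1 := by
  classical
  have hHK : HH z r s ≤ CV r s := inf_le_right
  set H := (HH z r s).subgroupOf (CV r s) with hH
  have co : ∀ c : H, ∃ q : V6 × V6, Co z t Q R π ρ ((c : CV r s) : G) q.1 q.2 := fun c => by
    obtain ⟨x, y, h, -⟩ := F.mem_H_iff.1 (mem_subgroupOf.1 c.2)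
    exact ⟨(x, y), h⟩
  choose q hq using co
  let f : H → ZMod 2 × ZMod 2 := fun c => (pb (q c).1 n, pb (q c).1 m)
  have fval : ∀ (c : H) {x y : V6}, Co z t Q R π ρ ((c : CV r s) : G) x y → f c = (pb x n, pb x m) := fun c x y h => by
    obtain ⟨e, -⟩ := F.P.co_unique (hq c) h
    exact Prod.ext (pm_polar e F.B.pn) (pm_polar e F.B.pm)
  let ψ : H →* Multiplicative (ZMod 2 × ZMod 2) :=
    MonoidHom.mk' (fun c => Multiplicative.ofAdd (f c)) fun a b => by
      rw [← ofAdd_add, fval (a * b) (F.P.co_mul (hq a) (hq b))]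
      exact congrArg _ (Prod.ext (pb_add_left _ _ _) (pb_add_left _ _ _))
  have hidx : H.index = 315 := by
    have h1 := H.card_mul_index
    have h2 : Nat.card H = 256 := by rw [Nat.card_congr (subgroupOfEquivOfLe hHK).toEquiv, F.card_H]
    rw [h2, F.card_CV] at h1
    omega
  haveI : H.FiniteIndex := ⟨by rw [hidx]; norm_num⟩
  set χ := MonoidHom.transfer ψ with hχ
  refine ⟨χ, ?_, ?_⟩
  · intro x hx h1
    have hc : ∀ y : CV r s, Commute y x := fun y => Subtype.ext (closure_comm y.2 hx)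
    have hpow : ∀ (k : ℕ) (g : CV r s), g⁻¹ * x ^ k * g ∈ H → g⁻¹ * x ^ k * g = x ^ k := fun k g _ => by
      rw [((hc g⁻¹).pow_right k).eq, mul_assoc, inv_mul_cancel, mul_one]
    have hxH : x ∈ H := mem_subgroupOf.2 ((F.V_le_both.trans (inf_le_left.trans inf_le_left)) hx)
    have e : χ x = ψ (⟨x, hxH⟩ ^ H.index) := by
      rw [hχ, MonoidHom.transfer_eq_pow ψ x hpow]
      exact congrArg ψ (Subtype.ext rfl)
    have hsq : ∀ w : Multiplicative (ZMod 2 × ZMod 2), w * w = 1 := by decide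
    rw [e, map_pow, hidx, show (315 : ℕ) = 2 * 157 + 1 from rfl, pow_succ, pow_mul, pow_two, hsq, one_pow,
      one_mul] at h1
    obtain ⟨a, b, hab⟩ := F.mem_V hx
    have hf : f ⟨x, hxH⟩ = (0, 0) := Multiplicative.ofAdd.injective h1
    rw [fval ⟨x, hxH⟩ (show Co z t Q R π ρ (x : G) _ _ from hab.symm ▸ F.co_V a b)] at hf
    obtain ⟨ha, hb⟩ := Prod.mk_inj.1 hf
    simp only [pb_add_left, pb_smul_left, F.B.mn, F.B.nm, pb_self, mul_one, mul_zero, add_zero, zero_add] at ha hb
    refine Subtype.ext ?_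
    rw [hab, ha, hb, zb_zero, zb_zero, one_mul]
    rfl
  · have hsq : ∀ w : Multiplicative (ZMod 2 × ZMod 2), w * w = 1 := by decide
    have huK : au ∈ CV r s := (mem_AA.1 F.au_mem).1.2
    have hvK : av ∈ CV r s := (mem_AA.1 F.swapUV.au_mem).1.2
    have hconst : ∀ x : CV r s, IsConj z (x : G) → χ x = χ ⟨z, F.z_mem_CV⟩ := fun x hx => by
      obtain ⟨c, hc, e⟩ := F.cv_class x.2 hx
      rw [show x = ⟨c, hc⟩ * ⟨z, F.z_mem_CV⟩ * (⟨c, hc⟩ : CV r s)⁻¹ from Subtype.ext e.symm, map_mul, map_mul,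
        map_inv, mul_inv_cancel_comm]
    have hz1 : χ ⟨z, F.z_mem_CV⟩ = 1 := by
      have hz : (⟨z, F.z_mem_CV⟩ : CV r s) = ⟨au, huK⟩ * ⟨av, hvK⟩ * (⟨au, huK⟩ * ⟨av, hvK⟩) := by
        refine Subtype.ext ?_
        show z = au * av * (au * av)
        have h := F.P.co_comm F.cau F.cav
        simp only [pb_zero_left, pb_zero_right, F.B.uv] at h
        simp [zeta, zb_zero, zb_one] at h
        rw [show au * av * (au * av) = z * (av * (au * au) * av) by rw [← mul_assoc, h]; group, F.au2, mul_one,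
          F.av2, mul_one]
      rw [hz, map_mul, hsq]
    exact fun x hx => (hconst x hx).trans hz1

end CfsgLib.SuzType.Ident
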