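import Cfsg.Agent.Lib.PresCert.Bound
import Cfsg.Agent.Lib.SuzType.Ident.XData

/-!
Kernel checks: enumerations for the element of order three
-/

set_option autoImplicit false
set_option maxRecDepth 100000

namespace CfsgLib.SuzType.Ident

open CfsgLib.PresCert

theorem certXF_block0 : block certXF 0 = true := by decide +kernel

theorem certXF_block1 : block certXF 1 = true := by decide +kernel

theorem certXF_block2 : block certXF 2 = true := by decide +kernel

theorem certXF_block3 : block certXF 3 = true := by decide +kernel

theorem certXF_shape : shapeOk certXF = true := by decide +kernel

theorem certXF_valid : Valid certXF where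
  shape := certXF_shape
  slots b hb := by
    have h : certXF.N = 3243 := rfl
    obtain rfl | rfl | rfl | rfl : b = 0 ∨ b = 1 ∨ b = 2 ∨ b = 3 := by omega
    exacts [certXF_block0, certXF_block1, certXF_block2, certXF_block3]

theorem certXE_block0 : block certXE 0 = true := by decide +kernel

theorem certXE_block1 : block certXE 1 = true := by decide +kernel

theorem certXE_block2 : block certXE 2 = true := by decide +kernel

theorem certXE_block3 : block certXE 3 = true := by decide +kernel

theorem certXE_shape : shapeOk certXE = true := by decide +kernel

theorem certXE_valid : Valid certXE where
  shape := certXE_shape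
  slots b hb := by
    have h : certXE.N = 3584 := rfl
    obtain rfl | rfl | rfl | rfl : b = 0 ∨ b = 1 ∨ b = 2 ∨ b = 3 := by omega
    exacts [certXE_block0, certXE_block1, certXE_block2, certXE_block3]

end CfsgLib.SuzType.Ident
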