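import Cfsg.Agent.Lib.SuzType.Ident.CertUse
import Cfsg.Agent.Lib.SuzType.Ident.XCheck
import Cfsg.Agent.Lib.Suz.CheckA

/-!
The element of order three `(b c d c d)^5` from the relations.
-/

set_option autoImplicit false
set_option maxRecDepth 100000

namespace CfsgLib.SuzType.Ident

open Subgroup CfsgLib.PresCert

variable {M : Type*} [Group M]

/-- The relations of the first four generators. -/
structure RelABCD (a b c d : M) : Prop where
  a2 : a * a = 1
  b2 : b * b = 1
  c2 : c * c = 1
  d2 : d * d = 1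
  ab : (a * b) ^ 5 = 1
  ac : (a * c) ^ 2 = 1
  ad : (a * d) ^ 2 = 1
  bc : (b * c) ^ 3 = 1
  bd : (b * d) ^ 2 = 1
  cd : (c * d) ^ 4 = a

/-- The relations of a further generator like `f`. -/
structure RelF (a b c d f : M) : Prop where
  f2 : f * f = 1
  af : (a * f) ^ 2 = 1
  bf : (b * f) ^ 3 = 1
  cf : (c * f) ^ 2 = 1
  df : (d * f) ^ 2 = 1
  abcf : (a * b * c * f) ^ 5 = 1

/-- The relations of the first four generators on numbers. -/
def xRels : List (List ℕ × ℕ) :=
  [([0, 1], 5), ([0, 2], 2), ([0, 3], 2), ([1, 2], 3), ([1, 3], 2), ([2, 3], 8), ([0, 2, 3, 2, 3, 2, 3, 2, 3], 1)]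

/-- The word of the element of order three. -/
def xWord : List ℕ := [1, 2, 3, 2, 3, 1, 2, 3, 2, 3, 1, 2, 3, 2, 3, 1, 2, 3, 2, 3, 1, 2, 3, 2, 3]

/-- The relations with a fifth generator. -/
def fRels : List (List ℕ × ℕ) :=
  xRels ++ [([0, 4], 2), ([1, 4], 3), ([2, 4], 2), ([3, 4], 2), ([0, 1, 2, 4], 5)]

/-- The relations of the collapse. -/
def eRels : List (List ℕ × ℕ) :=
  xRels ++ [([0, 4], 2), ([1, 4], 2), ([2, 4], 2), ([3, 4], 3), ([1, 2, 3, 2, 3], 5)]

theorem x_checks :
    relsB Suz.certA xRels = true ∧ Suz.certA.ng = 7 ∧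
    closesB Suz.certA (powWord [1, 2, 3, 2, 3] 15) = true ∧
    closesB Suz.certA (commWord xWord 0) = true ∧ closesB Suz.certA (commWord xWord 1) = true ∧
    closesB Suz.certA (commWord xWord 2) = true ∧
    closesB Suz.certA ([3] ++ xWord ++ [3] ++ xWord).reverse = true := by
  decide +kernel

theorem xf_checks : relsOk certXF (powWords fRels) = true ∧
    subsOk certXF [[0], [2], [3], xWord.reverse] (16 * certXF.words.length) = true ∧ certXF.ng = 5 ∧
    closesB certXF ([4] ++ xWord ++ [4]).reverse = true := by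
  decide +kernel

theorem xe_checks : relsB certXE eRels = true ∧ certXE.ng = 5 ∧ closesB certXE [0] = true := by
  decide +kernel

/-- The generators by number. -/
def xGen (a b c d q : M) (k : ℕ) : M := [a, b, c, d, q].getD k 1

theorem xWord_prod (a b c d q : M) : (xWord.map (xGen a b c d q)).prod = (b * c * d * c * d) ^ 5 := by
  rw [show xWord = (List.replicate 5 [1, 2, 3, 2, 3]).flatten from rfl, List.map_flatten, List.map_replicate,
    List.prod_flatten, List.map_replicate, List.prod_replicate]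
  simp [xGen, mul_assoc]

variable {a b c d f : M}

theorem RelABCD.hL (h : RelABCD a b c d) (q : M) :
    ∀ r ∈ xRels, (r.1.map (xGen a b c d q)).prod ^ r.2 = 1 := by
  intro r hr
  simp only [xRels, List.mem_cons, List.not_mem_nil, or_false] at hr
  rcases hr with rfl | rfl | rfl | rfl | rfl | rfl | rfl <;>
    simp only [xGen, List.map_cons, List.map_nil, List.getD_cons_succ, List.getD_cons_zero, List.prod_cons,
      List.prod_nil, mul_one]
  · exact h.ab
  · exact h.ac
  · exact h.ad
  · exact h.bc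
  · exact h.bd
  · rw [show (8 : ℕ) = 4 + 4 from rfl, pow_add, h.cd, h.a2]
  · rw [pow_one, show a * (c * (d * (c * (d * (c * (d * (c * d))))))) = a * (c * d) ^ 4 by
      simp only [pow_succ, pow_zero, one_mul, mul_assoc], h.cd, h.a2]

theorem RelABCD.hinv (h : RelABCD a b c d) {q : M} (hq : q * q = 1) (g : ℕ) :
    xGen a b c d q g * xGen a b c d q g = 1 := by
  rcases g with _ | _ | _ | _ | _ | g <;> simp [xGen, h.a2, h.b2, h.c2, h.d2, hq]

/-- The facts inside `⟨a, b, c, d⟩`. -/
theorem RelABCD.x_facts (h : RelABCD a b c d) {x : M} (hx : x = (b * c * d * c * d) ^ 5) :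
    x ^ 3 = 1 ∧ x * a = a * x ∧ x * b = b * x ∧ x * c = c * x ∧ d * x * d = x⁻¹ := by
  obtain ⟨hr, hng, c1, c2, c3, c4, c5⟩ := x_checks
  have V := Suz.certA_closed.toValid
  have hi : ∀ g, g < Suz.certA.ng → xGen a b c d 1 g * xGen a b c d 1 g = 1 :=
    fun g _ => h.hinv (one_mul 1) g
  have hL := h.hL (1 : M)
  have hp : ∀ g ∈ xWord, g < Suz.certA.ng := by rw [hng]; decide
  have hX := xWord_prod a b c d (1 : M)
  rw [← hx] at hX
  refine ⟨?_, ?_, ?_, ?_, ?_⟩
  · have := pow_one_of_cert V hi hL hr c1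
    rw [show (([1, 2, 3, 2, 3] : List ℕ).map (xGen a b c d 1)).prod = b * c * d * c * d by simp [xGen, mul_assoc]]
      at this
    rw [hx, ← pow_mul]; exact this
  · simpa [hX, xGen] using comm_of_cert V hi hL hr hp (x := 0) (by rw [hng]; decide) c2
  · simpa [hX, xGen] using comm_of_cert V hi hL hr hp (x := 1) (by rw [hng]; decide) c3
  · simpa [hX, xGen] using comm_of_cert V hi hL hr hp (x := 2) (by rw [hng]; decide) c4
  · have := act_one_of_cert V hi hL hr c5
    rw [act_rev] at this
    simp only [List.map_append, List.prod_append, hX, List.map_cons, List.map_nil, List.prod_cons, List.prod_nil,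
      mul_one, show xGen a b c d 1 3 = d from rfl] at this
    exact eq_inv_of_mul_eq_one_left this

theorem closure_pair_form {c d h : M} (hc : c * c = 1) (hd : d * d = 1) (hh : h ∈ closure ({c, d} : Set M)) :
    ∃ i : ℤ, h = (c * d) ^ i ∨ h = (c * d) ^ i * c := by
  have hstep : ∀ m : M, (∃ i : ℤ, m = (c * d) ^ i ∨ m = (c * d) ^ i * c) →
      ∃ i : ℤ, c * m = (c * d) ^ i ∨ c * m = (c * d) ^ i * c := by
    rintro m ⟨i, hi⟩
    have e : c * (c * d) ^ i * c⁻¹ = (c * d) ^ (-i) := by
      rw [← conj_zpow, zpow_neg, ← inv_zpow]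
      congr 1
      rw [← mul_assoc c c d, hc, one_mul, mul_inv_rev, inv_eq_of_mul_eq_one_right hc,
        inv_eq_of_mul_eq_one_right hd]
    rw [inv_eq_of_mul_eq_one_right hc] at e
    refine ⟨-i, ?_⟩
    rcases hi with rfl | rfl
    · right; rw [← e, mul_assoc (c * (c * d) ^ i) c c, hc, mul_one]
    · left; rw [← e, mul_assoc]
  have hstepd : ∀ m : M, (∃ i : ℤ, m = (c * d) ^ i ∨ m = (c * d) ^ i * c) →
      ∃ i : ℤ, d * m = (c * d) ^ i ∨ d * m = (c * d) ^ i * c := by
    rintro m ⟨i, hi⟩
    rw [show d * m = c * (c * d * m) by rw [← mul_assoc c (c * d), ← mul_assoc c c d, hc, one_mul]]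
    refine hstep _ ⟨1 + i, ?_⟩
    rcases hi with rfl | rfl
    · left; rw [zpow_one_add]
    · right; rw [zpow_one_add]; simp only [mul_assoc]
  induction hh using Subgroup.closure_induction_left with
  | one => exact ⟨0, .inl (zpow_zero _).symm⟩
  | mul_left s hs m _ ih =>
    rcases hs with rfl | rfl
    exacts [hstep m ih, hstepd m ih]
  | inv_mul_cancel s hs m _ ih =>
    rcases hs with rfl | rfl
    · rw [inv_eq_of_mul_eq_one_right hc]; exact hstep m ih
    · rw [inv_eq_of_mul_eq_one_right hd]; exact hstepd m ih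

theorem eq_one_of_coprime {m : M} {p q : ℕ} (hpq : p.Coprime q) (hp : m ^ p = 1) (hq : m ^ q = 1) : m = 1 :=
  orderOf_eq_one_iff.1 (Nat.eq_one_of_dvd_coprimes hpq (orderOf_dvd_of_pow_eq_one hp) (orderOf_dvd_of_pow_eq_one hq))

/-- The element commutes with `f`. -/
theorem RelABCD.x_comm (h : RelABCD a b c d) (hf : RelF a b c d f) {x : M} (hx : x = (b * c * d * c * d) ^ 5) :
    x * f = f * x := by
  obtain ⟨x3, -, xb, xc, xd⟩ := h.x_facts hx
  have hd' : d⁻¹ = d := inv_eq_of_mul_eq_one_right h.d2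
  have hc' : c⁻¹ = c := inv_eq_of_mul_eq_one_right h.c2
  have hb' : b⁻¹ = b := inv_eq_of_mul_eq_one_right h.b2
  have hf' : f⁻¹ = f := inv_eq_of_mul_eq_one_right hf.f2
  set D := closure ({c, d} : Set M) with hD
  obtain ⟨hr, hs, hng, hg⟩ := xf_checks
  have hP := xWord_prod a b c d f
  rw [← hx] at hP
  set K := zpowers x ⊔ D with hK
  have hxK : x ∈ K := le_sup_left (a := zpowers x) (mem_zpowers x)
  have hcK : c ∈ K := le_sup_right (a := zpowers x) (subset_closure (Set.mem_insert _ _))
  have hdK : d ∈ K := le_sup_right (a := zpowers x) (subset_closure (Set.mem_insert_of_mem _ rfl))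
  have haK : a ∈ K := h.cd ▸ pow_mem (mul_mem hcK hdK) 4
  have hfix : ∀ w ∈ ([[0], [2], [3], xWord.reverse] : List (List ℕ)),
      act (xGen a b c d f) w • ((1 : M) : M ⧸ K) = ((1 : M) : M ⧸ K) := by
    intro w hw
    rw [MulAction.Quotient.smul_coe, smul_eq_mul, mul_one, QuotientGroup.eq, mul_one]
    refine inv_mem ?_
    simp only [List.mem_cons, List.not_mem_nil, or_false] at hw
    rcases hw with rfl | rfl | rfl | rfl
    · simpa [act_cons, act_nil, xGen] using haK
    · simpa [act_cons, act_nil, xGen] using hcK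
    · simpa [act_cons, act_nil, xGen] using hdK
    · rw [act_rev, hP]; exact hxK
  have hrels : ∀ v ∈ powWords fRels, act (xGen a b c d f) v = 1 := by
    intro v hv
    obtain ⟨q, hq, rfl⟩ := List.mem_map.1 hv
    rw [act_powWord]
    rcases List.mem_append.1 hq with hq | hq
    · exact h.hL f q hq
    · simp only [List.mem_cons, List.not_mem_nil, or_false] at hq
      rcases hq with rfl | rfl | rfl | rfl | rfl <;>
        simp only [xGen, List.map_cons, List.map_nil, List.getD_cons_succ, List.getD_cons_zero, List.prod_cons,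
          List.prod_nil, mul_one]
      exacts [hf.af, hf.bf, hf.cf, hf.df, by simpa only [mul_assoc] using hf.abcf]
  have H : Hyp certXF (xGen a b c d f) ((1 : M) : M ⧸ K) :=
    hyp_of_checks (fun g _ => h.hinv hf.f2 g) hrels hfix hr hs
  have hy := closes_fix certXF_valid H hg
  rw [MulAction.Quotient.smul_coe, smul_eq_mul, mul_one, QuotientGroup.eq, mul_one, inv_mem_iff, act_rev] at hy
  simp only [List.map_append, List.prod_append, hP, List.map_cons, List.map_nil, List.prod_cons, List.prod_nil,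
    mul_one, show xGen a b c d f 4 = f from rfl] at hy
  have hDN : D ≤ normalizer (zpowers x : Set M) := by
    rw [hD, closure_le]
    have key : ∀ s : M, s⁻¹ = s → (s * x * s ∈ zpowers x) → s ∈ normalizer (zpowers x : Set M) := by
      intro s hs hsx
      have hm : ∀ m ∈ zpowers x, s * m * s⁻¹ ∈ zpowers x := fun m hm => by
        obtain ⟨i, rfl⟩ := mem_zpowers_iff.1 hm
        rw [← conj_zpow, hs]
        exact zpow_mem hsx i
      refine mem_normalizer_iff.2 fun m => ⟨hm m, fun h' => ?_⟩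
      have e := hm _ h'
      rwa [show s * (s * m * s⁻¹) * s⁻¹ = s * s * m * (s * s)⁻¹ by group,
        show s * s = 1 by nth_rw 1 [← hs]; exact inv_mul_cancel s, one_mul, inv_one, mul_one] at e
    rintro s (rfl | rfl)
    · refine key _ hc' ?_
      rw [← xc, mul_assoc, h.c2, mul_one]
      exact mem_zpowers x
    · exact key _ hd' (by rw [xd]; exact inv_mem (mem_zpowers x))
  obtain ⟨u, hu, w, hw, e⟩ : ∃ u ∈ zpowers x, ∃ w ∈ D, f * x * f = u * w := by
    have hy' : f * x * f ∈ ((zpowers x ⊔ D : Subgroup M) : Set M) := hy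
    rw [Subgroup.coe_mul_of_right_le_normalizer_left _ _ hDN] at hy'
    obtain ⟨u, hu, w, hw, e⟩ := Set.mem_mul.1 hy'
    exact ⟨u, hu, w, hw, e.symm⟩
  have hy3 : (f * x * f) ^ 3 = 1 := by
    nth_rw 2 [← hf']; rw [conj_pow, x3, mul_one, mul_inv_cancel]
  have hw1 : w = 1 := by
    have h3 : w ^ 3 ∈ zpowers x := by
      have hconj : ∀ m ∈ zpowers x, w * m * w⁻¹ ∈ zpowers x := fun m hm => (mem_normalizer_iff.1 (hDN hw) m).1 hm
      have e3 : u * (w * u * w⁻¹) * (w * (w * u * w⁻¹) * w⁻¹) * w ^ 3 = 1 := by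
        rw [← hy3, e]; simp only [pow_succ, pow_zero, one_mul]; group
      rw [eq_inv_of_mul_eq_one_right e3]
      exact inv_mem (mul_mem (mul_mem hu (hconj u hu)) (hconj _ (hconj u hu)))
    have h9 : w ^ 9 = 1 := by
      obtain ⟨i, hi⟩ := mem_zpowers_iff.1 h3
      rw [show (9 : ℕ) = 3 * 3 from rfl, pow_mul, ← hi, ← zpow_natCast (x ^ i), ← zpow_mul, mul_comm,
        zpow_mul, zpow_natCast, x3, one_zpow]
    have h16 : w ^ 16 = 1 := by
      have h8 : (c * d) ^ 8 = 1 := by rw [show (8 : ℕ) = 4 + 4 from rfl, pow_add, h.cd, h.a2]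
      obtain ⟨i, rfl | rfl⟩ := closure_pair_form h.c2 h.d2 hw
      · rw [show (16 : ℕ) = 8 * 2 from rfl, pow_mul, ← zpow_natCast ((c * d) ^ i), ← zpow_mul, mul_comm,
          zpow_mul, zpow_natCast, h8, one_zpow, one_pow]
      · have hrev : c * (c * d) ^ i * c⁻¹ = ((c * d) ^ i)⁻¹ := by
          rw [← conj_zpow, ← inv_zpow]
          congr 1
          rw [← mul_assoc c c d, h.c2, one_mul, mul_inv_rev, hc', hd']
        rw [hc'] at hrev
        rw [show (16 : ℕ) = 2 * 8 from rfl, pow_mul, pow_two,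
          show (c * d) ^ i * c * ((c * d) ^ i * c) = (c * d) ^ i * (c * (c * d) ^ i * c) by group, hrev,
          mul_inv_cancel, one_pow]
    exact eq_one_of_coprime (show Nat.Coprime 9 16 by decide) h9 h16
  rw [hw1, mul_one] at e
  obtain ⟨i, rfl⟩ := mem_zpowers_iff.1 hu
  have hred : x ^ i = x ^ (i % 3) := by
    conv_lhs => rw [← Int.emod_add_mul_ediv i 3, zpow_add, zpow_mul, show x ^ (3 : ℤ) = 1 from by exact_mod_cast x3]
    rw [one_zpow, mul_one]
  rw [hred] at e
  have hcases : i % 3 = 0 ∨ i % 3 = 1 ∨ i % 3 = 2 := by omega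
  have hgoal : f * x * f = x → x * f = f * x := fun e' => by
    calc x * f = f * x * f * f := by rw [e']
      _ = f * x := by rw [mul_assoc, hf.f2, mul_one]
  rcases hcases with hi | hi | hi <;> rw [hi] at e
  · rw [zpow_zero] at e
    have : x = 1 := by
      calc x = f * (f * x * f) * f := by
            rw [show f * (f * x * f) * f = f * f * x * (f * f) by group, hf.f2, one_mul, mul_one]
        _ = 1 := by rw [e, mul_one, hf.f2]
    rw [this, one_mul, mul_one]
  · exact hgoal (by rw [e, zpow_one])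
  · have hinv' : x ^ (2 : ℤ) = x⁻¹ := by
      refine eq_inv_of_mul_eq_one_left ?_
      rw [← zpow_add_one]; exact_mod_cast x3
    rw [hinv'] at e
    have e1 : b * f * x * (b * f)⁻¹ = x⁻¹ := by
      calc b * f * x * (b * f)⁻¹ = b * (f * x * f⁻¹) * b⁻¹ := by group
        _ = x⁻¹ := by rw [hf', e, mul_inv_eq_iff_eq_mul]; exact (Commute.inv_left xb).symm.eq
    have e2 : ∀ m : M, m * x * m⁻¹ = x⁻¹ → m * x⁻¹ * m⁻¹ = x := fun m hm => by
      rw [← conj_inv, hm, inv_inv]
    have : x = x⁻¹ := by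
      calc x = (b * f) ^ 3 * x * ((b * f) ^ 3)⁻¹ := by rw [hf.bf, one_mul, inv_one, mul_one]
        _ = b * f * (b * f * (b * f * x * (b * f)⁻¹) * (b * f)⁻¹) * (b * f)⁻¹ := by
            simp only [pow_succ, pow_zero, one_mul]; group
        _ = x⁻¹ := by rw [e1, e2 _ e1, e1]
    exact hgoal (e.trans this.symm)

/-- The element is nontrivial. -/
theorem RelABCD.x_ne_one (h : RelABCD a b c d) {e : M} (he : e * e = 1) (hae : (a * e) ^ 2 = 1)
    (hbe : (b * e) ^ 2 = 1) (hce : (c * e) ^ 2 = 1) (hde : (d * e) ^ 3 = 1) (ha : a ≠ 1) :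
    (b * c * d * c * d) ^ 5 ≠ 1 := by
  intro hx
  obtain ⟨hr, hng, hg⟩ := xe_checks
  have := act_one_of_cert (gen := xGen a b c d e) certXE_valid (fun g _ => h.hinv he g) ?_ hr hg
  · rw [act_cons, act_nil, one_mul] at this
    exact ha this
  · intro q hq
    rcases List.mem_append.1 hq with hq | hq
    · exact h.hL e q hq
    · simp only [List.mem_cons, List.not_mem_nil, or_false] at hq
      rcases hq with rfl | rfl | rfl | rfl | rfl <;>
        simp only [xGen, List.map_cons, List.map_nil, List.getD_cons_succ, List.getD_cons_zero, List.prod_cons,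
          List.prod_nil, mul_one]
      exacts [hae, hbe, hce, hde, by simpa only [mul_assoc] using hx]

end CfsgLib.SuzType.Ident
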