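import Cfsg.Agent.Lib.SuzType.Ident.Second
import Cfsg.Agent.Lib.SuzType.Ident.Split
import Cfsg.Agent.Lib.SuzType.Ident.Hom
import Cfsg.Agent.Lib.SuzType.Ident.CitPair
import Cfsg.Agent.Lib.SuzType.Ident.XFacts

/-!
Suzuki type: the seven elements of the presentation.
-/

set_option autoImplicit false
set_option linter.unusedSectionVars false

namespace CfsgLib.SuzType.Ident

open CfsgLib.SuzType CfsgLib.Classical Cfsg Subgroup

variable {G : Type*} [Group G] [Finite G] {z t : G} {Q R : Subgroup G} {π π' : G → V6} {ρ ρ' : G → qAut qm}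
  {r s ω au bu av bv τ : G} {m n u v : V6}

/-- The facts about the centralizer of the element of order five. -/
structure Core (z au av r f0 b : G) (X : Subgroup G) : Prop where
  fz : f0 * z = z * f0
  f5 : f0 ^ 5 = 1
  fau : f0 * au = au * f0
  fav : f0 * av = av * f0
  auX : au ∈ X
  avX : av ∈ X
  perfect : commutator X = ⊤
  fX : ∀ x ∈ X, f0 * x = x * f0
  rX : ∀ x ∈ X, r * x = x * r
  bX : b ∈ X
  b2 : b * b = 1
  b1 : b ≠ 1
  zb5 : (z * b) ^ 5 = 1
  bu3 : (b * au) ^ 3 = 1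
  bv3 : (b * av) ^ 3 = 1
  buv5 : (b * au * av) ^ 5 = 1

/-- An element conjugating `r` to `z * r` and fixing the small elements. -/
theorem exists_flip (F : Frm z t Q R π π' ρ ρ' r s ω au bu av bv m n u v) :
    ∃ q ∈ Q, q * t = t * q ∧ q * au = au * q ∧ q * av = av * q ∧ q * r * q⁻¹ = z * r := by
  have P := F.P
  obtain ⟨q, hq, e⟩ := P.S.pi_surj n
  have hqt : q * t = t * q := mem_centralizer_singleton_iff.1 ((P.mem_A hq).2 (by rw [e]; exact F.B.pn))
  have cq : Co z t Q R π ρ q n 0 := e ▸ P.co_of_Q hq hqt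
  refine ⟨q, hq, hqt, ?_, ?_, ?_⟩
  · rw [P.co_commute_iff cq F.cau, F.B.nu, pb_zero_right, pb_zero_right, pb_zero_left]
    decide
  · rw [P.co_commute_iff cq F.cav, F.B.nv, pb_zero_right, pb_zero_right, pb_zero_left]
    decide
  · have h := P.co_comm cq F.cr
    rw [F.B.nm, pb_self, pb_zero_right, pb_zero_left] at h
    simp [zeta, zb_one, zb_zero] at h
    rw [h]; group

/-- The centralizer of `r` permutes the two other involutions of the four group in pairs. -/
theorem perfect_cv (F : Frm z t Q R π π' ρ ρ' r s ω au bu av bv m n u v) (O : Outer z t r s au av τ)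
    {X : Subgroup G} (hX : commutator X = ⊤) (hr : ∀ x ∈ X, r * x = x * r) : ∀ x ∈ X, s * x = x * s := by
  have hcase : ∀ a ∈ X, a * s * a⁻¹ = s ∨ a * s * a⁻¹ = r * s := fun a ha => F.normal_V O (hr a ha).symm
  let K : Subgroup X := (centralizer ({s} : Set G)).subgroupOf X
  have hle : commutator X ≤ K := by
    rw [commutator_def, commutator_le]
    rintro ⟨a, ha⟩ - ⟨b, hb⟩ -
    refine mem_subgroupOf.2 (mem_centralizer_singleton_iff.2 (mul_inv_eq_iff_eq_mul.1 ?_))
    have fr : ∀ {c : G}, c ∈ X → c * r * c⁻¹ = r := fun hc => by rw [← hr _ hc, mul_inv_cancel_right]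
    have hm : ∀ {c : G}, c ∈ X → ∀ w, c * (r * w) * c⁻¹ = r * (c * w * c⁻¹) := fun {c} hc w => by
      rw [show c * (r * w) * c⁻¹ = c * r * c⁻¹ * (c * w * c⁻¹) by group, fr hc]
    have rr : ∀ w, r * (r * w) = w := fun w => by rw [← mul_assoc, F.r2, one_mul]
    show a * b * a⁻¹ * b⁻¹ * s * (a * b * a⁻¹ * b⁻¹)⁻¹ = s
    rw [show a * b * a⁻¹ * b⁻¹ * s * (a * b * a⁻¹ * b⁻¹)⁻¹ = a * (b * (a⁻¹ * (b⁻¹ * s * b⁻¹⁻¹) * a⁻¹⁻¹) * b⁻¹) * a⁻¹
      by group]
    have A1 := hcase a ha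
    have A2 := hcase b hb
    have A3 := hcase a⁻¹ (inv_mem ha)
    have A4 := hcase b⁻¹ (inv_mem hb)
    have i1 : ∀ {c : G}, c ∈ X → ∀ {w}, c * s * c⁻¹ = w → c⁻¹ * s * c⁻¹⁻¹ = w := fun {c} hc {w} h => by
      rcases hcase c hc with e | e <;> rw [e] at h <;> subst h
      · calc c⁻¹ * s * c⁻¹⁻¹ = c⁻¹ * (c * s * c⁻¹) * c⁻¹⁻¹ := by rw [e]
          _ = s := by group
      · calc c⁻¹ * s * c⁻¹⁻¹ = r * (r * (c⁻¹ * s * c⁻¹⁻¹)) := (rr _).symm
          _ = r * (c⁻¹ * (r * s) * c⁻¹⁻¹) := by rw [hm (inv_mem hc)]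
          _ = r * (c⁻¹ * (c * s * c⁻¹) * c⁻¹⁻¹) := by rw [e]
          _ = r * s := by group
    rcases A1 with ea | ea <;> rcases A2 with eb | eb <;>
      simp only [i1 hb eb, i1 ha ea, hm ha, hm hb, hm (inv_mem ha), eb, ea, rr]
  intro x hx
  have := hle (hX.symm ▸ mem_top (⟨x, hx⟩ : X))
  exact (mem_centralizer_singleton_iff.1 (mem_subgroupOf.1 this)).symm

/-- An involution braided with `c` is not braided trivially with `z * c`. -/
theorem not_comm_zc {z b c : G} (hz : z * z = 1) (hb : b * b = 1) (hbz : b ≠ z) (hcz : z * c = c * z)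
    (h5 : (z * b) ^ 5 = 1) (h3 : (b * c) ^ 3 = 1) : b * (z * c) ≠ z * c * b := by
  intro h
  set k := z * c with hk
  have hc : c = z * k := by rw [hk, ← mul_assoc, hz, one_mul]
  have kz : Commute k z := by rw [hk]; exact Commute.mul_left (Commute.refl z) hcz.symm
  have kb : Commute k b := h.symm
  have e : (b * z) ^ 3 * k ^ 3 = 1 := by
    rw [← (Commute.mul_pow ((kb.mul_right kz).symm) 3), mul_assoc, ← hc, h3]
  have hcomm : Commute ((b * z) ^ 3) z := by
    rw [eq_inv_of_mul_eq_one_left e]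
    exact (kz.pow_left 3).inv_left
  have e2 : z * (b * z) ^ 3 * z⁻¹ = (b * z) ^ 3 := by rw [hcomm.symm.eq, mul_inv_cancel_right]
  have hzi : z⁻¹ = z := inv_eq_of_mul_eq_one_right hz
  have hbi : b⁻¹ = b := inv_eq_of_mul_eq_one_right hb
  rw [← conj_pow, show z * (b * z) * z⁻¹ = z * b by rw [mul_assoc, mul_assoc, mul_inv_cancel, mul_one]] at e2
  have e3 : (z * b) ^ 3 = ((z * b) ^ 3)⁻¹ := by
    rw [← inv_pow, mul_inv_rev, hzi, hbi]; exact e2
  have e6 : (z * b) ^ 6 = 1 := by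
    rw [show (6 : ℕ) = 3 + 3 from rfl, pow_add]
    nth_rewrite 2 [e3]
    exact mul_inv_cancel _
  rw [show (6 : ℕ) = 5 + 1 from rfl, pow_add, h5, one_mul, pow_one] at e6
  exact hbz (by rw [← hzi, inv_eq_of_mul_eq_one_right e6])

/-- The seven elements. -/
theorem exists_rels (F : Frm z t Q R π π' ρ ρ' r s ω au bu av bv m n u v) (O : Outer z t r s au av τ)
    {f0 b : G} {X : Subgroup G} (H : Core z au av r f0 b X)
    (act : ∀ {p' : V6}, Base z t Q R π π' ρ ρ' r s au av p' m n → Acts (π t) p' m n (π au) (π av) (ρ f0) f0M) :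
    ∃ c d, Rels z b c d r au av ∧ (c = t ∨ c = z * t) := by
  have S := F.P.S
  obtain ⟨p', K⟩ := exists_base F
  have hzX : z ∈ X := by rw [← K.fau_z]; exact mul_mem (mul_mem H.auX H.avX) (mul_mem H.auX H.avX)
  have hs := perfect_cv F O H.perfect H.rX
  obtain ⟨d, D⟩ := K.exists_second H.fz H.f5 H.fau H.fav (act K) X H.fX H.rX hs
  -- everything lives in `C(V)`
  have hCV : ∀ {x : G}, x ∈ X → x ∈ CV r s := fun hx => mem_CV.2 ⟨(H.rX _ hx).symm, (hs _ hx).symm⟩
  have htV : t ∈ CV r s := mem_CV.2 ⟨F.r_co.2.symm, F.s_co.2.symm⟩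
  obtain ⟨χ, hχV, hχz⟩ := exists_chi F
  have hχX : ∀ {x : G} (hx : x ∈ X), χ ⟨x, hCV hx⟩ = 1 := by
    intro x hx
    let φ : X →* Multiplicative (ZMod 2 × ZMod 2) := χ.comp (Subgroup.inclusion fun y hy => hCV hy)
    exact Abelianization.commutator_subset_ker φ (H.perfect.symm ▸ mem_top (⟨x, hx⟩ : X))
  set μ := QuotientGroup.mk' (VK r s) with hμ
  have lift1 : ∀ {x : CV r s}, χ x = 1 → μ x = 1 → x = 1 := fun {x} h1 h2 =>
    hχV x (mem_subgroupOf.1 ((QuotientGroup.eq_one_iff (N := VK r s) x).1 h2)) h1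
  let zC : CV r s := ⟨z, hCV hzX⟩
  let tC : CV r s := ⟨t, htV⟩
  let uC : CV r s := ⟨au, hCV H.auX⟩
  let vC : CV r s := ⟨av, hCV H.avX⟩
  let bC : CV r s := ⟨b, hCV H.bX⟩
  have hzt : IsConj z t := F.C.zt
  have htQ : t ∈ Q := F.P.tQ
  have e01 : zeta z t 0 1 = t := by simp [zeta, zb_one, zb_zero]
  have hmemE : μ tC ∈ imgX r s (AA z r s au) ⊓ imgX r s (AA z r s av) :=
    ⟨(mem_imgX (F.V_le_both.trans inf_le_left)).2 (by show t ∈ _; rw [← e01]; exact (F.zeta_mem_both 0 1).1),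
      (mem_imgX (F.V_le_both.trans inf_le_right)).2 (by show t ∈ _; rw [← e01]; exact (F.zeta_mem_both 0 1).2)⟩
  have hV1 : μ tC ≠ 1 := fun h => F.C.P.symm.S.z1 (congrArg Subtype.val (lift1 (hχz tC hzt) h))
  have hVz : μ tC ≠ μ zC := fun h => by
    have h1 : χ (zC⁻¹ * tC) = 1 := by rw [map_mul, map_inv, hχz tC hzt, hχX hzX]; simp
    have h2 : μ (zC⁻¹ * tC) = 1 := by rw [map_mul, map_inv, h, inv_mul_cancel]
    exact F.C.P.ne (congrArg Subtype.val (inv_mul_eq_one.1 (lift1 h1 h2))).symm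
  have bne : bC ≠ 1 := fun h => H.b1 (congrArg Subtype.val h)
  have hB1 : μ bC ≠ 1 := fun h => bne (lift1 (hχX H.bX) h)
  have auz : au * z = z * au := F.P.S.z_comm K.auQ
  have avz : av * z = z * av := F.P.S.z_comm K.avQ
  have aut : au * t = t * au := mem_centralizer_singleton_iff.1 ((F.P.mem_A K.auQ).2 K.B.pu)
  have avt : av * t = t * av := mem_centralizer_singleton_iff.1 ((F.P.mem_A K.avQ).2 K.B.pv)
  have push : ∀ {x y : CV r s}, (x : G) = y → μ x = μ y := fun h => congrArg μ (Subtype.ext h)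
  obtain ⟨c, hc, hc3, hc5, hc5'⟩ := cit_pair F.cit (b := μ bC) (f := μ uC) (g := μ vC) hmemE hV1 hVz
    (by rw [← map_mul, ← map_one μ]; exact push H.b2)
    (by rw [← map_mul, ← map_one μ]; exact push K.au2) (by rw [← map_mul, ← map_one μ]; exact push K.av2)
    (by rw [← map_mul, ← map_mul]; exact push auz) (by rw [← map_mul, ← map_mul]; exact push aut)
    (by rw [← map_mul, ← map_mul]; exact push avz) (by rw [← map_mul, ← map_mul]; exact push avt)
    (by rw [← map_mul, ← map_pow, ← map_one μ]; exact push (by simpa using H.zb5))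
    (by rw [← map_mul, ← map_pow, ← map_one μ]; exact push (by simpa using H.bu3))
    (by rw [← map_mul, ← map_pow, ← map_one μ]; exact push (by simpa using H.bv3))
    (by rw [← map_mul, ← map_pow]; exact push (by simpa [pow_two] using K.fau_z))
  obtain ⟨cC, hcC, hcz⟩ : ∃ cC : CV r s, c = μ cC ∧ ((cC : G) = t ∨ (cC : G) = z * t) := by
    rcases hc with rfl | rfl
    · exact ⟨tC, rfl, .inl rfl⟩
    · exact ⟨zC * tC, (map_mul μ _ _).symm, .inr rfl⟩
  subst hcC
  set cG : G := (cC : G) with hcG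
  have cconj : IsConj z cG := by
    rcases hcz with e | e <;> rw [e]
    · exact hzt
    · refine F.P.S.z_comm htQ ▸ F.P.q_conj hzt (mul_mem htQ F.P.S.zQ) ?_ ?_
      · rw [show t * z * (t * z) = t * (z * t) * z by group, F.P.zt_comm, ← mul_assoc, F.C.P.symm.S.z2, one_mul,
          F.P.S.z2]
      · exact fun h => F.C.P.ne (by rw [← inv_inv t, inv_eq_of_mul_eq_one_right h, inv_eq_of_mul_eq_one_right F.P.S.z2])
  have χc := hχz cC cconj
  have bc3 : (b * cG) ^ 3 = 1 := by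
    have h : (bC * cC) ^ 3 = 1 := lift1 (by rw [map_pow, map_mul, hχX H.bX, χc]; simp) (by rw [map_pow, map_mul, hc3])
    simpa using congrArg Subtype.val h
  have abcf : (z * b * cG * au) ^ 5 = 1 := by
    have h : (zC * bC * cC * uC) ^ 5 = 1 := lift1
      (by rw [map_pow, map_mul, map_mul, map_mul, hχX hzX, hχX H.bX, χc, hχX H.auX]; simp)
      (by rw [map_pow, map_mul, map_mul, map_mul, hc5])
    simpa using congrArg Subtype.val h
  have abcg : (z * b * cG * av) ^ 5 = 1 := by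
    have h : (zC * bC * cC * vC) ^ 5 = 1 := lift1
      (by rw [map_pow, map_mul, map_mul, map_mul, hχX hzX, hχX H.bX, χc, hχX H.avX]; simp)
      (by rw [map_pow, map_mul, map_mul, map_mul, hc5'])
    simpa using congrArg Subtype.val h
  -- the element `c`
  have tz : t * z = z * t := F.P.zt_comm.symm
  have zcomm : ∀ {x : G}, x * z = z * x → x * t = t * x → x * cG = cG * x := fun h1 h2 => by
    rcases hcz with e | e <;> rw [e]
    · exact h2
    · exact (Commute.mul_right h1 h2).eq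
  have zc : z * cG = cG * z := zcomm rfl F.P.zt_comm
  have t2 : t * t = 1 := F.C.P.symm.S.z2
  have c2 : cG * cG = 1 := by
    rcases hcz with e | e <;> rw [e]
    · exact t2
    · rw [show z * t * (z * t) = z * (t * z) * t by group, tz, ← mul_assoc, F.P.S.z2, one_mul, t2]
  have ccd : (cG * d) ^ 4 = z := by
    rcases hcz with e | e <;> rw [e]
    · exact D.td4
    · rw [mul_assoc, (Commute.mul_right (show Commute z t from F.P.zt_comm) D.dz.symm).mul_pow, D.td4,
        show (4 : ℕ) = 2 * 2 from rfl, pow_mul, pow_two z, F.P.S.z2, one_pow, one_mul]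
  have cd8 : (cG * d) ^ 8 = 1 := by
    rw [show (8 : ℕ) = 4 + 4 from rfl, pow_add, ccd, F.P.S.z2]
  have fg4 : (au * av) ^ 4 = 1 := by
    rw [show (4 : ℕ) = 2 * 2 from rfl, pow_mul, pow_two (au * av), K.fau_z, pow_two, F.P.S.z2]
  have vb3 : (av * b) ^ 3 = 1 := pow_swap H.bv3
  have cr : cG * r = r * cG := (zcomm F.r_co.1 F.r_co.2).symm
  have cu : cG * au = au * cG := (zcomm auz aut).symm
  have cv : cG * av = av * cG := (zcomm avz avt).symm
  have RA : RelABCD z b cG d :=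
    { a2 := F.P.S.z2, b2 := H.b2, c2 := c2, d2 := D.d2, ab := H.zb5, ac := pow_two_of_comm zc F.P.S.z2 c2,
      ad := pow_two_of_comm D.dz.symm F.P.S.z2 D.d2, bc := bc3,
      bd := pow_two_of_comm (D.cX b H.bX).symm H.b2 D.d2, cd := ccd }
  have RF : RelF z b cG d au :=
    { f2 := K.au2, af := pow_two_of_comm auz.symm F.P.S.z2 K.au2, bf := H.bu3,
      cf := pow_two_of_comm cu c2 K.au2, df := pow_two_of_comm D.dau D.d2 K.au2, abcf := abcf }
  have RG : RelF z b cG d av :=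
    { f2 := K.av2, af := pow_two_of_comm avz.symm F.P.S.z2 K.av2, bf := H.bv3,
      cf := pow_two_of_comm cv c2 K.av2, df := pow_two_of_comm D.dav D.d2 K.av2, abcf := abcg }
  obtain ⟨x3, xz, xb, xc, -⟩ := RA.x_facts rfl
  have xu := RA.x_comm RF rfl
  have xv := RA.x_comm RG rfl
  have x1 := RA.x_ne_one F.r2 (pow_two_of_comm F.r_co.1.symm F.P.S.z2 F.r2)
    (pow_two_of_comm (H.rX b H.bX).symm H.b2 F.r2) (pow_two_of_comm cr c2 F.r2) D.dr3 F.P.S.z1
  set x := (b * cG * d * cG * d) ^ 5 with hx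
  have hbz : b ≠ z := fun e => by
    have h3 := H.bu3
    rw [e] at h3
    have h2 : (z * au) ^ 2 = 1 := pow_two_of_comm auz.symm F.P.S.z2 K.au2
    rw [pow_succ, h2, one_mul] at h3
    have : au = z := by rw [← inv_eq_of_mul_eq_one_right h3, inv_eq_of_mul_eq_one_right F.P.S.z2]
    have hh := K.B.uv
    rw [this, (F.P.S.pi_ker z F.P.S.zQ).2 (.inr rfl), pb_zero_left] at hh
    exact zero_ne_one hh
  have bc_nc : b * cG ≠ cG * b := fun h => by
    have h2 : (b * cG) ^ 2 = 1 := pow_two_of_comm h H.b2 c2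
    have h3 := bc3
    rw [pow_succ, h2, one_mul] at h3
    have e : cG = b := by rw [← inv_eq_of_mul_eq_one_right h3, inv_eq_of_mul_eq_one_right H.b2]
    have hz2 : (z * b) ^ 2 = 1 := pow_two_of_comm (e ▸ zc) F.P.S.z2 H.b2
    have h5 := H.zb5
    rw [show (5 : ℕ) = 2 + 2 + 1 from rfl, pow_add, pow_add, hz2, one_mul, one_mul, pow_one] at h5
    exact hbz (by rw [← inv_eq_of_mul_eq_one_right h5, inv_eq_of_mul_eq_one_right F.P.S.z2])
  have bzc_nc := not_comm_zc F.P.S.z2 H.b2 hbz zc H.zb5 bc3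
  have hb_z : b * z ≠ z * b := fun h => by
    have hz2 : (z * b) ^ 2 = 1 := pow_two_of_comm h.symm F.P.S.z2 H.b2
    have h5 := H.zb5
    rw [show (5 : ℕ) = 2 + 2 + 1 from rfl, pow_add, pow_add, hz2, one_mul, one_mul, pow_one] at h5
    exact hbz (by rw [← inv_eq_of_mul_eq_one_right h5, inv_eq_of_mul_eq_one_right F.P.S.z2])
  have xt : x * t = t * x := by
    rcases hcz with e | e
    · rw [← e]; exact xc
    · rw [show t = z * cG by rw [e, ← mul_assoc, F.P.S.z2, one_mul]]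
      exact (Commute.mul_right xz xc).eq
  have hbt : b * t ≠ t * b ∧ b * (z * t) ≠ z * t * b := by
    rcases hcz with e | e
    · exact ⟨e ▸ bc_nc, e ▸ bzc_nc⟩
    · refine ⟨fun h => bzc_nc ?_, e ▸ bc_nc⟩
      rwa [show z * cG = t by rw [e, ← mul_assoc, F.P.S.z2, one_mul]]
  have last := K.cube_eq_one xz xt xu xv xb (H.rX b H.bX) x3 x1 hb_z hbt.1 hbt.2
  exact ⟨cG, d,
    { a2 := F.P.S.z2, b2 := H.b2, c2 := c2, d2 := D.d2, e2 := F.r2, f2 := K.au2, g2 := K.av2,
      ab := H.zb5, bc := bc3, cd := cd8, de := D.dr3, bf := H.bu3, fg := fg4, gb := vb3,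
      ac := zc, ad := D.dz.symm, ae := F.r_co.1.symm, af := auz.symm, ag := avz.symm,
      bd := (D.cX b H.bX).symm, be := (H.rX b H.bX).symm, ce := cr, cf := cu, cg := cv,
      df := D.dau, dg := D.dav, ef := K.rau, eg := K.rav, cda := ccd, fga := by rw [pow_two, K.fau_z],
      abcf := abcf, bfg := H.buv5, last := last }, hcz⟩

end CfsgLib.SuzType.Ident
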