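import Cfsg.Agent.Lib.SuzType.Ident.Basis

/-!
Suzuki type: the maps of the frame and of the chosen elements on the basis.
-/

set_option autoImplicit false
set_option linter.unusedSectionVars false

namespace CfsgLib.SuzType.Ident

open CfsgLib.SuzType CfsgLib.Classical Cfsg Subgroup

/-- The map of `r`. -/
def rM : List ℕ := [1, 11, 5, 8, 16, 32]

/-- The map of `s`. -/
def sM : List ℕ := [1, 15, 5, 9, 16, 32]

/-- A map of order five. -/
def g5M : List ℕ := muM (muM (rfM 3) (rfM 4)) (muM (rfM 8) (rfM 9))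

/-- The chosen map of order five. -/
def f0M : List ℕ := muM g5M g5M

/-- A map squaring it and exchanging the last two vectors. -/
def sgM : List ℕ := muM (muM (rfM 3) (rfM 5)) (muM (rfM 8) (rfM 48))

/-- The product with a conjugate of `s`. -/
def rsM : List ℕ := muM rM (muM (muM (muM f0M f0M) sM) (muM f0M (muM f0M f0M)))

/-- The element of order three. -/
def w3M : List ℕ := muM rsM (muM rsM (muM rsM rsM))

/-- The second involution. -/
def dM : List ℕ := muM (muM w3M rM) (muM w3M w3M)

theorem f0M_five : muM f0M (muM f0M (muM f0M (muM f0M f0M))) = e6 := by decide +kernel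

theorem f0M_ne : f0M ≠ e6 := by decide +kernel

theorem f0M_inv : muM (muM rM f0M) rM = muM f0M (muM f0M (muM f0M f0M)) := by decide +kernel

theorem g5M_inv : muM (muM rM g5M) rM = muM g5M (muM g5M (muM g5M g5M)) := by decide +kernel

theorem g5M_five : muM g5M (muM g5M (muM g5M (muM g5M g5M))) = e6 := by decide +kernel

theorem sgM_conj : muM sgM f0M = muM (muM f0M f0M) sgM := by decide +kernel

theorem sgM_swap : sgM.getD 4 0 = 32 ∧ sgM.getD 5 0 = 16 := by decide +kernel

theorem g5M_fix : g5M.getD 4 0 = 16 ∧ g5M.getD 5 0 = 32 := by decide +kernel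

theorem rsM_three : muM rsM (muM rsM rsM) = e6 := by decide +kernel

theorem dM_p : pc 1 (dM.getD 0 0) = true := by decide +kernel

variable {p p' m n u v : V6}

/-- The map of an element trivial on the perp of `p` modulo `p`. -/
theorem acts_inT (B : Basis6 p p' m n u v) {g : qAut qm} (hg : InT p g) {k : ℕ}
    (hw : Pm p (tv p g + lv p p' m n u v k)) (h2 : pc 2 k = false) (hq : qc k = true) (h1 : pc 1 k = false) :
    Acts p p' m n u v g [1, 2 ^^^ k ^^^ 1, 4 ^^^ (if pc 4 k then 1 else 0), 8 ^^^ (if pc 8 k then 1 else 0),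
      16 ^^^ (if pc 16 k then 1 else 0), 32 ^^^ (if pc 32 k then 1 else 0)] := by
  have hp : Sing p := ⟨fun h => by
    have := B.pp'
    rw [h, pb_zero_left] at this
    exact zero_ne_one this, B.p0⟩
  set w := lv p p' m n u v k with hwdef
  have hperp : ∀ x, pb p x = 0 → g.1 x = x + pb x w • p := fun x hx => by
    have e := inT_apply hp hg hx
    rw [pb_comm x, pm_polar hw hx, pb_comm] at e
    rw [← e, add_comm (g.1 x), add_cancel6]
  have hh : ∀ j, pb p (lv p p' m n u v j) = 0 →
      g.1 (lv p p' m n u v j) = lv p p' m n u v (j ^^^ if pc j k then 1 else 0) := fun j hj => by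
    rw [hperp _ hj, hwdef, B.pb_lv, lv_xor]
    cases pc j k <;> simp [lv_zero, lv_p]
  refine ⟨?_, ?_, ?_, ?_, ?_, ?_⟩
  · simpa [lv_p] using hg.1
  · have e1 := inT_formula hp hg p'
    rw [B.pp', one_smul, one_smul] at e1
    obtain ⟨e, he⟩ : ∃ e : ZMod 2, g.1 p' = p' + (w + e • p) := by
      refine ⟨(if tv p g + w = 0 then 0 else 1) + pb (p' + pt p) (tv p g), ?_⟩
      have hd : tv p g + w = (if tv p g + w = 0 then (0 : ZMod 2) else 1) • p := by
        split_ifs with h
        · rw [zero_smul, h]
        · rw [one_smul]; exact hw.resolve_left h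
      rw [add_smul, ← hd, ← add_assoc w, add_comm (tv p g) w, add_cancel6, ← e1, add_comm (g.1 p'), add_cancel6]
    have hpw : pb p w = 0 := by rw [← lv_p (p := p) (p' := p') (m := m) (n := n) (u := u) (v := v), B.pb_lv, h1]; simp
    have hp'w : pb p' w = 0 := by
      rw [← lv_p' (p := p) (p' := p') (m := m) (n := n) (u := u) (v := v), B.pb_lv, h2]; simp
    have hw1 : qm w = 1 := by rw [B.qm_lv, hq]; simp
    have hqq := qAut_map g p'
    rw [he, qm_add, qm_add w, quad_smul, B.p0, mul_zero, add_zero, B.p'0, hw1, pb_add_right, pb_smul_right,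
      pb_smul_right, pb_comm w, hpw, mul_zero, add_zero, hp'w, B.p'p, mul_one, zero_add, zero_add] at hqq
    have he1 : e = 1 := (by decide : ∀ a : ZMod 2, 1 + a = 0 → a = 1) e hqq
    simp only [List.getD_cons_succ, List.getD_cons_zero]
    rw [he, he1, one_smul, lv_xor, lv_xor, lv_p', lv_p, add_assoc]
  · simpa [lv_m] using hh 4 (by rw [lv_m]; exact B.pm)
  · simpa [lv_n] using hh 8 (by rw [lv_n]; exact B.pn)
  · simpa [lv_u] using hh 16 (by rw [lv_u]; exact B.pu)
  · simpa [lv_v] using hh 32 (by rw [lv_v]; exact B.pv)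

end CfsgLib.SuzType.Ident
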