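import Cfsg.Agent.Lib.SuzType.Ident.Elems

/-!
Suzuki type: the second involution of the diagram, and the last relation inside the stabiliser.
-/

set_option autoImplicit false
set_option linter.unusedSectionVars false

namespace CfsgLib.SuzType.Ident

open CfsgLib.SuzType CfsgLib.Classical Cfsg Subgroup

variable {G : Type*} [Group G] [Finite G] {z t : G} {Q R : Subgroup G} {π π' : G → V6} {ρ ρ' : G → qAut qm}
  {r s au av : G} {p' m n : V6}

/-- The properties of the second involution. -/
structure Second (z t r au av d : G) (X : Subgroup G) : Prop where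
  dz : d * z = z * d
  dau : d * au = au * d
  dav : d * av = av * d
  d2 : d * d = 1
  cX : ∀ x ∈ X, d * x = x * d
  dr3 : (d * r) ^ 3 = 1
  td4 : (t * d) ^ 4 = z
  conj : IsConj r d

theorem Base.exists_second (K : Base z t Q R π π' ρ ρ' r s au av p' m n) {f0 : G}
    (fz : f0 * z = z * f0) (h5 : f0 ^ 5 = 1) (fau : f0 * au = au * f0) (fav : f0 * av = av * f0)
    (act : Acts (π t) p' m n (π au) (π av) (ρ f0) f0M) (X : Subgroup G)
    (hf : ∀ x ∈ X, f0 * x = x * f0) (hr : ∀ x ∈ X, r * x = x * r) (hs : ∀ x ∈ X, s * x = x * s) :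
    ∃ d, Second z t r au av d X := by
  have S := K.S
  have B := K.B
  have hfC : f0 ∈ centralizer ({z} : Set G) := mem_centralizer_singleton_iff.2 fz
  have hrC : r ∈ centralizer ({z} : Set G) := mem_centralizer_singleton_iff.2 K.rz
  have hsC : s ∈ centralizer ({z} : Set G) := mem_centralizer_singleton_iff.2 K.sz
  set si := f0 * f0 * s * (f0 * (f0 * f0)) with hsi
  have si2 : si * si = 1 := by
    calc si * si = f0 * f0 * s * f0 ^ 5 * (s * (f0 * (f0 * f0))) := by rw [hsi]; simp only [pow_succ, pow_zero]; group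
      _ = f0 * f0 * (s * s) * (f0 * (f0 * f0)) := by rw [h5]; group
      _ = f0 ^ 5 := by rw [K.s2]; simp only [pow_succ, pow_zero]; group
      _ = 1 := h5
  set y := r * si with hy
  set w := y * (y * (y * y)) with hw
  have hyC : y ∈ centralizer ({z} : Set G) :=
    mul_mem hrC (mul_mem (mul_mem (mul_mem hfC hfC) hsC) (mul_mem hfC (mul_mem hfC hfC)))
  have hwC : w ∈ centralizer ({z} : Set G) := mul_mem hyC (mul_mem hyC (mul_mem hyC hyC))
  have ay : Acts (π t) p' m n (π au) (π av) (ρ y) rsM := by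
    rw [hy, hsi, S.rho_mul _ hrC _ (mul_mem (mul_mem (mul_mem hfC hfC) hsC) (mul_mem hfC (mul_mem hfC hfC))),
      S.rho_mul _ (mul_mem (mul_mem hfC hfC) hsC) _ (mul_mem hfC (mul_mem hfC hfC)),
      S.rho_mul _ (mul_mem hfC hfC) _ hsC, S.rho_mul _ hfC _ hfC, S.rho_mul _ hfC _ (mul_mem hfC hfC),
      S.rho_mul _ hfC _ hfC]
    exact acts_mul K.ract (acts_mul (acts_mul (acts_mul act act rfl) K.sact rfl)
      (acts_mul act (acts_mul act act rfl) rfl) rfl) rfl
  have aw : Acts (π t) p' m n (π au) (π av) (ρ w) w3M := by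
    rw [hw, S.rho_mul _ hyC _ (mul_mem hyC (mul_mem hyC hyC)), S.rho_mul _ hyC _ (mul_mem hyC hyC),
      S.rho_mul _ hyC _ hyC]
    exact K.acts_pow_four ay rfl
  have y3 : y * (y * y) ∈ Q := by
    refine (S.rho_ker _ (mul_mem hyC (mul_mem hyC hyC))).1 ?_
    rw [S.rho_mul _ hyC _ (mul_mem hyC hyC), S.rho_mul _ hyC _ hyC]
    exact acts_unique B (acts_congr (acts_mul ay (acts_mul ay ay rfl) rfl) rsM_three) acts_one
  have zb4 : ∀ a ∈ Q, a * a * (a * a) = 1 := fun a ha => by
    rw [S.sq a ha]
    rcases two_cases (qm (π a)) with e | e <;> rw [e]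
    · rw [zb_zero, one_mul]
    · rw [zb_one, S.z2]
  have w3 : w * (w * w) = 1 := by
    rw [← zb4 _ y3, hw]; group
  have yinv : r * y * r = y⁻¹ := by
    refine eq_inv_of_mul_eq_one_left ?_
    calc r * y * r * y = r * r * si * (r * r) * si := by rw [hy]; group
      _ = 1 := by rw [K.r2, one_mul, mul_one, si2]
  have ri : r⁻¹ = r := inv_eq_of_mul_eq_one_right K.r2
  have winv : r * w * r = w⁻¹ := by
    calc r * w * r = r * y * (r⁻¹ * r) * y * (r⁻¹ * r) * y * (r⁻¹ * r) * y * r := by rw [hw]; group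
      _ = (r * y * r) * (r * y * r) * (r * y * r) * (r * y * r) := by rw [ri]; group
      _ = w⁻¹ := by rw [yinv, hw]; group
  set d := w * r * (w * w) with hd
  have wi : w⁻¹ = w * w := inv_eq_of_mul_eq_one_right w3
  have hdc : d = w * r * w⁻¹ := by rw [hd, wi]
  have hdC : d ∈ centralizer ({z} : Set G) := mul_mem (mul_mem hwC hrC) (mul_mem hwC hwC)
  have ad : Acts (π t) p' m n (π au) (π av) (ρ d) dM := by
    rw [hd, S.rho_mul _ (mul_mem hwC hrC) _ (mul_mem hwC hwC), S.rho_mul _ hwC _ hrC, S.rho_mul _ hwC _ hwC]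
    exact acts_mul (acts_mul aw K.ract rfl) (acts_mul aw aw rfl) rfl
  have cent : ∀ x : G, f0 * x = x * f0 → r * x = x * r → s * x = x * s → d * x = x * d := by
    intro x h1 h2 h3
    have c2 : Commute (f0 * f0) x := Commute.mul_left h1 h1
    have csi : Commute si x := (c2.mul_left h3).mul_left ((show Commute f0 x from h1).mul_left c2)
    have cy : Commute y x := (show Commute r x from h2).mul_left csi
    have cw : Commute w x := cy.mul_left (cy.mul_left (cy.mul_left cy))
    exact ((cw.mul_left h2).mul_left (cw.mul_left cw)).eq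
  have d2 : d * d = 1 := by
    calc d * d = w * (r * r) * w⁻¹ := by rw [hdc]; group
      _ = 1 := by rw [K.r2]; group
  refine ⟨d, mem_centralizer_singleton_iff.1 hdC, cent _ fau K.rau K.sau, cent _ fav K.rav K.sav, d2,
    fun x hx => cent x (hf x hx) (hr x hx) (hs x hx), ?_, ?_, isConj_iff.2 ⟨w, hdc.symm⟩⟩
  · have e : d * r = w * w := by
      calc d * r = w * (r * w⁻¹ * r) := by rw [hdc]; group
        _ = w * w := by
            rw [show r * w⁻¹ * r = w by rw [← winv, ← mul_assoc, ← mul_assoc, K.r2, one_mul, mul_assoc, K.r2,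
              mul_one]]
    calc (d * r) ^ 3 = w * (w * w) * (w * (w * w)) := by rw [e]; simp only [pow_succ, pow_zero]; group
      _ = 1 := by rw [w3, one_mul]
  · have htC : t ∈ centralizer ({z} : Set G) := S.le K.C.P.tQ
    set t' := d * t * d⁻¹ with ht'
    have ht'Q : t' ∈ Q := S.conj_mem hdC K.C.P.tQ
    have di : d⁻¹ = d := inv_eq_of_mul_eq_one_right d2
    have hpt : π t' = lv (π t) p' m n (π au) (π av) (dM.getD 0 0) := by
      rw [ht', S.rho_pi d hdC t K.C.P.tQ, ad.1]
    have hpp : pb (π t) (π t') = 1 := by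
      rw [hpt]
      conv_lhs => arg 1; rw [← lv_p (p := π t) (p' := p') (m := m) (n := n) (u := π au) (v := π av)]
      rw [B.pb_lv, dM_p]; simp
    calc (t * d) ^ 4 = (t * (d * t * d)) * (t * (d * t * d)) := by simp only [pow_succ, pow_zero]; group
      _ = (t * t') * (t * t') := by rw [ht', di]
      _ = z := by
        have hq' : qm (π t') = 0 := by
          rw [ht', S.rho_pi d hdC t K.C.P.tQ, qAut_map, B.p0]
        rw [S.sq _ (mul_mem K.C.P.tQ ht'Q), S.pi_mul _ K.C.P.tQ _ ht'Q, qm_add, B.p0, hq', hpp,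
          show (0 : ZMod 2) + 0 + 1 = 1 by decide, zb_one]

/-- The test for the stabiliser of `p`, `u`, `v`. -/
def cubeTest : Bool :=
  (List.range 16).all fun a => (List.range 16).all fun b => (List.range 16).all fun c =>
    let M := [1, a, b, c, 16, 32]
    let cond := pc 1 a && !pc 1 b && !pc 1 c && !qc a && qc b && qc c && pc b c && !pc a b && !pc a c &&
      decide (muM M (muM M M) = e6) && !decide (M = e6)
    !cond || decide (muM (muM M rM) (muM (muM M rM) (muM M rM)) = e6)

theorem cubeTest_eq : cubeTest = true := by decide +kernel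

theorem small_code : ∀ i : Fin 64, pc 16 i.val = false → pc 32 i.val = false → i.val < 16 := by decide +kernel

theorem central_code : ∀ i : Fin 64,
    pc 1 i.val = false → pc 16 i.val = false → pc 32 i.val = false → qc i.val = false → i.val = 0 ∨ i.val = 1 := by
  decide +kernel

theorem qc_basis : qc 2 = false ∧ qc 4 = true ∧ qc 8 = true ∧ pc 1 2 = true ∧ pc 1 4 = false ∧ pc 1 8 = false ∧
    pc 2 4 = false ∧ pc 2 8 = false ∧ pc 4 8 = true ∧ pc 16 2 = false ∧ pc 32 2 = false ∧ pc 16 4 = false ∧
    pc 32 4 = false ∧ pc 16 8 = false ∧ pc 32 8 = false := by decide +kernel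

/-- The last relation. -/
theorem Base.cube_eq_one (K : Base z t Q R π π' ρ ρ' r s au av p' m n) {x b : G}
    (xz : x * z = z * x) (xt : x * t = t * x) (xu : x * au = au * x) (xv : x * av = av * x)
    (xb : x * b = b * x) (rb : r * b = b * r) (x3 : x ^ 3 = 1) (x1 : x ≠ 1)
    (bz : b * z ≠ z * b) (bt : b * t ≠ t * b) (bzt : b * (z * t) ≠ z * t * b) : (x * r) ^ 3 = 1 := by
  have S := K.S
  have B := K.B
  set g := ρ x with hg
  have hxC : x ∈ centralizer ({z} : Set G) := mem_centralizer_singleton_iff.2 xz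
  have hrC : r ∈ centralizer ({z} : Set G) := mem_centralizer_singleton_iff.2 K.rz
  have fx : ∀ {a : G}, a ∈ Q → x * a = a * x → g.1 (π a) = π a := fun {a} ha h => by
    rw [hg, ← S.rho_pi x hxC a ha, h, mul_inv_cancel_right]
  have hp := fx K.C.P.tQ xt
  have hu := fx K.auQ xu
  have hv := fx K.avQ xv
  obtain ⟨a, ha, ea⟩ := B.lv_surj (g.1 p')
  obtain ⟨b', hb, eb⟩ := B.lv_surj (g.1 m)
  obtain ⟨c, hc, ec⟩ := B.lv_surj (g.1 n)
  set M := [1, a, b', c, 16, 32] with hM
  have ax : Acts (π t) p' m n (π au) (π av) g M := by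
    refine ⟨?_, ea.symm, eb.symm, ec.symm, ?_, ?_⟩
    · simp [hM, lv_p, hp]
    · simp [hM, lv_u, hu]
    · simp [hM, lv_v, hv]
  obtain ⟨q2, q4, q8, p12, p14, p18, p24, p28, p48, o2, w2, o4, w4, o8, w8⟩ := qc_basis
  have hqc : ∀ i, qc (apM M i) = qc i := fun i => by
    have h := qAut_map g (lv (π t) p' m n (π au) (π av) i)
    rw [acts_apply ax, B.qm_lv, B.qm_lv] at h
    revert h
    cases qc (apM M i) <;> cases qc i <;> simp
  have hpc : ∀ i j, pc (apM M i) (apM M j) = pc i j := fun i j => by
    have h := pb_map g (lv (π t) p' m n (π au) (π av) i) (lv (π t) p' m n (π au) (π av) j)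
    rw [acts_apply ax, acts_apply ax, B.pb_lv, B.pb_lv] at h
    revert h
    cases pc (apM M i) (apM M j) <;> cases pc i j <;> simp
  have m1 : apM M 1 = 1 := by simp [apM, hM, Nat.testBit_one_eq_true_iff_self_eq_zero]
  have m2 : apM M 2 = a := by
    simp [apM, hM, show (2 : ℕ).testBit 0 = false from rfl, show (2 : ℕ).testBit 1 = true from rfl,
      show (2 : ℕ).testBit 2 = false from rfl, show (2 : ℕ).testBit 3 = false from rfl,
      show (2 : ℕ).testBit 4 = false from rfl, show (2 : ℕ).testBit 5 = false from rfl]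
  have m4 : apM M 4 = b' := by
    simp [apM, hM, show (4 : ℕ).testBit 0 = false from rfl, show (4 : ℕ).testBit 1 = false from rfl,
      show (4 : ℕ).testBit 2 = true from rfl, show (4 : ℕ).testBit 3 = false from rfl,
      show (4 : ℕ).testBit 4 = false from rfl, show (4 : ℕ).testBit 5 = false from rfl]
  have m8 : apM M 8 = c := by
    simp [apM, hM, show (8 : ℕ).testBit 0 = false from rfl, show (8 : ℕ).testBit 1 = false from rfl,
      show (8 : ℕ).testBit 2 = false from rfl, show (8 : ℕ).testBit 3 = true from rfl,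
      show (8 : ℕ).testBit 4 = false from rfl, show (8 : ℕ).testBit 5 = false from rfl]
  have m16 : apM M 16 = 16 := by
    simp [apM, hM, show (16 : ℕ).testBit 0 = false from rfl, show (16 : ℕ).testBit 1 = false from rfl,
      show (16 : ℕ).testBit 2 = false from rfl, show (16 : ℕ).testBit 3 = false from rfl,
      show (16 : ℕ).testBit 4 = true from rfl, show (16 : ℕ).testBit 5 = false from rfl]
  have m32 : apM M 32 = 32 := by
    simp [apM, hM, show (32 : ℕ).testBit 0 = false from rfl, show (32 : ℕ).testBit 1 = false from rfl,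
      show (32 : ℕ).testBit 2 = false from rfl, show (32 : ℕ).testBit 3 = false from rfl,
      show (32 : ℕ).testBit 4 = false from rfl, show (32 : ℕ).testBit 5 = true from rfl]
  have small : ∀ {i k}, i < 64 → apM M k = i → pc 16 k = false → pc 32 k = false → i < 16 := fun {i k} hi e h1 h2 =>
    small_code ⟨i, hi⟩ (by show pc 16 i = false; rw [← e, ← m16, hpc, h1])
      (by show pc 32 i = false; rw [← e, ← m32, hpc, h2])
  have a16 := small ha m2 o2 w2
  have b16 := small hb m4 o4 w4
  have c16 := small hc m8 o8 w8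
  have c1 : pc 1 a = true := by rw [← m1, ← m2, hpc, p12]
  have c2 : pc 1 b' = false := by rw [← m1, ← m4, hpc, p14]
  have c3 : pc 1 c = false := by rw [← m1, ← m8, hpc, p18]
  have c4 : qc a = false := by rw [← m2, hqc, q2]
  have c5 : qc b' = true := by rw [← m4, hqc, q4]
  have c6 : qc c = true := by rw [← m8, hqc, q8]
  have c7 : pc b' c = true := by rw [← m4, ← m8, hpc, p48]
  have c8 : pc a b' = false := by rw [← m2, ← m4, hpc, p24]
  have c9 : pc a c = false := by rw [← m2, ← m8, hpc, p28]
  have hcode : ∀ {N N' : List ℕ} {h : qAut qm}, Acts (π t) p' m n (π au) (π av) h N →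
      Acts (π t) p' m n (π au) (π av) h N' → N.length = 6 → N'.length = 6 → (∀ i ∈ N, i < 64) →
      (∀ i ∈ N', i < 64) → N = N' := by
    intro N N' h h1 h2 l1 l2 b1 b2
    have key : ∀ k, k < 6 → N.getD k 0 = N'.getD k 0 := by
      intro k hk
      refine B.lv_inj (b1 _ ?_) (b2 _ ?_) ?_
      · rw [List.getD_eq_getElem _ _ (by omega)]; exact List.getElem_mem _
      · rw [List.getD_eq_getElem _ _ (by omega)]; exact List.getElem_mem _
      · obtain ⟨u0, u1, u2, u3, u4, u5⟩ := h1
        obtain ⟨v0, v1, v2, v3, v4, v5⟩ := h2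
        interval_cases k
        exacts [u0.symm.trans v0, u1.symm.trans v1, u2.symm.trans v2, u3.symm.trans v3, u4.symm.trans v4,
          u5.symm.trans v5]
    refine List.ext_getElem (by omega) fun k h1' h2' => ?_
    have := key k (by omega)
    rwa [List.getD_eq_getElem _ _ h1', List.getD_eq_getElem _ _ h2'] at this
  have bM : ∀ i ∈ M, i < 64 := by simp [hM]; omega
  have xC2 : x * x ∈ centralizer ({z} : Set G) := mul_mem hxC hxC
  have hg3 : g * (g * g) = 1 := by
    rw [hg, ← S.rho_mul _ hxC _ hxC, ← S.rho_mul _ hxC _ xC2, show x * (x * x) = x ^ 3 by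
      simp only [pow_succ, pow_zero]; group, x3, S.rho_one]
  have bap : ∀ (N : List ℕ), (∀ i ∈ N, i < 64) → ∀ i, apM N i < 64 := by
    intro N hN i
    have hd : ∀ k, N.getD k 0 < 64 := fun k => by
      by_cases hk : k < N.length
      · rw [List.getD_eq_getElem _ _ hk]; exact hN _ (List.getElem_mem _)
      · rw [List.getD_eq_default _ _ (by omega)]; norm_num
    have hi : ∀ (c : Bool) k, (if c then N.getD k 0 else 0) < 2 ^ 6 := fun c k => by
      cases c
      · norm_num
      · exact hd k
    exact Nat.xor_lt_two_pow (Nat.xor_lt_two_pow (Nat.xor_lt_two_pow (Nat.xor_lt_two_pow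
      (Nat.xor_lt_two_pow (hi _ _) (hi _ _)) (hi _ _)) (hi _ _)) (hi _ _)) (hi _ _)
  have bmu : ∀ (N N' : List ℕ), (∀ i ∈ N, i < 64) → ∀ i ∈ muM N N', i < 64 := fun N N' hN i hi => by
    obtain ⟨j, -, rfl⟩ := List.mem_map.1 hi
    exact bap N hN j
  have hM3 : muM M (muM M M) = e6 := by
    refine hcode (acts_mul ax (acts_mul ax ax rfl) rfl) (by rw [hg3]; exact acts_one) rfl rfl
      (bmu _ _ bM) (by decide)
  have hM1 : M ≠ e6 := fun e => x1 (by
    have h1 : g = 1 := acts_unique B (acts_congr ax e) acts_one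
    have hQ : x ∈ Q := (S.rho_ker x hxC).1 h1
    have h4 : x * x * (x * x) = 1 := by
      rw [S.sq x hQ]
      rcases two_cases (qm (π x)) with e | e <;> rw [e]
      · rw [zb_zero, one_mul]
      · rw [zb_one, S.z2]
    calc x = (x * x * (x * x)) * (x ^ 3)⁻¹ := by simp only [pow_succ, pow_zero]; group
      _ = 1 := by rw [h4, x3]; group)
  have htest := cubeTest_eq
  simp only [cubeTest, List.all_eq_true, List.mem_range] at htest
  have h := htest a a16 b' b16 c c16
  simp only [c1, c2, c3, c4, c5, c6, c7, c8, c9, ← hM, hM3, hM1, decide_true, decide_false, Bool.not_false,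
    Bool.not_true, Bool.and_true, Bool.false_or, decide_eq_true_eq] at h
  set y := x * r with hy
  have hyC : y ∈ centralizer ({z} : Set G) := mul_mem hxC hrC
  have ay : Acts (π t) p' m n (π au) (π av) (ρ y) (muM M rM) := by
    rw [hy, S.rho_mul _ hxC _ hrC]; exact acts_mul ax K.ract rfl
  set q := y * (y * y) with hq
  have hqC : q ∈ centralizer ({z} : Set G) := mul_mem hyC (mul_mem hyC hyC)
  have hqQ : q ∈ Q := by
    refine (S.rho_ker q hqC).1 ?_
    rw [hq, S.rho_mul _ hyC _ (mul_mem hyC hyC), S.rho_mul _ hyC _ hyC]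
    exact acts_unique B (acts_congr (acts_mul ay (acts_mul ay ay rfl) rfl) h) acts_one
  have cq : ∀ {a : G}, x * a = a * x → r * a = a * r → q * a = a * q := fun h1 h2 =>
    have cy := Commute.mul_left h1 h2
    (Commute.mul_left cy (Commute.mul_left cy cy)).eq
  have qb := cq xb rb
  have q2' : q * q = 1 := by
    rw [S.sq q hqQ]
    rcases two_cases (qm (π q)) with e | e <;> rw [e]
    · rw [zb_zero]
    · exfalso
      refine bz ?_
      have h2 : q * q = z := by rw [S.sq q hqQ, e, zb_one]
      rw [← h2]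
      exact ((Commute.mul_left qb qb).symm).eq
  have hq0 : qm (π q) = 0 := by
    rcases two_cases (qm (π q)) with e | e
    · exact e
    · rw [S.sq q hqQ, e, zb_one] at q2'; exact absurd q2' S.z1
  obtain ⟨i, hi, ei⟩ := B.lv_surj (π q)
  have hperp : ∀ {w : G} (k : ℕ), w ∈ Q → q * w = w * q → lv (π t) p' m n (π au) (π av) k = π w → pc k i = false := by
    intro w k hw h e
    have := (S.commute_iff hw hqQ).1 h.symm
    rw [← e, ← ei, B.pb_lv] at this
    revert this
    cases pc k i <;> simp
  have hcode' := central_code ⟨i, hi⟩ (hperp 1 K.C.P.tQ (cq xt K.rt) lv_p) (hperp 16 K.auQ (cq xu K.rau) lv_u)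
    (hperp 32 K.avQ (cq xv K.rav) lv_v) (by
      show qc i = false
      rw [← ei, B.qm_lv] at hq0
      revert hq0
      cases qc i <;> simp)
  have hq1 : q = 1 := by
    rcases hcode' with e | e <;> simp only at e <;> subst e
    · rcases (S.pi_ker q hqQ).1 (by rw [← ei, lv_zero]) with h | h
      · exact h
      · exact absurd (h ▸ qb).symm bz
    · rcases S.pi_eq K.C.P.tQ hqQ (by rw [← ei, lv_p]) with h | h
      · exact absurd (h ▸ qb).symm bt
      · exact absurd (h ▸ qb).symm bzt
  rw [hq] at hq1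
  calc y ^ 3 = y * (y * y) := by simp only [pow_succ, pow_zero]; group
    _ = 1 := hq1

end CfsgLib.SuzType.Ident
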