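import Cfsg.Agent.Lib.SuzType.Ident.ThreeData
import Cfsg.Agent.Lib.PresCert.CentBound
import Cfsg.Agent.Lib.PresCert.Chain
import Cfsg.Agent.Lib.Suz.PermData
import Cfsg.Agent.Lib.LeechPSU.U43Check

/-!
# Kernel checks for an element of order three in the presented Suzuki group

The centraliser bound on 1782 points and the action of two commuting elements on 280 sets of points.
-/

set_option autoImplicit false
set_option maxRecDepth 100000

namespace CfsgLib.SuzType.Ident.Three

open CfsgLib.PresCert CfsgLib.Suz CfsgLib.LeechPSU

/-- The levels. -/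
def levs : List PresCert.Level := [lev0, lev1, lev2, lev3]

/-- The points of a set. -/
def ptsOf (a : ℕ) : List ℕ :=
  let P := (ptTab.getD (a / 28) []).getD (a % 28) 0
  (List.range 162).map fun j => (P >>> (11 * j)) % 2048

/-- The bit pattern of a set. -/
def maskOf (a : ℕ) : ℕ := (mskTab.getD (a / 28) []).getD (a % 28) 0

/-- The point of a packed list. -/
def imgAt (L : List ℕ) (p : ℕ) : ℕ := look [L] 128 11 p

theorem levs_ok : levelsOk tab [0] levs = true ∧
    (levs.map fun l => l.pts.length).prod = 251596800 := by
  decide +kernel

theorem x_points : xw.all (fun g => Nat.blt g tab.ng) = true ∧ tab.walk 0 xw = 0 ∧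
    tab.walk 47 xw = 47 ∧ tab.walk 117 xw = 117 ∧ Nat.beq (tab.walk 24 xw) 24 = false ∧
    ((List.range tab.n).filter fun i => Nat.beq (tab.walk i xw) i).length = 162 ∧
    (lev0.pts.filter fun y => Nat.beq (tab.walk y xw) y).length = 56 ∧
    (lev1.pts.filter fun y => Nat.beq (tab.walk y xw) y).length = 10 := by
  decide +kernel

theorem x_count : centCount tab xw [lev2, lev3] [47, 117] [47, 117] [] = 108 := by
  decide +kernel

/-- The words against the base. -/
def wordOk : Bool :=
  gWords.length == 2 && gWords.all (fun w => w.all (fun g => Nat.blt g tab.ng) &&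
      eqBase tab levs (w ++ xw) (xw ++ w)) &&
    [[1], [2], [3, 2, 3]].all (fun w => eqBase tab levs (w ++ xw) (xw ++ w)) &&
    eqBase tab levs (xw ++ xw ++ xw) [] &&
    eqBase tab levs ([3] ++ xw ++ [3]) xw.reverse

theorem words_ok : wordOk = true := by decide +kernel

/-- The packed lists against the walks. -/
def imgOk (L w : List ℕ) : Bool :=
  (List.range 1782).all fun p => Nat.beq (imgAt L p) (tab.walk p w)

theorem img_ok : imgOk img0 (gWords.getD 0 []) = true ∧ imgOk img1 (gWords.getD 1 []) = true ∧
    imgOk img2 xw = true := by
  decide +kernel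

/-- Each pattern consists of the listed points. -/
def setsOk : Bool :=
  (List.range 280).all fun a =>
    nodupB 0 (ptsOf a) && (ptsOf a).all (fun p => Nat.blt p 1782) &&
      Nat.beq ((ptsOf a).foldl (fun acc p => acc ||| 2 ^ p) 0) (maskOf a)

theorem sets_ok : setsOk = true := by decide +kernel

/-- The patterns differ. -/
def distinctOk : Bool :=
  (List.range 280).all fun a => (List.range a).all fun b => !(Nat.beq (maskOf a) (maskOf b))

theorem distinct_ok : distinctOk = true := by decide +kernel

/-- A packed list maps the sets as given. -/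
noncomputable def mapsOk (L : List ℕ) (tgt : ℕ → ℕ) : Bool :=
  (List.range 280).all fun a => Nat.blt (tgt a) 280 &&
    (ptsOf a).all fun p => (maskOf (tgt a)).testBit (imgAt L p)

theorem maps0_ok : mapsOk img0 (fieldAt (U43.codes.getD 0 0)) = true := by decide +kernel

theorem maps1_ok : mapsOk img1 (fieldAt (U43.codes.getD 1 0)) = true := by decide +kernel

theorem maps2_ok : mapsOk img2 id = true := by decide +kernel

end CfsgLib.SuzType.Ident.Three
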